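/- Bender-Glauberman sections 10 - 16, unconditionally. -/
import Cfsg.Agent.H27.BG16d
import Cfsg.Agent.H26.Inst15
import Cfsg.Agent.H24.S15h
import Cfsg.Agent.H27.Sec1011
import Cfsg.Agent.H46.Sec10c
import Cfsg.Agent.H46.Sec10d
import Cfsg.Agent.H23.Sec15b
import Cfsg.Agent.H24.Inst14
import Cfsg.Agent.H23.Sec13
import Cfsg.Agent.H23.Sec12c
import Cfsg.Agent.H52.Sec12b
import Cfsg.Agent.H48.Sec1212
import Cfsg.Agent.H51.Sec12b
import Cfsg.Agent.H51.Sec12a
import Cfsg.Agent.H46.Sec12b
import Cfsg.Agent.H46.Sec12a
import Cfsg.Agent.H51.Sec11
import Cfsg.Agent.H51.Sec10b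
import Cfsg.Agent.H46.Sec10a
import Cfsg.Agent.H51.Final7
import Cfsg.Agent.H51.Final116
import Cfsg.Agent.H47.Final2
import Cfsg.Agent.H47.Final3
import Cfsg.Agent.H47.Final34
import Cfsg.Agent.H48.Final4b

namespace H27
open H46 H50 H51 H23 H24 H26
universe u

instance f10_1 : T10_1.{u} := inferInstance
instance f10_2 : T10_2.{u} := inferInstance
instance f10_3 : T10_3.{u} := inferInstance
instance f10_4 : T10_4.{u} := inferInstance
instance f10_5 : T10_5.{u} := inferInstance
instance f10_6 : T10_6.{u} := inferInstance
instance f10_7 : T10_7.{u} := inferInstance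
instance f10_8 : T10_8.{u} := inferInstance
instance f10_9 : T10_9.{u} := inferInstance
instance f10_10 : T10_10.{u} := inferInstance
instance f10_11 : T10_11.{u} := inferInstance
instance f10_12 : T10_12.{u} := inferInstance
instance f10_13 : T10_13.{u} := inferInstance
instance f10_14 : T10_14.{u} := inferInstance
instance f11_1 : T11_1.{u} := inferInstance
instance f11_2 : T11_2.{u} := inferInstance
instance f11_3 : T11_3.{u} := inferInstance
instance f11_4 : T11_4.{u} := inferInstance
instance f11_5 : T11_5.{u} := inferInstance
instance f11_6 : T11_6.{u} := inferInstance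
instance f11_7 : T11_7.{u} := inferInstance
instance f12_1 : T12_1.{u} := inferInstance
instance f12_2 : T12_2.{u} := inferInstance
instance f12_3 : T12_3.{u} := inferInstance
instance f12_4 : T12_4.{u} := inferInstance
instance f12_5 : T12_5.{u} := inferInstance
instance f12_6 : T12_6.{u} := inferInstance
instance f12_7 : T12_7.{u} := inferInstance
instance f12_8 : T12_8.{u} := inferInstance
instance f12_9 : T12_9.{u} := inferInstance
instance f12_10 : T12_10.{u} := inferInstance
instance f12_11 : T12_11.{u} := inferInstance
instance f12_12 : T12_12.{u} := inferInstance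
instance f12_13 : T12_13.{u} := inferInstance
instance f12_14 : T12_14.{u} := inferInstance
instance f12_15 : T12_15.{u} := inferInstance
instance f12_16 : T12_16.{u} := inferInstance
instance f12_17 : T12_17.{u} := inferInstance
instance f12_18 : T12_18.{u} := inferInstance
instance f12_19 : T12_19.{u} := inferInstance
instance f13_1 : T13_1.{u} := inferInstance
instance f13_2 : T13_2.{u} := inferInstance
instance f13_3 : T13_3.{u} := inferInstance
instance f13_4 : T13_4.{u} := inferInstance
instance f13_5 : T13_5.{u} := inferInstance
instance f13_6 : T13_6.{u} := inferInstance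
instance f13_7 : T13_7.{u} := inferInstance
instance f13_8 : T13_8.{u} := inferInstance
instance f13_9 : T13_9.{u} := inferInstance
instance f13_10 : T13_10.{u} := inferInstance
instance f13_11 : T13_11.{u} := inferInstance
instance f13_12 : T13_12.{u} := inferInstance
instance f13_13 : T13_13.{u} := inferInstance
instance fNeed13 : Need13.{u} := inferInstance
instance f14_1 : T14_1.{u} := inferInstance
instance f14_2 : T14_2.{u} := inferInstance
instance f14_3 : T14_3.{u} := inferInstance
instance f14_4 : T14_4.{u} := inferInstance
instance f14_5 : T14_5.{u} := inferInstance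
instance f14_6 : T14_6.{u} := inferInstance
instance f14_7 : T14_7.{u} := inferInstance
instance f14_8 : T14_8.{u} := inferInstance
instance f14_9 : T14_9.{u} := inferInstance
instance f14_11 : T14_11.{u} := inferInstance
instance f14_12 : T14_12.{u} := inferInstance
instance f14_13 : T14_13.{u} := inferInstance
instance f15_1 : T15_1.{u} := inferInstance
instance f15_2 : T15_2.{u} := inferInstance
instance f15_3 : T15_3.{u} := inferInstance
instance f15_4 : T15_4.{u} := inferInstance
instance f15_5 : T15_5.{u} := inferInstance
instance f15_6 : T15_6.{u} := inferInstance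
instance f15_7 : T15_7.{u} := inferInstance
instance f15_8 : T15_8.{u} := inferInstance
instance f15_9 : T15_9.{u} := inferInstance

/-- The local analysis of a minimal simple group of odd order. -/
theorem ft {G : Type u} [Group G] [Finite G] (hG : Cfsg.IsMinSimpleOddOrder G) :
    H6.FT G := ft_of_min hG

end H27
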