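/- S3101, chapter REC: recognition of `Ω₇(q)` from a frame of seven involutions (blueprints/R7.md). -/
import Cfsg.Agent.H59.OWGF
import Cfsg.Agent.H98.Sylow
import Cfsg.Agent.H1.GSpec

set_option autoImplicit false

namespace H27.R7
open Subgroup Cfsg H98 H1.Gold H56 H58 H12.OW Module QuadraticMap
open scoped MatrixGroups

universe u

section Grp
variable {G : Type u} [Group G]

/-- The frame `t 0, …, t 6` and the component `M` of `C(t 0)`. -/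
structure OF (S M : Subgroup G) (t : Fin 7 → G) : Prop where
  syl : IsSyl 2 S ⊤
  card : Nat.card S = 512
  sq : ∀ i, t i * t i = 1
  com : ∀ i j, t i * t j = t j * t i
  prod : t 0 * t 1 * t 2 * t 3 * t 4 * t 5 * t 6 = 1
  St : S ≤ cen1 (t 0)
  tr : ∀ σ : Equiv.Perm (Fin 7), Equiv.Perm.sign σ = 1 → ∃ g : G, ∀ i, g * t i * g⁻¹ = t (σ i)
  nc2 : ¬ IsConj (t 0) (t 1 * t 2)
  nc3 : ¬ IsConj (t 0) (t 1 * t 2 * t 3)
  Mc : M ≤ cen1 (t 0)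
  cM : cen1 (t 0) ≤ nor M
  perf : ⁅M, M⁆ = M
  cc : cen1 (t 0) ⊓ cen M ≤ zpowers (t 0)
  big : ∀ Y : Subgroup G, ⁅Y, Y⁆ = Y → Y ≤ cen1 (t 0) → Y ≤ M
  tt : ∀ i j, i ≠ 0 → j ≠ 0 → t i * t j ∈ M
  t1 : t 1 ∉ M
  SM : S ≤ M ⊔ zpowers (t 1)

/-- `M / ⟨z⟩` is `L₄(q)` or `U₄(q)`, `q` odd. -/
def Lie6 (M : Subgroup G) (z : G) : Prop :=
  (∃ (K : Type) (_ : Field K) (_ : Fintype K), Odd (Fintype.card K) ∧
    ∃ π : M →* PSL(4, K), Function.Surjective π ∧ ∀ m : M, π m = 1 ↔ (m : G) = 1 ∨ (m : G) = z) ∨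
  ∃ (K : Type) (_ : Field K) (_ : Fintype K) (r : ℕ), Fintype.card K = r ^ 2 ∧ Odd r ∧
    ∃ π : M →* PSU 4 K r, Function.Surjective π ∧ ∀ m : M, π m = 1 ↔ (m : G) = 1 ∨ (m : G) = z

/-- `C(t 0) = M C(t 0, t 1, t 2, t 3)`. -/
def Fr3 (M : Subgroup G) (t : Fin 7 → G) : Prop :=
  ∀ h ∈ cen1 (t 0), ∃ m ∈ M, ∀ k : Fin 7, k.1 ≤ 3 → m * h * t k = t k * (m * h)

end Grp

/-- The conclusion of S3101. -/
def Con (G : Type u) [Group G] : Prop :=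
  Nonempty (G ≃* ↥(alternatingGroup (Fin 12))) ∨ Nonempty (G ≃* ↥(alternatingGroup (Fin 13))) ∨
    (∃ (F : Type) (_ : Field F) (_ : Fintype F), Fintype.card F = 2 ∧ Nonempty (G ≃* Cfsg.PSp 3 F)) ∨
    (∃ (F : Type) (_ : Field F) (_ : Fintype F), (Fintype.card F % 8 = 3 ∨ Fintype.card F % 8 = 5) ∧
      Nonempty (G ≃* Cfsg.POmega F (Cfsg.quadFormOdd 3 F)))

section Geo
variable {F V : Type} [Field F] [AddCommGroup V] [Module F V]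

/-- Every automorphism of `Ω(Q)` is induced by a semisimilarity. -/
def Au (Q : QuadraticForm F V) : Prop :=
  ∀ β : Om Q ≃* Om Q, ∃ T : Gam Q, ∀ x : Om Q, ((β x : Om Q) : O Q) = Gam.conjO Q T x

/-- An orthogonal basis of vectors of norm `c`. -/
structure Frm (Q : QuadraticForm F V) (c : F) {n : ℕ} (ε : Fin n → V) : Prop where
  two : (2 : F) ≠ 0
  nd : Q.polarBilin.Nondegenerate
  ne : c ≠ 0
  norm : ∀ i, Q (ε i) = c
  orth : ∀ i j, i ≠ j → polar Q (ε i) (ε j) = 0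
  dim : finrank F V = n

variable {G : Type u} [Group G]

/-- The isomorphism `Ω₆ → M` is adapted to the frame. -/
structure C6 (Q : QuadraticForm F V) (e : Fin 6 → V) (M : Subgroup G) (t : Fin 7 → G)
    (ψ : Om Q ≃* M) : Prop where
  act : ∀ (k : Fin 6) (x y : Om Q), (y : O Q) = refl Q (e k) * x * refl Q (e k) →
    t k.succ * ψ x * (t k.succ)⁻¹ = ψ y
  val : ∀ k l : Fin 6, k ≠ l → ∀ y : Om Q, (y : O Q) = refl Q (e k) * refl Q (e l) →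
    (ψ y : G) = t k.succ * t l.succ

/-- A chart at `j`. -/
structure Ch (Q : QuadraticForm F V) (ε : Fin 7 → V) (t : Fin 7 → G) (j : Fin 7) (φ : O Q → G) :
    Prop where
  hom : ∀ x ∈ Fx Q {ε j}, ∀ y ∈ Fx Q {ε j}, φ (x * y) = φ x * φ y
  inj : ∀ x ∈ Fx Q {ε j}, φ x = 1 → x = 1
  cen : ∀ x ∈ Fx Q {ε j}, φ x * t j = t j * φ x
  perf : ∀ Y : Subgroup G, ⁅Y, Y⁆ = Y → Y ≤ cen1 (t j) → ∀ g ∈ Y, ∃ x ∈ Fx Q {ε j}, φ x = g
  act : ∀ k, k ≠ j → ∀ x ∈ Fx Q {ε j}, t k * φ x * (t k)⁻¹ = φ (refl Q (ε k) * x * refl Q (ε k))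
  val : ∀ k l, k ≠ j → l ≠ j → k ≠ l → φ (refl Q (ε k) * refl Q (ε l)) = t k * t l

/-- The glued homomorphism. -/
structure Gl (Q : QuadraticForm F V) (ε : Fin 7 → V) (t : Fin 7 → G) (Φ : Om Q →* G) : Prop where
  ch : ∀ j : Fin 7, j.1 ≤ 3 → ∃ φ, Ch Q ε t j φ ∧ ∀ x : Om Q, (x : O Q) (ε j) = ε j → Φ x = φ x
  gen : ∀ K : Subgroup (O Q), (∀ j : Fin 7, j.1 ≤ 3 → Fx Q {ε j} ≤ K) → Om Q ≤ K

end Geo

/-- A property of all quadratic spaces over `F`. -/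
def Ev (F : Type) [Field F]
    (P : ∀ (V : Type) [AddCommGroup V] [Module F V] (_ : QuadraticForm F V), Prop) : Prop :=
  ∀ (V : Type) [AddCommGroup V] [Module F V] [FiniteDimensional F V] (Q : QuadraticForm F V), P V Q

/-- A5: automorphisms of `Ω₅(q)`. -/
def JobA5 : Prop := ∀ (F : Type) [Field F] [Finite F], (2 : F) ≠ 0 → Ev F fun V _ _ Q =>
  Q.polarBilin.Nondegenerate → finrank F V = 5 → Au Q

/-- A6: automorphisms of `Ω₆(q)` containing `-1`. -/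
def JobA6 : Prop := ∀ (F : Type) [Field F] [Finite F], (2 : F) ≠ 0 → Ev F fun V _ _ Q =>
  Q.polarBilin.Nondegenerate → finrank F V = 6 → O.negOne Q ∈ Om Q → Au Q

/-- M6: the component is `Ω₆(q)`. -/
def JobM6 : Prop := ∀ (G : Type u) [Group G] [Finite G] (M E : Subgroup G) (z : G), ⁅M, M⁆ = M →
  z ∈ M → z ≠ 1 → M ≤ cen1 z → Lie6 M z → E ≤ M → (∀ e ∈ E, e * e = 1) → 32 ≤ Nat.card E →
  (Nat.card M).factorization 2 = 8 →
  ∃ (F : Type) (_ : Field F) (_ : Fintype F), (Fintype.card F % 8 = 3 ∨ Fintype.card F % 8 = 5) ∧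
    Ev F fun V _ _ Q => Q.polarBilin.Nondegenerate → finrank F V = 6 → O.negOne Q ∈ Om Q →
      Nonempty (Om Q ≃* M)

/-- E32: the input of M6. -/
def JobE : Prop := ∀ (G : Type u) [Group G] [Finite G] (S M : Subgroup G) (t : Fin 7 → G), OF S M t →
  t 0 ∈ M ∧ t 0 ≠ 1 ∧ (Nat.card M).factorization 2 = 8 ∧
    ∃ E ≤ M, (∀ e ∈ E, e * e = 1) ∧ 32 ≤ Nat.card E

/-- C6: an adapted isomorphism. -/
def JobC6 : Prop := ∀ (F : Type) [Field F] [Finite F], (Nat.card F % 8 = 3 ∨ Nat.card F % 8 = 5) →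
  Ev F fun V _ _ Q => ∀ (c : F) (e : Fin 6 → V), Frm Q c e → Au Q →
    ∀ (G : Type u) [Group G] [Finite G] (S M : Subgroup G) (t : Fin 7 → G), OF S M t →
      Nonempty (Om Q ≃* M) → ∃ ψ, C6 Q e M t ψ

/-- F3: the centralizer modulo `M` fixes four members of the frame. -/
def JobF3 : Prop := ∀ (F : Type) [Field F] [Finite F],
  Ev F fun V _ _ Q => ∀ (c : F) (e : Fin 6 → V), Frm Q c e → Au Q →
    ∀ (G : Type u) [Group G] [Finite G] (S M : Subgroup G) (t : Fin 7 → G), OF S M t →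
      ∀ ψ, C6 Q e M t ψ → Fr3 M t

/-- CH: charts at all seven points. -/
def JobCh : Prop := ∀ (F : Type) [Field F] [Finite F],
  Ev F fun V _ _ Q => ∀ (c : F) (ε : Fin 7 → V), Frm Q c ε →
    ∀ (G : Type u) [Group G] [Finite G] (S M : Subgroup G) (t : Fin 7 → G), OF S M t →
      (∀ e : Fin 6 → H56.perp Q (Submodule.span F {ε 0}), (∀ k, (e k : V) = ε k.succ) →
        ∃ ψ, C6 (Q.restrict (H56.perp Q (Submodule.span F {ε 0}))) e M t ψ) →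
      ∀ j, ∃ φ, Ch Q ε t j φ

/-- GL: gluing. -/
def JobGl : Prop := JobA5 → ∀ (F : Type) [Field F] [Finite F],
  Ev F fun V _ _ Q => ∀ (c : F) (ε : Fin 7 → V), Frm Q c ε →
    ∀ (G : Type u) [Group G] (t : Fin 7 → G), (∀ i j, t i * t j = t j * t i) →
      (∀ j, ∃ φ, Ch Q ε t j φ) →
      ∃ φ : Fin 7 → O Q → G, (∀ j : Fin 7, j.1 ≤ 3 → Ch Q ε t j (φ j)) ∧
        ∀ j k : Fin 7, j.1 ≤ 3 → k.1 ≤ 3 → ∀ x ∈ Om Q, x (ε j) = ε j → x (ε k) = ε k → φ j x = φ k x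

/-- T7: the amalgam of four point stabilizers. -/
def JobT7 : Prop := ∀ (F : Type) [Field F] [Finite F],
  Ev F fun V _ _ Q => ∀ (c : F) (ε : Fin 7 → V), Frm Q c ε →
    ∀ (G : Type u) [Group G] (t : Fin 7 → G) (φ : Fin 7 → O Q → G),
      (∀ j : Fin 7, j.1 ≤ 3 → Ch Q ε t j (φ j)) →
      (∀ j k : Fin 7, j.1 ≤ 3 → k.1 ≤ 3 → ∀ x ∈ Om Q, x (ε j) = ε j → x (ε k) = ε k → φ j x = φ k x) →
      ∃ Φ, Gl Q ε t Φ

/-- IN: the involutions of `Ω₇`. -/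
def JobIn : Prop := ∀ (F : Type) [Field F] [Finite F],
  Ev F fun V _ _ Q => ∀ (c : F) (ε : Fin 7 → V), Frm Q c ε → ∀ x ∈ Om Q, x * x = 1 → x ≠ 1 →
    ∃ g ∈ Om Q, g * x * g⁻¹ = refl Q (ε 1) * refl Q (ε 2) ∨
      g * x * g⁻¹ = refl Q (ε 1) * refl Q (ε 2) * (refl Q (ε 3) * refl Q (ε 4)) ∨
      g * x * g⁻¹ = refl Q (ε 1) * refl Q (ε 2) * (refl Q (ε 3) * refl Q (ε 4)) *
        (refl Q (ε 5) * refl Q (ε 6))

/-- TOP: Holt's theorem. -/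
def JobTop : Prop := JobIn → ∀ (F : Type) [Field F] [Finite F],
  Ev F fun V _ _ Q => ∀ (c : F) (ε : Fin 7 → V), Frm Q c ε →
    ∀ (G : Type u) [Group G] [Finite G] [IsSimpleGroup G], ¬ IsMulCommutative G →
      ∀ (S M : Subgroup G) (t : Fin 7 → G), OF S M t → Fr3 M t → ∀ Φ, Gl Q ε t Φ →
      Nonempty (G ≃* ↥(alternatingGroup (Fin 12))) ∨ Nonempty (G ≃* ↥(alternatingGroup (Fin 13))) ∨
        Nonempty (G ≃* Om Q)

/-- The chapter. -/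
def JobRec : Prop := ∀ (G : Type u) [Group G] [Finite G] [IsSimpleGroup G], ¬ IsMulCommutative G →
  ∀ (S M : Subgroup G) (t : Fin 7 → G), OF S M t → Lie6 M (t 0) → Con G

end H27.R7
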