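import Cfsg.Agent.H85.L3Spec
import Cfsg.Agent.H21.R7Top
import Cfsg.Agent.H99.BenderB
import Cfsg.Agent.H82.Hub
import Cfsg.Agent.S3121

/-! L33 (`blueprints/L33.md`): jobs NC0 and Ho. -/

set_option autoImplicit false

namespace H27.L3

open Subgroup Cfsg H98 H1.Gold H85.FZ H85.S3 H85.DZ H85.L33

universe u

theorem jobNC0 : JobNC0.{u} := by
  intro kit n1 n2 G _ _ _ A hA ty R hR pR
  have : Fact (Nat.Prime 2) := ⟨Nat.prime_two⟩
  by_contra nc
  have h4 : 4 ∣ Nat.card (cen A) := by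
    obtain ⟨k, hk⟩ := IsPGroup.iff_card.1 pR
    refine Dvd.dvd.trans ?_ (card_dvd_of_le hR)
    rcases (by omega : k = 0 ∨ k = 1 ∨ 2 ≤ k) with rfl | rfl | h
    · exact absurd (@isCyclic_of_subsingleton _ _ (Nat.card_eq_one_iff_unique.1 hk).1) nc
    · exact absurd (isCyclic_of_prime_card (p := 2) hk) nc
    · exact hk ▸ pow_dvd_pow 2 h
  have no := n2 kit G A hA ty h4 (n1 kit G A hA ty R hR pR nc)
  have F : generalizedFittingSubgroup G = ⊤ :=
    (inferInstance : (generalizedFittingSubgroup G).Normal).eq_bot_or_eq_top.resolve_left fun e => by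
      have := H14.centralizer_fstar_le (G := G)
      rw [e] at this
      exact bot_ne_top (top_le_iff.1 (le_trans (by simp) this))
  have e : generalizedFittingSubgroup G ≃* G := (MulEquiv.subgroupCongr F).trans topEquiv
  have AF : A ≤ generalizedFittingSubgroup G := F ▸ le_top
  have nK : ¬ A ≤ cen A := fun h =>
    H14.quasi_sub_commutator_ne_bot hA.1 (commutator_eq_bot_iff_le_centralizer.2 h)
  have := e.isSimpleGroup
  rcases Cfsg.Agent.S3121.result this (fun c => nK fun a ha b hb =>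
      congrArg Subtype.val (c.is_comm.comm (⟨b, AF hb⟩ : generalizedFittingSubgroup G) ⟨a, AF ha⟩))
    _ hA.2.1 (fun g hg => Nat.not_even_iff_odd.1 fun ev => by
      rw [← hA.2.2.2] at hg ev
      obtain ⟨r, hr, o⟩ := H14.exists_involution_mem ev.two_dvd
      exact no g hg r hr o) with hn | ⟨M, hM⟩
  · rcases hn.eq_bot_or_eq_top with k | k
    · rw [show cen A = ⊥ from k, card_bot] at h4
      exact absurd h4 (by decide)
    · exact nK (le_top.trans k.ge)
  · have hs : Group.IsSolvable M := H99.se_isSolvable H82.hub hM (H99.se_twoRank_of_simple hM)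
    obtain ⟨y, hy, hy2⟩ := H14.exists_involution_mem (H := cen A) (Dvd.dvd.trans (by decide) h4)
    obtain ⟨t, ht, ht2⟩ := H88.se_exists_involution hM
    obtain ⟨g, hg⟩ := isConj_iff.1 (H88.se_isConj hM (a := ⟨y, F ▸ mem_top y⟩)
      (by rw [← hy2]; exact (orderOf_coe _).symm) ht2)
    have h1 : cj (g : G) A ≤ M.map (generalizedFittingSubgroup G).subtype := by
      rintro _ ⟨c, hc, rfl⟩
      refine ⟨g * ⟨c, AF hc⟩ * g⁻¹, H88.se_centralizer_le hM ht ht2
        (mem_centralizer_singleton_iff.2 ?_), rfl⟩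
      rw [← hg, conj_mul, conj_mul]
      exact congrArg (fun x => g * x * g⁻¹) (Subtype.ext (hy c hc))
    exact H14.quasi_sub_ne_bot hA.1 (cj_eq_bot_iff.1 (H14.eq_bot_of_perfect_of_le_solvable
      (L := cj (g : G) A) (by rw [← cj_commutator, H14.quasi_sub_perfect hA.1]) h1
      (Group.isSolvable_of_surjective (f := (generalizedFittingSubgroup G).subtype.subgroupMap M)
        (MonoidHom.subgroupMap_surjective _ _))))

theorem jobHo : JobHo.{u} := by
  intro kit G _ _ X A x h P PX cP AP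
  have : Fact (Nat.Prime 2) := ⟨Nat.prime_two⟩
  have k := kit G A h.st.ty
  have p := h.pres
  have as := h.st.as
  have := as.normal
  have := as.simple
  by_contra ne
  have SA : cl [x 8, W x [8, 6, 4, 1], W x [7, 5, 4, 1]] ≤ A := h.SA ▸ inf_le_right
  have cz : ∀ i < 10, x i * x 0 = x 0 * x i := fun i hi => by
    have := p.W_eq (w := [i, 0]) (w' := [0, i]) (by revert i; decide +kernel)
    simpa using this
  have zA : x 0 ∈ A := h.zA _ (mem_centralizer_singleton_iff.2 (cz 9 (by decide)).symm) (IsConj.refl _)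
  have oz : orderOf (x 0) = 2 := orderOf_eq_prime (by rw [pow_two, h.sd.zz]) h.sd.z1
  have zX := h.st.AX zA
  have S0 : IsSyl 2 (H x 9) X := h.SX ▸ h.syl.inf_of_le_normalizer le_top (le_top.trans (normalizer_eq_top _).ge)
  have Sc : H x 9 ≤ cen1 (x 0) := H_le fun i hi => mem_centralizer_singleton_iff.2 (cz i (by omega))
  have SP : H x 9 ≤ P := (le_inf S0.le Sc).trans cP
  obtain ⟨σ, σA, tri, -⟩ := k.tri _ _ _ _ h.sd SA
  obtain ⟨g, hg, vy⟩ := h.vy
  have c0 : ∀ {w}, (∃ a ∈ P, a * x 0 * a⁻¹ = w) → ∀ b ∈ P, ∃ a ∈ P, a * x 0 * a⁻¹ = b * w * b⁻¹ := by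
    rintro _ ⟨a, ha, rfl⟩ b hb
    exact ⟨b * a, mul_mem hb ha, by group⟩
  have cv : ∃ a ∈ P, a * x 0 * a⁻¹ = x 8 := ⟨σ, AP σA, tri⟩
  have cy : ∃ a ∈ P, a * x 0 * a⁻¹ = x 1 := vy ▸ c0 cv g (cP hg)
  have cyz : ∃ a ∈ P, a * x 0 * a⁻¹ = x 1 * x 0 := by
    have e := p.W_eq (w := [8, 1]) (w' := [1, 0, 8]) (by decide +kernel)
    have := c0 cy (x 8) (AP h.vA)
    simp only [W_cons, W_nil, mul_one] at e
    rwa [e, ← mul_assoc, mul_inv_cancel_right] at this
  have fus : ∀ w ∈ P, IsConj (x 0) w → ∃ a ∈ P, a * x 0 * a⁻¹ = w := fun w hw c => by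
    have w2 : w ^ 2 ^ 1 = 1 := by
      obtain ⟨b, rfl⟩ := isConj_iff.1 c
      rw [pow_one, pow_two, conj_mul, h.sd.zz, mul_one, mul_inv_cancel]
    obtain ⟨q, hq, le⟩ := (S0.of_le SP PX).exists_cj_le (isPGroup_zpowers w2) (zpowers_le.2 hw)
    have m := le (conj_mem_cj (mem_zpowers w))
    have c' : IsConj (x 0) (q * w * q⁻¹) := c.trans (isConj_iff.2 ⟨q, rfl⟩)
    suffices e : ∃ a ∈ P, a * x 0 * a⁻¹ = q * w * q⁻¹ by
      simpa [mul_assoc] using c0 e q⁻¹ (inv_mem hq)
    rcases h.fb _ m c' with e | ⟨r, hr, e⟩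
    · obtain ⟨l, hl, e⟩ := p.mem (by decide +kernel) (by decide) e
      rw [e] at c' ⊢
      simp only [subs, List.map, List.cons_append, List.nil_append, List.mem_cons, List.not_mem_nil,
        or_false] at hl
      rcases hl with rfl | rfl | rfl | rfl
      · exact absurd (isConj_one_left.1 c') h.sd.z1
      all_goals first | (refine ⟨1, one_mem _, ?_⟩; simp; done) | simpa using cy | simpa using cyz
    · exact e ▸ c0 cv r (SP (H_mono (by decide) hr))
  have c9 : Nat.card ((H x 9).subgroupOf X) = 512 := by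
    rw [Nat.card_congr (subgroupOfEquivOfLe S0.le).toEquiv,
      p.card (by decide +kernel) (by decide) (h.ind.mono (by decide))]
    rfl
  rcases H82.HT.holt as.nab (P.subgroupOf X) (fun e => ne (le_antisymm PX (subgroupOf_eq_top.1 e)))
    ⟨_, zX⟩ (AP zA) ⟨(orderOf_coe _).symm.trans oz, S0.subgroupOf_top.toSylowTop, x_mem (by decide),
      fun y hy => Subtype.ext (mem_centralizer_singleton_iff.1 (Sc hy))⟩
    (fun y hy => cP ⟨y.2, mem_centralizer_singleton_iff.2
      (congrArg Subtype.val (mem_centralizer_singleton_iff.1 hy))⟩)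
    (fun g hg => by
      obtain ⟨a, ha, e⟩ := fus _ hg (isConj_iff.2 ⟨g, rfl⟩)
      exact ⟨⟨a, PX ha⟩, ha, Subtype.ext e⟩) with ⟨-, T, hT⟩ | ⟨n, n5, ⟨e⟩, ⟨φ⟩⟩
  · have pT : IsPGroup 2 ((T : Subgroup X).map X.subtype) := T.isPGroup'.map _
    have An : A ≤ nor ((T : Subgroup X).map X.subtype) := fun a ha =>
      le_normalizer_map X.subtype ⟨⟨a, h.st.AX ha⟩, hT.le (AP ha), rfl⟩
    rcases H14.quasi_sub_normalized h.st.std.1 An with m | m
    · have := pT.isNilpotent
      exact H14.quasi_not_le_solvable h.st.std.1 inferInstance m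
    · have zT : x 0 ∈ (T : Subgroup X).map X.subtype :=
        (isSyl_map_subtype T).le_of_le_normalizer' (isPGroup_zpowers (k := 1) (by
          rw [pow_one, pow_two, h.sd.zz])) (zpowers_le.2 zX) (zpowers_le.2 (An zA)) (mem_zpowers _)
      have := commutator_eq_bot_iff_le_centralizer.1 m ⟨zT, zA⟩ σ σA
      rw [this, mul_inv_cancel_right] at tri
      exact p.ne h.ind (w := [0]) (w' := [8]) (by decide +kernel) (by simpa using tri)
  · have d : 13 ∣ Nat.card (alternatingGroup (Fin (n - 1))) := by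
      rw [← Nat.card_congr φ.toEquiv, Nat.card_congr (subgroupOfEquivOfLe PX).toEquiv]
      exact Dvd.dvd.trans (by rw [k.card]; decide) (card_dvd_of_le AP)
    have : Nontrivial (Fin (n - 1)) := Fin.nontrivial_iff_two_le.2 (by omega)
    have d' := d.mul_left 2
    rw [two_mul_nat_card_alternatingGroup, Nat.card_perm, Nat.card_fin] at d'
    rcases H21.R7T.deg S0.subgroupOf_top c9 n5 e with rfl | rfl <;> exact absurd d' (by decide)

end H27.L3
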