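import Cfsg.Agent.H27.SzZ

/-! `Suz`: the centraliser of the involution `b = v 14`; the pack `FA`. -/

set_option autoImplicit false

namespace H27.SZ

open Subgroup H71 H81 H88 H64.SG H25.ST

local notation "X" => Cfsg.Spor.Suz

theorem bb : v 14 * v 14 = 1 := by simpa using O.eq r5
theorem vv : v 15 * v 15 = 1 := by simpa using O.eq r6
theorem sq_s : v 17 * v 17 = 1 := by simpa using O.eq r7
theorem gg : v 18 * v 18 = 1 := by simpa using O.eq r8
theorem uu : v 20 * v 20 = 1 := by simpa using O.eq r9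
theorem a_eq : v 19 = v 26 * v 24 := by simpa using O.eq r10
theorem sv : v 17 * v 15 = v 15 * v 14 * v 17 := by simpa [mul_assoc] using O.eq r11
theorem sf : v 17 * v 21 = v 24 * v 17 := by simpa using O.eq r12
theorem tb : v 16 * v 14 = v 15 * v 16 := by simpa using O.eq r13
theorem tv' : v 16 * v 15 = v 15 * v 14 * v 16 := by simpa [mul_assoc] using O.eq r14
theorem gb : v 18 * v 14 = v 14 * evw v eps * v 18 := by simpa [mul_assoc, eps] using O.eq r15
theorem gv : v 18 * v 15 = v 15 * evw v eps1 * v 18 := by simpa [mul_assoc, eps1] using O.eq r16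
theorem b_ne : v 14 ≠ 1 := by simpa using O.ne n1
theorem u_ne : v 20 ≠ 1 := by simpa using O.ne n2
theorem gb_ne : v 18 ∉ Cz (v 14) := fun c =>
  O.ne n4 (by simpa using mem_centralizer_singleton_iff.1 c)

theorem cj_of {G : Type*} [Group G] {g x y : G} (h : g * x = y * g) : g * x * g⁻¹ = y := by
  rw [h, mul_inv_cancel_right]

/-- `P = L₃(4)`. -/
noncomputable abbrev P : Subgroup X := gen v PL
/-- `V = C(b, u, ε₂, a)`. -/
noncomputable abbrev Vb : Subgroup X := CL v [[19], [21], [20], [14]]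
/-- `A = V E = C(b, u, ε₂)`. -/
noncomputable abbrev A : Subgroup X := CL v [[21], [20], [14]]
/-- `C(b, u)`. -/
noncomputable abbrev T1 : Subgroup X := CL v [[20], [14]]
/-- `C(b, u, v₁)`. -/
noncomputable abbrev T : Subgroup X := CL v [[15], [20], [14]]

theorem PL_P : ∀ l ∈ PL, v l ∈ P := fun _ h => mem_gen _ h

theorem a_P : v 19 ∈ P := a_eq ▸ mul_mem (PL_P _ (by decide)) (PL_P _ (by decide))

theorem CL_b : CL v [[14]] = Cz (v 14) := by simp [CL_one]

theorem mem_CL1 {L : List ℕ} {y : X} : y ∈ CL v (L.map fun l => [l]) ↔ ∀ l ∈ L, y * v l = v l * y := by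
  simp [mem_CL]

theorem CP : ∀ l ∈ [14, 15, 16], v l ∈ Cs P := fun l hl => by
  have := mem_CL1.1 (O.cl1 clP l hl)
  have h : P ≤ Cz (v l) := gen_le fun k hk => mem_centralizer_singleton_iff.2 (this k hk).symm
  exact fun y hy => mem_centralizer_singleton_iff.1 (h hy)

theorem P_le {l : ℕ} (h : l ∈ [14, 15, 16]) : P ≤ Cz (v l) := fun y hy =>
  mem_centralizer_singleton_iff.2 (CP l h y hy)

theorem s_T1 : v 17 ∈ T1 := by simpa using O.cl cls17 [17] (by simp)

theorem T1_le : T1 ≤ Cz (v 14) := by rw [T1, CL_cons, CL_b]; exact inf_le_left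

theorem s_b : v 17 ∈ Cz (v 14) := T1_le s_T1

theorem chainB {H : Subgroup X} (h : ∀ l ∈ 17 :: PL, v l ∈ H) :
    315 * Nat.card ↥(H ⊓ T1) ≤ Nat.card ↥(H ⊓ Cz (v 14)) ∧
    8 * Nat.card ↥(H ⊓ A) ≤ Nat.card ↥(H ⊓ T1) ∧ 16 * Nat.card ↥(H ⊓ Vb) ≤ Nat.card ↥(H ⊓ A) ∧
    2 * Nat.card ↥(H ⊓ T) ≤ Nat.card ↥(H ⊓ T1) := by
  have a0 := O.st stb0 (k := 315) (by decide +kernel) fun l hl => h l (by revert l; decide)
  rw [CL_b] at a0
  exact ⟨a0, O.st stb1 rfl fun l hl => h l (by revert l; decide),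
    O.st stb2 rfl fun l hl => h l (by revert l; decide),
    O.st stb4 rfl fun l hl => h l (by revert l; decide)⟩

theorem cards : Nat.card T1 ≤ 512 ∧ Nat.card A ≤ 64 ∧ Nat.card Vb ≤ 4 ∧
    2 * Nat.card T ≤ Nat.card T1 := by
  have := chainB (H := ⊤) fun _ _ => trivial
  simp only [top_inf_eq, card_b] at this
  omega

theorem Vb_spec : Nat.card Vb = 4 ∧ ∀ y ∈ Vb, ∃ w ∈ prods [14, 15], y = evw v w :=
  O.enum ndV (k := 4) rfl (O.cl1 clV) cards.2.2.1
theorem A_spec : Nat.card A = 64 ∧ ∀ y ∈ A, ∃ w ∈ prods AL, y = evw v w :=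
  O.enum ndA (k := 64) rfl (O.cl1 clA) cards.2.1
theorem T_spec : Nat.card T = 256 ∧ ∀ y ∈ T, ∃ w ∈ prods TL, y = evw v w :=
  O.enum ndT (k := 256) (by decide +kernel) (O.cl1 clT) (by have := cards; omega)
theorem card_T1 : Nat.card T1 = 512 := by have := cards; have := T_spec.1; omega

theorem Vb_mem {y : X} (h : y ∈ Vb) : y = 1 ∨ y = v 15 ∨ y = v 14 ∨ y = v 14 * v 15 := by
  simpa [prods] using Vb_spec.2 y h

theorem le_of_spec {B H : Subgroup X} {S : List ℕ} (h : ∀ y ∈ B, ∃ w ∈ prods S, y = evw v w)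
    (hS : ∀ l ∈ S, v l ∈ H) : B ≤ H := fun y hy => by
  obtain ⟨w, hw, rfl⟩ := h y hy
  exact evw_mem fun l hl => hS l (prods_ovr w hw l hl)

theorem triv {y : X} (h : y ∈ A) (h' : y ∈ Cz (v 16 * v 19)) : y = 1 := by
  have a := O.st stb3 (k := 64) rfl (H := ⊤) fun _ _ => trivial
  have := cards.2.1
  rw [top_inf_eq, top_inf_eq] at a
  have e : CL v [[16, 19], [21], [20], [14]] = ⊥ := eq_bot_of_card_le _ (by unfold A at this; omega)
  refine mem_bot.1 (e ▸ ?_)
  rw [CL_cons]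
  exact ⟨h, by simpa using h'⟩

/-- `C(b)` is generated by `s`, `b`, `v₁` and `P`. -/
theorem Cb_le {H : Subgroup X} (h : ∀ l ∈ 17 :: PL, v l ∈ H) (h1 : v 14 ∈ H) (h2 : v 15 ∈ H) :
    Cz (v 14) ≤ H := by
  have c := chainB h
  rw [inf_eq_right.2 (le_of_spec Vb_spec.2 (by simpa using ⟨h1, h2⟩)), Vb_spec.1] at c
  exact le_of_card (by rw [card_b]; omega)

theorem Cb_le_NP : Cz (v 14) ≤ Ns P :=
  Cb_le (List.forall_mem_cons.2 ⟨by
    obtain ⟨e, he, e1⟩ : ∃ e ∈ nmP, e.1 = [17] := by decide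
    simpa [e1] using O.nm nmPB e he, fun l hl => le_normalizer (PL_P l hl)⟩)
    (centralizer_le_normalizer _ (CP _ (by simp))) (centralizer_le_normalizer _ (CP _ (by simp)))

theorem P_le_of {N : Subgroup X} (h : P ≤ Ns N) (hu : v 20 ∈ N) : P ≤ N := gen_le fun l hl => by
  obtain ⟨e, he, e1, e2⟩ : ∃ e ∈ cP, e.1 = [20] ∧ e.2.2 = [l] := by revert l; decide
  obtain ⟨c, hc, e3⟩ := O.cj cPB PL_P e he
  rw [e1, e2, evw_cons, evw_cons, evw_nil, mul_one, mul_one] at e3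
  exact e3 ▸ (mem_normalizer_iff.1 (h hc) _).1 hu

theorem pf_P : P ≤ ⁅P, P⁆ := P_le_of (normalizer_commutator_ge_left _ _) (by
  obtain ⟨e, he, e1⟩ : ∃ e ∈ pfu, e.1 = [20] := by decide
  simpa [e1] using O.pf pfuB PL_P e he)

theorem bv : v 14 * v 15 = v 15 * v 14 := by
  simpa using (mem_CL.1 (O.cl1 clV 15 (by simp)) [14] (by simp)).symm

theorem Py_b : Py (v 14) = P := by
  refine le_antisymm ?_ (le_Pf (P_le (by simp)) pf_P)
  have hb : v 14 ∈ Cs P := CP _ (by simp)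
  have n1 : Cz (v 14) ≤ Ns (P ⊔ zpowers (v 14)) := fun g hg =>
    normalizer_inf_normalizer_le_normalizer_sup _ _ ⟨Cb_le_NP hg, by
      show g ∈ Ns _
      rw [mem_Ns_iff, cjs_eq, mp_zpowers, MulAut.conj_apply,
        cj_of (mem_centralizer_singleton_iff.1 hg)]⟩
  have h1 : ⁅Cz (v 14), Cz (v 14)⁆ ≤ P ⊔ zpowers (v 14) := by
    refine comm_le (S := {v 17, v 15}) (Cb_le (List.forall_mem_cons.2 ⟨subset_closure (by simp),
      fun l hl => subset_closure (Or.inl (mem_sup_left (PL_P l hl)))⟩)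
      (subset_closure (Or.inl (mem_sup_right (mem_zpowers _)))) (subset_closure (by simp))) ?_ ?_
    · rintro _ (rfl | rfl)
      exacts [n1 s_b, n1 (mem_centralizer_singleton_iff.2 bv.symm)]
    · have e : v 17 * v 15 * (v 17)⁻¹ * (v 15)⁻¹ = v 14 := by rw [cj_of sv, ← bv]; group
      rintro _ (rfl | rfl) _ (rfl | rfl)
      · simp
      · exact e ▸ mem_sup_right (mem_zpowers _)
      · rw [show v 15 * v 17 * (v 15)⁻¹ * (v 17)⁻¹ = (v 14)⁻¹ by rw [← e]; group]
        exact inv_mem (mem_sup_right (mem_zpowers _))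
      · simp
  have h2 : ⁅P ⊔ zpowers (v 14), P ⊔ zpowers (v 14)⁆ ≤ P := by
    refine comm_le (S := {v 14}) (sup_le (fun y hy => subset_closure (Or.inl hy))
      (zpowers_le.2 (subset_closure (by simp)))) ?_ ?_
    · rintro _ rfl; exact centralizer_le_normalizer _ hb
    · rintro _ rfl _ rfl; simp
  have h3 := (Pf_perf _).trans ((commutator_mono (Pf_le _) (Pf_le _)).trans h1)
  exact (Pf_perf _).trans ((commutator_mono h3 h3).trans h2)

theorem Vy_b : Vy (v 14) = Vb := by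
  rw [Vy, Py_b]
  refine le_antisymm (fun y hy => (mem_CL1 (L := [19, 21, 20, 14])).2 ?_) (le_of_spec Vb_spec.2 ?_)
  · simp only [List.forall_mem_cons]
    exact ⟨(hy.1 _ a_P).symm, (hy.1 _ (PL_P _ (by decide))).symm, (hy.1 _ (PL_P _ (by decide))).symm,
      mem_centralizer_singleton_iff.1 hy.2, by simp⟩
  · simp only [List.forall_mem_cons]
    exact ⟨⟨CP _ (by simp), mem_centralizer_singleton_iff.2 rfl⟩,
      ⟨CP _ (by simp), mem_centralizer_singleton_iff.2 bv.symm⟩, by simp⟩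

theorem Vb_le_A : Vb ≤ A := by rw [Vb, CL_cons]; exact inf_le_left

theorem A_le : A ≤ T1 := by rw [A, CL_cons]; exact inf_le_left

theorem El_A : El A := fun y hy => by
  obtain ⟨w, hw, rfl⟩ := A_spec.2 y hy
  simpa using O.eq (of_allM sqA w hw)

theorem b_V : v 14 ∈ Vb := O.cl1 clV 14 (by simp)
theorem v_V : v 15 ∈ Vb := O.cl1 clV 15 (by simp)

theorem Cb_le_NV : Cz (v 14) ≤ Ns Vb := fun g hg => by
  rw [mem_Ns_iff, ← Vy_b, cj_Vy, cj_of (mem_centralizer_singleton_iff.1 hg)]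

theorem top_b {H : Subgroup X} (h : P ≤ H) (h1 : v 14 ∈ H) (h2 : v 15 ∈ H) (h3 : v 16 ∈ H)
    (h4 : v 18 ∈ H) : H = ⊤ := top fun l hl => by
  obtain ⟨e, he, e1⟩ : ∃ e ∈ g2, e.1 = [l] := by revert l; decide
  have := O.gn g2B (H := H) (by
    simp only [List.forall_mem_cons (l := PL), List.forall_mem_cons (l := 18 :: PL),
      List.forall_mem_cons (l := 16 :: 18 :: PL), List.forall_mem_cons (l := 15 :: 16 :: 18 :: PL)]
    exact ⟨h1, h2, h3, h4, fun l hl => h (PL_P l hl)⟩) e he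
  simpa [e1] using this

theorem eps_P : evw v eps ∈ P := mem_ovr PL_P (by decide +kernel)
theorem eps1_P : evw v eps1 ∈ P := mem_ovr PL_P (by decide +kernel)

theorem g_c : ∀ x ∈ [[16, 19], [20], [21], [22], [23]], v 18 * evw v x = evw v x * v 18 := by
  simpa only [evw_cons, evw_nil, mul_one] using mem_CL.1 (O.cl clg [18] (by simp))

theorem cv_b (β : MulAut X) (hb : β (v 14) = v 14) (h : P ≤ fx β) : Inn β := by
  have hv : β (v 15) ∈ Vb := by
    have e2 : mp β Vb = Vb := by rw [← Vy_b, mp_Vy, hb]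
    exact e2 ▸ (map_mem_mp β).2 v_V
  have fb : v 14 ∈ fx β := hb
  rcases Vb_mem hv with e | e | e | e
  · exact absurd ((map_eq_one_iff _ β.injective).1 e) fun c => by
      have := sv
      rw [c, mul_one, one_mul, right_eq_mul] at this
      exact b_ne this
  · have fv : v 15 ∈ fx β := e
    have hc : (v 16)⁻¹ * β (v 16) ∈ Vb := by
      have q : ∀ y ∈ P, (v 16)⁻¹ * β (v 16) * y = y * ((v 16)⁻¹ * β (v 16)) := fun y hy =>
        rigid (h hy) (by rw [cj_of (CP 16 (by simp) y hy).symm]; exact h hy)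
      rw [← Vy_b, Vy, Py_b]
      exact ⟨fun y hy => (q y hy).symm,
        mem_centralizer_singleton_iff.2 (rigid fb (by rw [cj_of tb]; exact fv))⟩
    obtain ⟨w, hw, e1⟩ := Vb_spec.2 _ hc
    rw [← tvW] at hw
    obtain ⟨p, hp, rfl⟩ := List.mem_map.1 hw
    obtain ⟨p1, p2⟩ := band_iff.1 (of_allM tvB p hp)
    have hq : evw v p.2 ∈ Vb := mem_ovr (by simpa using ⟨b_V, v_V⟩) p1
    have p3 := O.eq p2
    rw [evw_append, evw_cons, evw_nil, mul_one, evw_cons, evw_append, ← e1, ← mul_assoc,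
      mul_inv_cancel_left] at p3
    set γ := (MulAut.conj (evw v p.2))⁻¹ * β with hγ
    have fix : ∀ y ∈ fx β, y * evw v p.2 = evw v p.2 * y → y ∈ fx γ := fun y hy c => by
      show (evw v p.2)⁻¹ * β y * evw v p.2 = y
      rw [show β y = y from hy, mul_assoc, c, inv_mul_cancel_left]
    have hq' : evw v p.2 ∈ Cs P := by rw [← Vy_b, Vy, Py_b] at hq; exact hq.1
    have gP : P ≤ fx γ := fun y hy => fix y (h hy) (hq' y hy)
    have g1 : v 14 ∈ fx γ := fix _ fb (El_A.comm (Vb_le_A b_V) (Vb_le_A hq))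
    have g2 : v 15 ∈ fx γ := fix _ fv (El_A.comm (Vb_le_A v_V) (Vb_le_A hq))
    have g3 : v 16 ∈ fx γ := by
      show (evw v p.2)⁻¹ * β (v 16) * evw v p.2 = v 16
      rw [mul_assoc, ← p3, inv_mul_cancel_left]
    have q : ∀ x ∈ [[16, 19], [20], [21], [22], [23]], evw v x ∈ fx γ →
        (v 18)⁻¹ * γ (v 18) * evw v x = evw v x * ((v 18)⁻¹ * γ (v 18)) := fun x hx c =>
      rigid c (by rwa [cj_of (g_c x hx)])
    have g4 : (v 18)⁻¹ * γ (v 18) = 1 := by
      refine triv (mem_CL.2 ?_) (mem_centralizer_singleton_iff.2 ?_)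
      · simp only [List.forall_mem_cons]
        refine ⟨q _ (by simp) (gP (mem_ovr PL_P (by decide +kernel))),
          q _ (by simp) (gP (mem_ovr PL_P (by decide +kernel))), ?_, by simp⟩
        simpa using rigid g1 (by rw [cj_of gb]; exact mul_mem g1 (gP eps_P))
      · simpa using q [16, 19] (by simp) (by simpa using mul_mem g3 (gP a_P))
    exact ⟨_, (inv_mul_eq_one.1 (aut_eq (top_b gP g1 g2 g3 (inv_mul_eq_one.1 g4).symm))).symm⟩
  · exact absurd (β.injective (e.trans hb.symm)) fun c => by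
      have := sv
      rw [c, bb, one_mul, mul_eq_left] at this
      exact b_ne this
  · exfalso
    have hk : (v 18)⁻¹ * β (v 18) ∈ Cz (v 14) := mem_centralizer_singleton_iff.2
      (rigid fb (by rw [cj_of gb]; exact mul_mem fb (h eps_P)))
    have m := (mem_normalizer_iff.1 (Cb_le_NV hk) _).1 hv
    have e2 := congrArg β (cj_of gv)
    rw [map_mul, map_mul, map_mul, map_inv, show β (evw v eps1) = _ from h eps1_P] at e2
    have e3 : (v 18)⁻¹ * β (v 18) * β (v 15) * ((v 18)⁻¹ * β (v 18))⁻¹ =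
        evw v (18 :: 15 :: 14 :: (eps1 ++ [18])) := by
      calc _ = (v 18)⁻¹ * (β (v 18) * β (v 15) * (β (v 18))⁻¹) * v 18 := by group
        _ = _ := by rw [e2, e, bv, inv_eq_of_mul_eq_one_right gg]; simp [mul_assoc]
    obtain ⟨w, hw, e4⟩ := Vb_spec.2 _ m
    exact O.ne (of_allM neK w hw) (e3.symm.trans e4)

theorem I_u : I (v 20) := by
  obtain ⟨e, he, e1, e2⟩ : ∃ e ∈ cu, e.1 = [0] ∧ e.2.2 = [20] := by decide
  obtain ⟨c, -, e3⟩ := O.cj cuB (H := ⊤) (fun _ _ => trivial) e he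
  rw [e1, e2, evw_cons, evw_cons, evw_nil, mul_one, mul_one] at e3
  exact e3 ▸ I_z.conj c

theorem E_cj {w : List ℕ} (h : w ∈ prods EL) :
    evw v w = 1 ∨ ∃ c ∈ P, c * evw v w * c⁻¹ = v 20 := by
  rw [← u16W] at h
  obtain ⟨e, he, rfl⟩ := List.mem_map.1 h
  obtain ⟨c, hc, e1⟩ := O.cj u16B PL_P e he
  rcases u16R e he with r | r <;> rw [r] at e1
  · left; simpa using e1
  · right; exact ⟨c, hc, by simpa using e1⟩

theorem AP {y : X} (h : y ∈ A) (h' : y ∈ P) : ∃ w ∈ prods EL, y = evw v w := by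
  obtain ⟨w, hw, rfl⟩ := A_spec.2 y h
  exact (u64 w hw).elim (fun c => ⟨w, c, rfl⟩) fun c => absurd h' (notP w c)

theorem AL_A : ∀ l ∈ AL, v l ∈ A := O.cl1 clA

theorem card_E : Nat.card ↥(A ⊓ P) = 16 := by
  classical
  have h1 : ∀ l ∈ EL, v l ∈ A ⊓ P := fun l hl =>
    ⟨AL_A l (by revert l; decide), PL_P l (by revert l; decide)⟩
  refine (O.enum ndE (k := 16) rfl h1 ?_).1
  have : ((A ⊓ P : Subgroup X) : Set X) ⊆ ((prods EL).map (evw v)).toFinset := fun y hy => by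
    obtain ⟨w, hw, rfl⟩ := AP hy.1 hy.2
    exact List.mem_toFinset.2 (List.mem_map_of_mem hw)
  have h2 := Set.ncard_le_ncard this
  rw [Set.ncard_coe_finset] at h2
  exact h2.trans ((List.toFinset_card_le _).trans (by decide))

theorem syl_T1 : Syl T1 (Cz (v 14)) := by
  refine ⟨T1_le, IsPGroup.of_card (n := 9) card_T1, ?_⟩
  have := H12.card_mul_relIndex T1_le
  rw [card_T1, card_b] at this
  rw [show T1.relIndex (Cz (v 14)) = 315 by omega]
  decide

theorem sA : cjs (v 17) A = CL v [[24], [20], [14]] := by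
  have s1 := mem_CL.1 s_T1
  simp only [List.forall_mem_cons, evw_cons, evw_nil, mul_one] at s1
  simp only [A, CL_cons, mp_inf, mp_Cz, MulAut.conj_apply, evw_cons, evw_nil, mul_one,
    cj_of sf, cj_of s1.1, cj_of s1.2.1]
  simp [CL, mp_top]

/-- Elementary abelian subgroups of `C(b, v₁)` are conjugate into `A`. -/
theorem conj_A {Y : Subgroup X} (h : El Y) (h1 : Y ≤ Cz (v 14)) (h2 : Y ≤ Cs Vb) :
    ∃ g ∈ Cz (v 14), cjs g Y ≤ A := by
  obtain ⟨g, hg, h3⟩ : ∃ g ∈ Cz (v 14), cjs g Y ≤ T1 :=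
    (syl_iff.1 syl_T1).exists_cj_le h.isPGroup h1
  have h4 : cjs g Y ≤ Cs Vb := by
    rw [← mem_Ns_iff.1 (Cb_le_NV hg), cjs_eq, cjs_eq, ← mp_Cs]
    exact (mp_le _).2 h2
  have h5 : ∀ y ∈ cjs g Y, y ∈ A ∨ y ∈ cjs (v 17) A := fun y hy => by
    have hT : y ∈ T := by
      rw [T, CL_cons]
      exact ⟨h3 hy, mem_centralizer_singleton_iff.2 (by simpa using (h4 hy _ v_V).symm)⟩
    obtain ⟨w, hw, rfl⟩ := T_spec.2 y hT
    have := of_allM triT w hw
    simp only [Bool.or_eq_true] at this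
    rcases this with (c | c) | c
    · left; rw [A, CL_cons]; exact ⟨h3 hy, mem_centralizer_singleton_iff.2 (O.cm c)⟩
    · right; rw [sA, CL_cons]; exact ⟨h3 hy, mem_centralizer_singleton_iff.2 (O.cm c)⟩
    · exact absurd (by simpa using (h.mp (MulAut.conj g)) _ hy) (O.ne c)
  rcases le_or_le h5 with c | c
  · exact ⟨g, hg, c⟩
  · refine ⟨(v 17)⁻¹ * g, mul_mem (inv_mem s_b) hg, ?_⟩
    rintro _ ⟨y, hy, rfl⟩
    obtain ⟨x, hx, e⟩ := c ⟨y, hy, rfl⟩
    have e' : v 17 * x * (v 17)⁻¹ = g * y * g⁻¹ := e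
    have : (v 17)⁻¹ * g * y * ((v 17)⁻¹ * g)⁻¹ = x := by
      calc _ = (v 17)⁻¹ * (g * y * g⁻¹) * v 17 := by group
        _ = x := by rw [← e']; group
    exact (show (v 17)⁻¹ * g * y * ((v 17)⁻¹ * g)⁻¹ ∈ A from this ▸ hx)

theorem P_le_CV : P ≤ Cs Vb := le_centralizer_iff.1 (by rw [← Vy_b, Vy, Py_b]; exact inf_le_left)

/-- The involutions of `P` are conjugate to `u` in `C(b)`. -/
theorem inv_P {t : X} (h : t ∈ P) (h2 : Inv2 t) : ∃ c ∈ Cz (v 14), c * t * c⁻¹ = v 20 := by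
  have el : El (zpowers t) := by
    rintro _ ⟨k, rfl⟩
    show t ^ k * t ^ k = 1
    rw [← (Commute.refl t).mul_zpow, h2.1, one_zpow]
  obtain ⟨g, hg, h3⟩ := conj_A el (zpowers_le.2 (P_le (by simp) h)) (zpowers_le.2 (P_le_CV h))
  obtain ⟨w, hw, e⟩ := AP (h3 ⟨t, mem_zpowers _, rfl⟩) ((mem_normalizer_iff.1 (Cb_le_NP hg) _).1 h)
  have e' : g * t * g⁻¹ = evw v w := e
  rcases E_cj hw with c | ⟨c, hc, e1⟩
  · exact absurd (by simpa [c] using e') h2.2
  · exact ⟨c * g, mul_mem (P_le (by simp) hc) hg, by rw [← e1, ← e']; group⟩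

theorem pv_b (hF : F0 X) : PV (v 14) where
  ne := by
    rw [Py_b]
    exact fun c => u_ne (mem_bot.1 (c ▸ PL_P 20 (by decide)))
  cv β h1 h2 := cv_b β h1 (Py_b ▸ h2)
  card := Or.inr (by rw [Vy_b, Vb_spec.1])
  mv := ⟨v 17, s_b, fun y hy hn => by
    rw [Vy_b] at hy
    rcases Vb_mem hy with rfl | rfl | rfl | rfl
    · exact absurd (one_mem _) hn
    · exact cj_of sv
    · exact absurd (mem_zpowers _) hn
    · rw [← mul_assoc, mem_centralizer_singleton_iff.1 s_b, mul_assoc _ (v 17), mul_assoc,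
        cj_of sv, mul_assoc]⟩
  g0 Y h1 h2 h3 B h4 h5 := by
    rw [Py_b] at h1 h3
    have hu : v 20 ∈ Y := by
      rcases Nat.even_or_odd (Nat.card Y) with c | c
      · obtain ⟨t, ht⟩ := exists_prime_orderOf_dvd_card' (G := Y) 2 c.two_dvd
        rw [← orderOf_coe] at ht
        obtain ⟨c, hc, e⟩ := inv_P (h1 t.2) ⟨by rw [← pow_two, ← ht, pow_orderOf_eq_one],
          fun e => by simp [e] at ht⟩
        exact e ▸ (mem_normalizer_iff.1 (h2 hc) _).1 t.2
      · exact absurd ((hF.odd _ ⟨bb, b_ne⟩ Y (h1.trans (P_le (by simp))) c h2).le.trans bot_le) h3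
    have h6 := h5 _ hu ⟨uu, u_ne⟩
    exact top_b ((P_le (by simp)).trans h4) (h4 (mem_centralizer_singleton_iff.2 rfl))
      (h4 (mem_centralizer_singleton_iff.2 bv.symm))
      (h6 (mem_centralizer_singleton_iff.2 (CP 16 (by simp) _ (PL_P 20 (by decide))).symm))
      (h6 (mem_centralizer_singleton_iff.2 (by simpa using g_c [20] (by simp))))
  q8 _ N h1 h2 := by
    rw [Py_b] at h1 h2 ⊢
    by_cases hu : v 20 ∈ N
    · exact Or.inl (le_antisymm h1 (P_le_of h2 hu))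
    right
    have h3 : N ⊓ (A ⊓ P) = ⊥ := eq_bot_iff.2 fun y hy => by
      obtain ⟨w, hw, rfl⟩ := AP hy.2.1 hy.2.2
      rcases E_cj hw with c | ⟨c, hc, e⟩
      · exact c
      · exact absurd (e ▸ (mem_normalizer_iff.1 (h2 hc) _).1 hy.1) hu
    have h4 : N.relIndex (A ⊓ P) = 16 := by
      rw [← inf_relIndex_right, h3, relIndex_bot_left, card_E]
    have := normal_subgroupOf_iff_le_normalizer h1 |>.2 h2
    have h5 := relIndex_dvd_index_of_normal (N.subgroupOf P) ((A ⊓ P).subgroupOf P)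
    rw [relIndex_subgroupOf inf_le_right, h4] at h5
    exact (by decide : 8 ∣ 16).trans h5

theorem A_eq : gen v AL = A :=
  le_antisymm (gen_le AL_A) (le_of_spec A_spec.2 fun _ h => mem_gen _ h)

theorem g_N : v 18 ∈ Ns A := by
  obtain ⟨e, he, e1⟩ : ∃ e ∈ nmA, e.1 = [18] := by decide
  simpa [e1, A_eq] using O.nm nmAB e he

theorem x_N : v 16 * v 19 ∈ Ns A := by
  obtain ⟨e, he, e1⟩ : ∃ e ∈ nmA, e.1 = [16, 19] := by decide
  simpa [e1, A_eq] using O.nm nmAB e he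

theorem card48 (h : ¬ I (v 14)) : Nat.card {x // x ∈ A ∧ IsConj (v 14) x} = 48 := by
  classical
  have e : {x | x ∈ A ∧ IsConj (v 14) x} = ((u48.map Prod.fst).map (evw v)).toFinset := by
    ext x
    simp only [Set.mem_ofPred_eq, List.coe_toFinset]
    constructor
    · rintro ⟨h1, h2⟩
      obtain ⟨w, hw, rfl⟩ := A_spec.2 x h1
      refine (u64 w hw).elim (fun c => ?_) List.mem_map_of_mem
      rcases E_cj c with c | ⟨c, -, e⟩
      · exact absurd (isConj_one_left.1 (c ▸ h2)) b_ne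
      · exact absurd (I_u.isConj (h2.trans (isConj_iff.2 ⟨c, e⟩)).symm) h
    · intro hx
      obtain ⟨w, hw, rfl⟩ := List.mem_map.1 hx
      refine ⟨evw_mem fun l hl => AL_A l (u48O w hw l hl), ?_⟩
      obtain ⟨e, he, rfl⟩ := List.mem_map.1 hw
      obtain ⟨c, -, e1⟩ := O.cj u48B (H := ⊤) (fun _ _ => trivial) e he
      rw [u48R e he, evw_cons, evw_nil, mul_one] at e1
      exact (isConj_iff.2 ⟨c, e1⟩).symm
  show Set.ncard {x | x ∈ A ∧ IsConj (v 14) x} = 48
  rw [e, Set.ncard_coe_finset, List.toFinset_card_of_nodup (O.nd nd48)]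
  decide +kernel

theorem fad (hF : F0 X) : FAd (v 0) (v 14) where
  zI := I_z
  bI := ⟨bb, b_ne⟩
  cls := cls
  pz := pv_z
  pb := pv_b hF
  zP := Py_z ▸ mem_centralizer_singleton_iff.2 rfl
  fin := by
    rw [Vy_b, Py_b]
    refine Or.inr ⟨card_Vz, El_A.mono Vb_le_A, fun t h1 h2 => ?_, v 18, evw v eps, eps_P,
      ⟨by simpa [eps, mul_assoc] using O.eq r17, by simpa [eps] using O.ne n3⟩, cj_of gb, ?_⟩
    · obtain ⟨c, -, e⟩ := inv_P h1 h2
      exact I_u.isConj (isConj_iff.2 ⟨c, e⟩).symm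
    · exact (map_mono Vb_le_A).trans ((mem_Ns_iff.1 g_N).le.trans (A_le.trans T1_le))
  c6 _ h := by
    rw [Py_z, card_z] at h
    have := h.trans (card_dvd_of_le (Pf_le (Cz (v 14))))
    rw [card_b] at this
    omega
  s1 hI := by
    rw [Vy_b, Py_b]
    refine ⟨fun Y h1 h2 h3 h4 => ?_, A, le_of_spec A_spec.2 ?_, El_A, A_spec.1, Vb_le_A b_V, ?_,
      fun x h1 h2 => triv h1 (mem_centralizer_singleton_iff.2
        (mem_centralizer_singleton_iff.1 (h2 x_N)).symm)⟩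
    · obtain ⟨g, hg, h5⟩ := conj_A h2
        (h1.trans (sup_le (Vb_le_A.trans (A_le.trans T1_le)) (P_le (by simp))))
        (h1.trans (sup_le (fun y hy x hx => El_A.comm (Vb_le_A hx) (Vb_le_A hy)) P_le_CV))
      have h6 : cjs g Y = A := eq_of_le_of_card_ge h5 (by rw [cjs_eq, card_mp, h3, A_spec.1])
      have h7 := g_N
      rw [← h6, cjs_eq, ← mp_Ns] at h7
      obtain ⟨x, hx, e⟩ := h7
      exact gb_ne (e ▸ mul_mem (mul_mem hg (h4 hx)) (inv_mem hg))
    · intro l hl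
      rcases (by revert l; decide : l = 14 ∨ l = 15 ∨ l ∈ PL) with rfl | rfl | c
      exacts [mem_sup_left b_V, mem_sup_left v_V, mem_sup_right (PL_P l c)]
    · rw [card48 hI]; decide

/-- STS-SuzA. -/
theorem fa (hF : F0 X) : FA X := ⟨_, _, fad hF⟩

end H27.SZ
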