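/- R7, job GL: the charts at four points made compatible. -/
import Cfsg.Agent.H27.R7Spec
import Cfsg.Agent.H38.OWGa

set_option autoImplicit false
set_option linter.unusedSectionVars false

namespace H27.R7
open Cfsg H56 H58 H12.OW Module QuadraticMap Submodule H59.OW
open H38.OWG (perf_range mem2 mem3 nc3 cj_mem cj_fix cj_of_fix gam_neg gam_add perp_step conj_fix)

universe u

variable {F V : Type} [Field F] [Finite F] [AddCommGroup V] [Module F V] [FiniteDimensional F V]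
  {Q : QuadraticForm F V} {c : F} {ε : Fin 7 → V} {G : Type u} [Group G] {t : Fin 7 → G}

/-- Automorphisms of `Fx Q S` of corank five. -/
def AF (Q : QuadraticForm F V) : Prop :=
  ∀ (S Y : Set V) (c : F) (β : O Q → O Q), OS Q S → S.ncard + 5 = finrank F V → c ≠ 0 →
    (∀ v ∈ S, Q v = c) → Y.Nonempty → (∀ y ∈ Y, Q y = c ∧ Orth Q S y) →
    (∀ x ∈ Fx Q S, β x ∈ Fx Q S) → (∀ x ∈ Fx Q S, ∀ x' ∈ Fx Q S, β (x * x') = β x * β x') →
    (∀ x ∈ Fx Q S, β x = 1 → x = 1) →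
    (∀ y ∈ Y, ∀ x ∈ Fx Q S, β (refl Q y * x * refl Q y) = refl Q y * β x * refl Q y) →
    ∃ T : Gam Q, (∀ v ∈ S, T v = v) ∧ (∀ y ∈ Y, T y = y ∨ T y = -y) ∧
      ∀ x ∈ Fx Q S, β x = Gam.conjO Q T x

theorem autf5 (A5 : JobA5) (hQ : Q.polarBilin.Nondegenerate) (h2 : (2 : F) ≠ 0) : AF Q := by
  intro S Y c β hS hk c0 hc ⟨y₀, hy₀⟩ hY m1 m2 m3 m4
  obtain ⟨a, d⟩ := os_nondeg hQ h2 hS
  have hZ := a.perp hQ
  have inj := extO_injective hQ hZ
  have mem {k} := extO_mem_Fx hQ h2 hZ (k := k)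
  choose f f1 f2 using fun k : commutator (O (Q.restrict (H56.perp Q (span F S)))) =>
    (Fx_eq hQ h2 hZ).le (m1 _ (mem k.2))
  let φ : commutator _ →* commutator _ := MonoidHom.mk' (fun k => ⟨f k, f1 k⟩) fun k l =>
    Subtype.ext (inj (by
      simp only [Subgroup.coe_mul, map_mul, f2]
      exact m2 _ (mem k.2) _ (mem l.2)))
  have bij : Function.Bijective φ := Finite.injective_iff_bijective.1
    ((injective_iff_map_eq_one φ).2 fun k h => Subtype.ext (inj (by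
      rw [m3 _ (mem k.2) (by rw [← f2, show f k = 1 from congrArg Subtype.val h, map_one])]
      exact (map_one _).symm)))
  obtain ⟨T₀, hT₀⟩ := A5 F h2 _ _ hZ.restrict (by omega) (MulEquiv.ofBijective φ bij)
  replace hT₀ : ∀ k, f k = Gam.conjO _ T₀ k := hT₀
  have line (y) (hy : y ∈ Y) : ∃ l : F, T₀ ⟨y, orth_iff.1 (hY y hy).2⟩ =
      l • ⟨y, orth_iff.1 (hY y hy).2⟩ := by
    set z : H56.perp Q (span F S) := ⟨y, orth_iff.1 (hY y hy).2⟩
    have q : Q.restrict _ z ≠ 0 := (hY y hy).1.trans_ne c0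
    have q' := mt T₀.Q_apply_eq_zero.1 q
    have := (gs hZ.restrict h2).cen (by omega) (refl _ z * refl _ (T₀ z)) fun x hx => by
      obtain ⟨k, e⟩ := bij.2 ⟨x, hx⟩
      obtain rfl : f k = x := congrArg Subtype.val e
      have k' : refl _ z * k.1 * refl _ z ∈ commutator (O (Q.restrict (H56.perp Q (span F S)))) := by
        simpa only [refl_inv] using Subgroup.Normal.conj_mem inferInstance _ k.2 (refl _ z)
      have e1 : f ⟨_, k'⟩ = refl _ z * f k * refl _ z := inj (by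
        simp only [f2, map_mul, H60.extO_refl]
        exact m4 y hy _ (mem k.2))
      rw [hT₀, map_mul, map_mul, Gam.conjO_refl, ← hT₀] at e1
      rw [mul_assoc, ← mul_left_inj (refl _ (T₀ z)), mul_assoc, e1, ← mul_assoc, ← mul_assoc,
        refl_mul_self, one_mul, mul_assoc (f k), mul_assoc (refl _ z), refl_mul_self, mul_one]
    refine smul_of_refl_neg (Q := Q.restrict _) h2 (fun e => q (by rw [e, map_zero])) ?_
    rcases this with e | e
    · rw [← refl_inv, ← eq_inv_of_mul_eq_one_left e, refl_apply_self q]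
    · have := (gt hZ.restrict h2).rk_mul (refl _ z) (refl _ (T₀ z))
      rw [e, O.rk_negOne h2, rk_refl hZ.restrict q, rk_refl hZ.restrict q'] at this
      omega
  obtain ⟨l, hl⟩ := line y₀ hy₀
  have l0 : l ≠ 0 := fun e => c0 ((hY _ hy₀).1.symm.trans ((T₀.Q_apply_eq_zero
    (v := ⟨y₀, orth_iff.1 (hY _ hy₀).2⟩)).1 (by rw [hl, e, zero_smul, map_zero])))
  set T₁ := Gam.sc _ (Units.mk0 l l0)⁻¹ * T₀ with hT₁
  have cc : T₁.c * T₁.σ c = c := by
    have := T₁.map_Q ⟨y₀, orth_iff.1 (hY _ hy₀).2⟩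
    rw [hT₁, Gam.mul_apply, hl, Gam.sc_apply, Units.val_inv_eq_inv_val, Units.val_mk0,
      inv_smul_smul₀ l0, ← hT₁] at this
    simpa [(hY _ hy₀).1] using this.symm
  obtain ⟨T, t1, t2⟩ := exists_ext hQ h2 hS hc T₁ cc
  refine ⟨T, t1, fun y hy => ?_, fun x hx => ?_⟩
  · obtain ⟨l', hl'⟩ := line y hy
    have e := t2 ⟨y, orth_iff.1 (hY y hy).2⟩
    have q := T₁.map_Q ⟨y, orth_iff.1 (hY y hy).2⟩
    rw [hT₁, Gam.mul_apply, hl', Gam.sc_apply, smul_smul] at e q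
    rw [← hT₁, H56.Q_smul] at q
    generalize (((Units.mk0 l l0)⁻¹ : Fˣ) : F) * l' = s at e q
    have : s * s = 1 := mul_right_cancel₀ c0 (by simpa [(hY y hy).1, cc] using q)
    exact (mul_self_eq_one_iff.1 this).imp (fun k => by simpa [k] using e) fun k => by simpa [k] using e
  · obtain ⟨k, hk, rfl⟩ := (Fx_eq hQ h2 hZ).le hx
    have e : Gam.conjO _ T₀ = Gam.conjO _ T₁ := by rw [hT₁, map_mul, Gam.conjO_sc, one_mul]
    rw [← f2 ⟨k, hk⟩, hT₀, e]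
    refine (gs hQ h2).ext S hS _ _ (fun v hv => ?_) fun z hz => ?_
    · rw [H60.extO_perp _ (le_perp_perp _ (subset_span hv)), Gam.conjO_apply, ← t1 v hv,
        Gam.inv_apply_apply, H60.extO_perp _ (le_perp_perp _ (subset_span hv))]
    · obtain ⟨w, hw⟩ := T₁.surjective ⟨z, orth_iff.1 hz⟩
      obtain rfl : (T₁ w : V) = z := congrArg Subtype.val hw
      rw [H60.extO_mem, Gam.conjO_apply, Gam.conjO_apply, Gam.inv_apply_apply, ← t2 w,
        Gam.inv_apply_apply, H60.extO_mem, t2]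

theorem mem1 {a : V} {x : O Q} : x ∈ Fx Q {a} ↔ x ∈ Om Q ∧ x a = a := by simp [mem_Fx]

theorem Frm.os {n : ℕ} {ε : Fin n → V} (h : Frm Q c ε) {S : Set V} (hS : S ⊆ Set.range ε) : OS Q S := by
  refine ⟨(Set.finite_range ε).subset hS, fun v hv => ?_, fun v hv w hw hne => ?_⟩
  · obtain ⟨i, rfl⟩ := hS hv
    rw [h.norm]; exact h.ne
  · obtain ⟨i, rfl⟩ := hS hv
    obtain ⟨j, rfl⟩ := hS hw
    exact h.orth i j fun e => hne (e ▸ rfl)

theorem Frm.q {n : ℕ} {ε : Fin n → V} (h : Frm Q c ε) (i : Fin n) : Q (ε i) ≠ 0 := by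
  rw [h.norm]; exact h.ne

theorem Frm.vne {n : ℕ} {ε : Fin n → V} (h : Frm Q c ε) {i j : Fin n} (e : i ≠ j) : ε i ≠ ε j := fun k =>
  pself_ne h.two (h.q j) (k ▸ h.orth i j e)

theorem cj_mem1 (h : Frm Q c ε) {i k : Fin 7} (hi : k ≠ i) {x : O Q}
    (hx : x ∈ Fx Q {ε i}) : refl Q (ε k) * x * refl Q (ε k) ∈ Fx Q {ε i} :=
  mem1.2 ⟨cj_mem (mem1.1 hx).1 _, cj_fix (h.orth _ _ hi) (mem1.1 hx).2⟩

theorem Ch.one {j : Fin 7} {φ : O Q → G} (h : Ch Q ε t j φ) : φ 1 = 1 := by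
  have := h.hom 1 (one_mem _) 1 (one_mem _)
  rw [mul_one] at this
  exact left_eq_mul.1 this

theorem Ch.inj' {j : Fin 7} {φ : O Q → G} (h : Ch Q ε t j φ) {x y : O Q}
    (hx : x ∈ Fx Q {ε j}) (hy : y ∈ Fx Q {ε j}) (e : φ x = φ y) : x = y := by
  have h1 := h.hom _ (mul_mem hx (inv_mem hy)) _ hy
  rw [inv_mul_cancel_right, e] at h1
  exact mul_inv_eq_one.1 (h.inj _ (mul_mem hx (inv_mem hy)) (right_eq_mul.1 h1))

/-- `T` fixes every `ε a` up to sign. -/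
def Sgn (ε : Fin 7 → V) (T : Gam Q) : Prop := ∀ a, T (ε a) = ε a ∨ T (ε a) = -ε a

theorem Sgn.inv {T : Gam Q} (h : Sgn ε T) : Sgn ε T⁻¹ := fun a => by
  rcases h a with e | e
  · left
    conv_lhs => rw [← e]
    exact T.inv_apply_apply _
  · right
    have : T (-ε a) = ε a := by rw [gam_neg, e, neg_neg]
    conv_lhs => rw [← this]
    exact T.inv_apply_apply _

theorem Sgn.fix {T : Gam Q} (h : Sgn ε T) {x : O Q} {a : Fin 7} (hx : x (ε a) = ε a) :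
    Gam.conjO Q T x (ε a) = ε a := by
  rw [Gam.conjO_apply]
  rcases h.inv a with e | e
  · rw [e, hx, ← e, T.apply_inv_apply]
    exact e.symm
  · rw [e, map_neg, hx, ← e, T.apply_inv_apply]

theorem Sgn.mem1 {T : Gam Q} (h : Sgn ε T) {i : Fin 7} {x : O Q} (hx : x ∈ Fx Q {ε i}) :
    Gam.conjO Q T x ∈ Fx Q {ε i} :=
  R7.mem1.2 ⟨conjO_mem_commutator T (R7.mem1.1 hx).1, h.fix (R7.mem1.1 hx).2⟩

theorem Sgn.refl {T : Gam Q} (h : Sgn ε T) (a : Fin 7) :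
    Gam.conjO Q T (refl Q (ε a)) = refl Q (ε a) := by
  rw [Gam.conjO_refl]
  rcases h a with e | e
  · rw [e]
  · rw [e, H56.refl_neg]

theorem ch_mod {j : Fin 7} {φ : O Q → G} (h : Ch Q ε t j φ) {T : Gam Q} (hT : Sgn ε T) :
    Ch Q ε t j fun x => φ (Gam.conjO Q T x) := by
  refine ⟨fun x hx y hy => ?_, fun x hx e => ?_, fun x hx => h.cen _ (hT.mem1 hx),
    fun Y hY hc g hg => ?_, fun k a x hx => ?_, fun k l a b e => ?_⟩
  · rw [map_mul, h.hom _ (hT.mem1 hx) _ (hT.mem1 hy)]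
  · exact (map_eq_one_iff _ (Gam.conjO Q T).injective).1 (h.inj _ (hT.mem1 hx) e)
  · obtain ⟨x, hx, e⟩ := h.perf Y hY hc g hg
    refine ⟨_, hT.inv.mem1 hx, ?_⟩
    rw [← MulAut.mul_apply, ← map_mul, mul_inv_cancel, map_one, MulAut.one_apply, e]
  · rw [map_mul, map_mul, hT.refl, h.act k a _ (hT.mem1 hx)]
  · rw [map_mul, hT.refl, hT.refl, h.val k l a b e]

theorem sgn_refl (h : Frm Q c ε) (l : Fin 7) : Sgn ε (Gam.ofO Q (refl Q (ε l))) := fun a => by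
  rw [Gam.ofO_apply]
  by_cases e : l = a
  · subst e; exact .inr (refl_apply_self (h.q l))
  · exact .inl (refl_apply_of_orth (h.orth _ _ e))

theorem ch_cj (h5 : Frm Q c ε) {j : Fin 7} {φ : O Q → G} (h : Ch Q ε t j φ) (l : Fin 7) :
    Ch Q ε t j fun x => φ (refl Q (ε l) * x * refl Q (ε l)) := by
  have := ch_mod h (sgn_refl h5 l)
  simpa only [Gam.conjO_ofO, refl_inv] using this

/-- Two charts differ by a semisimilarity on the common subgroup. -/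
theorem adj (hA : AF Q) (h5 : Frm Q c ε) {j k : Fin 7}
    (hjk : j ≠ k) {φ φ' : O Q → G} (h : Ch Q ε t j φ) (h' : Ch Q ε t k φ') :
    ∃ T : Gam Q, Sgn ε T ∧ T (ε j) = ε j ∧ T (ε k) = ε k ∧
      ∀ x ∈ Fx Q {ε j, ε k}, φ x = φ' (Gam.conjO Q T x) := by
  have hS := gs h5.nd h5.two
  have hd := h5.dim
  have os : OS Q {ε j, ε k} := h5.os (by rintro _ (rfl | rfl) <;> simp)
  have n3 := Set.ncard_pair (h5.vne hjk)
  have pf := hS.perf _ os (by omega)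
  have m1 : ∀ x ∈ Fx Q {ε j, ε k}, x ∈ Fx Q {ε j} := fun x hx =>
    have := mem2.1 hx
    mem1.2 ⟨this.1, this.2.1⟩
  let f : Fx Q {ε j, ε k} →* G :=
    MonoidHom.mk' (fun x => φ x) fun a b => h.hom _ (m1 _ a.2) _ (m1 _ b.2)
  have ex : ∀ x : O Q, ∃ x', x ∈ Fx Q {ε j, ε k} → x' ∈ Fx Q {ε k} ∧ φ' x' = φ x := by
    intro x
    by_cases hx : x ∈ Fx Q {ε j, ε k}
    · obtain ⟨x', a, b⟩ := h'.perf f.range (perf_range pf f) (by
        rintro _ ⟨y, rfl⟩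
        have := h.act k hjk.symm _ (m1 _ y.2)
        rw [cj_of_fix (mem2.1 y.2).2.2, mul_inv_eq_iff_eq_mul] at this
        exact Subgroup.mem_centralizer_singleton_iff.2 this.symm) _ ⟨⟨x, hx⟩, rfl⟩
      exact ⟨x', fun _ => ⟨a, b⟩⟩
    · exact ⟨1, fun e => absurd e hx⟩
  choose β hβ using ex
  have bm : ∀ x ∈ Fx Q {ε j, ε k}, ∀ y ∈ Fx Q {ε j, ε k}, β (x * y) = β x * β y :=
    fun x hx y hy => h'.inj' (hβ _ (mul_mem hx hy)).1 (mul_mem (hβ _ hx).1 (hβ _ hy).1) (by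
      rw [(hβ _ (mul_mem hx hy)).2, h'.hom _ (hβ _ hx).1 _ (hβ _ hy).1, (hβ _ hx).2, (hβ _ hy).2,
        h.hom _ (m1 _ hx) _ (m1 _ hy)])
  let g : Fx Q {ε j, ε k} →* O Q := MonoidHom.mk' (fun x => β x) fun a b => bm _ a.2 _ b.2
  have pj := hS.pf1 g.range (perf_range pf g) (ε j) (h5.q j) (by
    rintro _ ⟨y, rfl⟩
    have h1 := h'.act j hjk _ (hβ _ y.2).1
    rw [(hβ _ y.2).2, ← h.cen _ (m1 _ y.2), mul_inv_cancel_right, ← (hβ _ y.2).2] at h1
    have h2 := h'.inj' (hβ _ y.2).1 (cj_mem1 h5 hjk (hβ _ y.2).1) h1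
    change β y * _ = _ * β y
    conv_rhs => rw [h2]
    rw [← mul_assoc, ← mul_assoc, refl_mul_self, one_mul])
  have bx : ∀ x ∈ Fx Q {ε j, ε k}, β x ∈ Fx Q {ε j, ε k} := fun x hx =>
    have h1 := mem1.1 (hβ _ hx).1
    mem2.2 ⟨h1.1, (pj ⟨⟨x, hx⟩, rfl⟩).2 _ rfl, h1.2⟩
  obtain ⟨T, a1, a2, a3⟩ := hA {ε j, ε k} (ε '' {a | a ≠ j ∧ a ≠ k}) c β os (by omega)
    h5.ne (by rintro _ (rfl | rfl) <;> exact h5.norm _)
    (Set.Nonempty.image _ (by
      change ∃ a, a ≠ j ∧ a ≠ k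
      clear * -; revert j k; decide))
    (by
      rintro _ ⟨a, ⟨b2, b3⟩, rfl⟩
      refine ⟨h5.norm _, ?_⟩
      rintro _ (rfl | rfl)
      exacts [h5.orth _ _ b2.symm, h5.orth _ _ b3.symm]) bx bm
    (fun x hx e => h.inj _ (m1 _ hx) (by rw [← (hβ _ hx).2, e, h'.one]))
    (by
      rintro _ ⟨a, ⟨b2, b3⟩, rfl⟩ x hx
      have h1 := mem2.1 hx
      have h2 : refl Q (ε a) * x * refl Q (ε a) ∈ Fx Q {ε j, ε k} :=
        mem2.2 ⟨cj_mem h1.1 _, cj_fix (h5.orth _ _ b2) h1.2.1, cj_fix (h5.orth _ _ b3) h1.2.2⟩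
      refine h'.inj' (hβ _ h2).1 (cj_mem1 h5 b3 (hβ _ hx).1) ?_
      rw [(hβ _ h2).2, ← h.act a b2 _ (m1 _ hx), ← h'.act a b3 _ (hβ _ hx).1, (hβ _ hx).2])
  refine ⟨T, fun a => ?_, a1 _ (by simp), a1 _ (by simp), fun x hx => ?_⟩
  · by_cases b2 : a = j
    · exact .inl (a1 _ (by simp [b2]))
    by_cases b3 : a = k
    · exact .inl (a1 _ (by simp [b3]))
    exact a2 _ ⟨a, ⟨b2, b3⟩, rfl⟩
  · rw [← a3 x hx, (hβ _ hx).2]

/-- Agreement on the elements fixing two of the vectors. -/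
def A2 (Q : QuadraticForm F V) (ε : Fin 7 → V) (φ φ' : O Q → G) (j k : Fin 7) : Prop :=
  ∀ x ∈ Om Q, x (ε j) = ε j → x (ε k) = ε k → φ x = φ' x

/-- Agreement on the elements fixing three of the vectors. -/
def A3 (Q : QuadraticForm F V) (ε : Fin 7 → V) (φ φ' : O Q → G) (j k l : Fin 7) : Prop :=
  ∀ x ∈ Om Q, x (ε j) = ε j → x (ε k) = ε k → x (ε l) = ε l → φ x = φ' x

theorem adj' (hA : AF Q) (h5 : Frm Q c ε) {j k : Fin 7} (hjk : j ≠ k)
    {φ : O Q → G} (h : Ch Q ε t j φ) (h' : ∃ φ', Ch Q ε t k φ') :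
    ∃ φ', Ch Q ε t k φ' ∧ A2 Q ε φ φ' j k := by
  obtain ⟨φ', h'⟩ := h'
  obtain ⟨T, a, -, -, b⟩ := adj hA h5 hjk h h'
  exact ⟨_, ch_mod h' a, fun x hx e2 e3 => b x (mem2.2 ⟨hx, e2, e3⟩)⟩

theorem two (hA : AF Q) (h5 : Frm Q c ε) {j k l : Fin 7} (hjk : j ≠ k)
    (hjl : j ≠ l) (hkl : k ≠ l) {φ φ' : O Q → G} (h : Ch Q ε t j φ)
    (h' : Ch Q ε t k φ') (ha : A3 Q ε φ φ' j k l) :
    A2 Q ε φ φ' j k ∨ A2 Q ε φ (fun x => φ' (refl Q (ε l) * x * refl Q (ε l))) j k := by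
  have hS := gs h5.nd h5.two
  have hd := h5.dim
  obtain ⟨T, sg, t2, t3, b⟩ := adj hA h5 hjk h h'
  have os3 : OS Q {ε j, ε k} := h5.os (by rintro _ (rfl | rfl) <;> simp)
  have os4 : OS Q {ε j, ε k, ε l} := h5.os (by rintro _ (rfl | rfl | rfl) <;> simp)
  have n4 := nc3 (ε j) (ε k) (ε l)
  obtain ⟨hσ, a, ha0, hT⟩ := hS.cs _ os4 (by omega) T fun x hx => .inl (by
    obtain ⟨e0, e2, e3, e4⟩ := mem3.1 hx
    have m : x ∈ Fx Q {ε k} := mem1.2 ⟨e0, e3⟩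
    refine h'.inj' (sg.mem1 m) m ?_
    rw [← b x (mem2.2 ⟨e0, e2, e3⟩), ha x e0 e2 e3 e4])
  obtain ⟨m, m2, m3, m4⟩ : ∃ m : Fin 7, j ≠ m ∧ k ≠ m ∧ l ≠ m := by
    clear * -; revert j k l; decide
  have om : Orth Q {ε j, ε k, ε l} (ε m) := by
    rintro _ (rfl | rfl | rfl)
    exacts [h5.orth _ _ m2, h5.orth _ _ m3, h5.orth _ _ m4]
  have ol : Orth Q {ε j, ε k} (ε l) := by
    rintro _ (rfl | rfl)
    exacts [h5.orth _ _ hjl, h5.orth _ _ hkl]
  have m0 : ε m ≠ 0 := fun e => h5.q m (by rw [e, map_zero])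
  have a1 : a = 1 ∨ a = -1 := by
    have e := hT _ om
    rcases sg m with f | f
    · exact .inl (smul_left_injective F m0 (show a • ε m = (1 : F) • ε m by rw [← e, f, one_smul]))
    · exact .inr (smul_left_injective F m0
        (show a • ε m = (-1 : F) • ε m by rw [← e, f, neg_one_smul]))
  have o4 : ∀ z, Orth Q {ε j, ε k} z → polar Q (ε l) z = 0 →
      Orth Q {ε j, ε k, ε l} z := fun z hz e => by
    rintro _ (rfl | rfl | rfl)
    exacts [hz _ (by simp), hz _ (by simp), e]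
  have tl : T (ε l) = a • ε l ∨ T (ε l) = -(a • ε l) := by
    rcases a1 with rfl | rfl <;> rcases sg l with f | f <;> simp [f]
  rcases tl with tl | tl
  · refine .inl fun x hx e2 e3 => ?_
    have mx := mem2.2 ⟨hx, e2, e3⟩
    rw [b x mx, conj_fix hS os3 ha0 (by rintro _ (rfl | rfl) <;> assumption)
      (perp_step h5.two hσ (h5.q l) ol tl fun z hz e => hT z (o4 z hz e)) mx]
  · refine .inr fun x hx e2 e3 => ?_
    have mx := mem2.2 ⟨hx, e2, e3⟩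
    have key := conj_fix hS os3 (T := Gam.ofO Q (refl Q (ε l)) * T) ha0 (by
      rintro _ (rfl | rfl) <;> rw [Gam.mul_apply, Gam.ofO_apply]
      · rw [t2, refl_apply_of_orth (h5.orth _ _ hjl.symm)]
      · rw [t3, refl_apply_of_orth (h5.orth _ _ hkl.symm)])
      (perp_step h5.two (by rw [Gam.mul_σ, hσ, Gam.ofO_σ, one_mul]) (h5.q l) ol (by
        rw [Gam.mul_apply, Gam.ofO_apply, tl, map_neg, map_smul, refl_apply_self (h5.q l),
          smul_neg, neg_neg]) fun z hz e => by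
        rw [Gam.mul_apply, Gam.ofO_apply, hT z (o4 z hz e), map_smul, refl_apply_of_orth e]) mx
    rw [map_mul, MulAut.mul_apply, Gam.conjO_ofO, refl_inv] at key
    rw [b x mx]
    change φ' _ = φ' _
    conv_rhs => rw [← key]
    rw [← mul_assoc, ← mul_assoc, refl_mul_self, one_mul, mul_assoc, refl_mul_self, mul_one]

theorem one (h5 : Frm Q c ε) : ∃ x ∈ Fx Q {ε 2, ε 3, ε 1}, refl Q (ε 0) * x * refl Q (ε 0) ≠ x := by
  have hd := h5.dim
  have os4 : OS Q {ε 2, ε 3, ε 1} := h5.os (by rintro _ (rfl | rfl | rfl) <;> simp)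
  have n4 := nc3 (ε 2) (ε 3) (ε 1)
  obtain ⟨g, g1, g2⟩ := (gt h5.nd h5.two).tr _ os4 (by omega) (ε 0) (ε 4) (h5.q 0)
    (by rw [h5.norm, h5.norm]) (by rintro _ (rfl | rfl | rfl) <;> exact h5.orth _ _ (by decide))
    (by rintro _ (rfl | rfl | rfl) <;> exact h5.orth _ _ (by decide))
  refine ⟨g, g1, fun e => ?_⟩
  have e1 := congrArg (fun x : O Q => x (ε 0)) e
  simp only [O.mul_apply] at e1
  rw [refl_apply_self (h5.q 0), map_neg, g2, map_neg, refl_apply_of_orth (h5.orth _ _ (by decide))] at e1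
  exact h5.q 4 (by rw [eq_zero_of_neg h5.two e1, map_zero])

theorem fixup (hA : AF Q) (h5 : Frm Q c ε) {j k l : Fin 7} (hjk : j ≠ k)
    (hjl : j ≠ l) (hkl : k ≠ l) {φ φ' : O Q → G} (h : Ch Q ε t j φ)
    (h' : Ch Q ε t k φ') (ha : A3 Q ε φ φ' j k l) :
    ∃ φ'', Ch Q ε t k φ'' ∧ A2 Q ε φ φ'' j k ∧ ∀ x : O Q, x (ε l) = ε l → φ' x = φ'' x := by
  rcases two hA h5 hjk hjl hkl h h' ha with e | e
  · exact ⟨φ', h', e, fun _ _ => rfl⟩
  · exact ⟨_, ch_cj h5 h' l, e, fun x hx => by rw [cj_of_fix hx]⟩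

theorem jobGl : JobGl.{u} := by
  intro A5 F _ _ V _ _ _ Q c ε h5 G _ t _ hex
  have hA := autf5 A5 h5.nd h5.two
  obtain ⟨p0, c0⟩ := hex 0
  obtain ⟨p1, c1, a01⟩ := adj' hA h5 (k := 1) (by decide) c0 (hex _)
  have step : ∀ k : Fin 7, 0 ≠ k → 1 ≠ k →
      ∃ p, Ch Q ε t k p ∧ A2 Q ε p0 p 0 k ∧ A2 Q ε p1 p 1 k := fun k k0 k1 => by
    obtain ⟨q, cq, aq⟩ := adj' hA h5 k0 c0 (hex _)
    obtain ⟨p, cp, ap, e⟩ := fixup hA h5 (l := 0) k1 (by decide) k0.symm c1 cq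
      fun x hx e1 ek e0 => (a01 x hx e0 e1).symm.trans (aq x hx e0 ek)
    exact ⟨p, cp, fun x hx e0 ek => (aq x hx e0 ek).trans (e x e0), ap⟩
  obtain ⟨p2, c2, a02, a12⟩ := step 2 (by decide) (by decide)
  obtain ⟨p3, c3, a03, a13⟩ := step 3 (by decide) (by decide)
  have a23 : A2 Q ε p2 p3 2 3 := by
    refine (two hA h5 (l := 0) (by decide) (by decide) (by decide) c2 c3
      fun x hx e2 e3 e0 => (a02 x hx e0 e2).symm.trans (a03 x hx e0 e3)).resolve_right fun e => ?_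
    obtain ⟨x, hx, ne⟩ := one h5
    obtain ⟨e0, e2, e3, e1⟩ := mem3.1 hx
    have mx : x ∈ Fx Q {ε 3} := mem1.2 ⟨e0, e3⟩
    exact ne (c3.inj' (cj_mem1 h5 (by decide) mx) mx
      ((e x e0 e2 e3).symm.trans ((a12 x e0 e1 e2).symm.trans (a13 x e0 e1 e3))))
  have sw : ∀ {j k : Fin 7} {p q : O Q → G}, A2 Q ε p q j k → A2 Q ε q p k j :=
    fun h x hx ek ej => (h x hx ej ek).symm
  refine ⟨![p0, p1, p2, p3, p0, p0, p0], fun j hj => ?_, fun j k hj hk => ?_⟩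
  · fin_cases j
    all_goals first | exact absurd hj (by decide) | assumption
  · fin_cases j <;> fin_cases k
    all_goals first
      | exact absurd hj (by decide) | exact absurd hk (by decide) | exact fun _ _ _ _ => rfl
      | exact a01 | exact a02 | exact a03 | exact a12 | exact a13 | exact a23
      | exact sw a01 | exact sw a02 | exact sw a03 | exact sw a12 | exact sw a13 | exact sw a23

end H27.R7
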