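/- R7, job CH: charts at all seven points. -/
import Cfsg.Agent.H27.R7G

set_option autoImplicit false
set_option linter.unusedSectionVars false

namespace H27.R7
open Cfsg H56 H58 H12.OW Module QuadraticMap Submodule H59.OW
open H38.OWG (cj_mem)

universe u

variable {F V : Type} [Field F] [Finite F] [AddCommGroup V] [Module F V] [FiniteDimensional F V]
  {Q : QuadraticForm F V} {c : F} {ε : Fin 7 → V} {G : Type u} [Group G] {t : Fin 7 → G}

theorem Ch.transport {j : Fin 7} {φ : O Q → G} (h : Ch Q ε t j φ) {σ : Equiv.Perm (Fin 7)} {g : G}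
    (hg : ∀ j, g * t j * g⁻¹ = t (σ j)) {P : O Q} (hP : ∀ x, P (ε x) = ε (σ x)) :
    Ch Q ε t (σ j) fun x => g * φ (P⁻¹ * x * P) * g⁻¹ := by
  have nm : (Om Q).Normal := inferInstance
  have m1 : ∀ x ∈ Fx Q {ε (σ j)}, P⁻¹ * x * P ∈ Fx Q {ε j} := fun x hx =>
    mem1.2 ⟨by simpa using nm.conj_mem _ hx.1 P⁻¹, by
      rw [O.mul_apply, O.mul_apply, hP, (mem1.1 hx).2, ← hP, O.inv_apply_apply]⟩
  have m2 : ∀ x ∈ Fx Q {ε j}, P * x * P⁻¹ ∈ Fx Q {ε (σ j)} := fun x hx =>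
    mem1.2 ⟨nm.conj_mem _ hx.1 P, by
      rw [O.mul_apply, O.mul_apply, ← hP, O.inv_apply_apply, (mem1.1 hx).2]⟩
  have rr : ∀ k, P⁻¹ * refl Q (ε (σ k)) * P = refl Q (ε k) := fun k => by
    rw [← hP, ← conj_refl]; group
  refine ⟨fun x hx y hy => ?_, fun x hx e => ?_, fun x hx => ?_,
    fun Y hY hc y hy => ?_, fun k a x hx => ?_, fun k l a b e => ?_⟩
  · rw [show P⁻¹ * (x * y) * P = P⁻¹ * x * P * (P⁻¹ * y * P) by group, h.hom _ (m1 x hx) _ (m1 y hy)]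
    group
  · have := h.inj _ (m1 x hx) (conj_eq_one_iff.1 e)
    simpa using conj_eq_one_iff.1 (show P⁻¹ * x * P⁻¹⁻¹ = 1 by rwa [inv_inv])
  · rw [← hg, conj_mul, conj_mul, h.cen _ (m1 x hx)]
  · obtain ⟨x, hx, e⟩ := h.perf (Y.map (MulAut.conj g⁻¹).toMonoidHom)
      (by rw [← Subgroup.map_commutator, hY]) (by
        rintro _ ⟨z, hz, rfl⟩
        have := Subgroup.mem_centralizer_singleton_iff.1 (hc hz)
        rw [← hg] at this
        refine Subgroup.mem_centralizer_singleton_iff.2 ?_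
        change g⁻¹ * z * g⁻¹⁻¹ * t j = t j * (g⁻¹ * z * g⁻¹⁻¹)
        calc _ = g⁻¹ * (z * (g * t j * g⁻¹)) * g := by group
          _ = _ := by rw [this]; group) _ ⟨y, hy, rfl⟩
    refine ⟨_, m2 x hx, ?_⟩
    rw [show P⁻¹ * (P * x * P⁻¹) * P = x by group, e]
    simp [mul_assoc]
  · obtain ⟨k, rfl⟩ := σ.surjective k
    rw [show P⁻¹ * (refl Q (ε (σ k)) * x * refl Q (ε (σ k))) * P = P⁻¹ * refl Q (ε (σ k)) * P *
      (P⁻¹ * x * P) * (P⁻¹ * refl Q (ε (σ k)) * P) by group, rr,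
      ← h.act k (fun e => a (e ▸ rfl)) _ (m1 x hx), ← hg]
    group
  · obtain ⟨k, rfl⟩ := σ.surjective k
    obtain ⟨l, rfl⟩ := σ.surjective l
    rw [show P⁻¹ * (refl Q (ε (σ k)) * refl Q (ε (σ l))) * P = P⁻¹ * refl Q (ε (σ k)) * P *
      (P⁻¹ * refl Q (ε (σ l)) * P) by group, rr, rr, h.val k l (fun e => a (e ▸ rfl))
      (fun e => b (e ▸ rfl)) (fun e' => e (e' ▸ rfl)), ← conj_mul, hg, hg]

theorem jobCh : JobCh.{u} := by
  intro F _ _ V _ _ _ Q c ε f G _ _ S M t of hC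
  have hZ := (os_nondeg f.nd f.two (f.os (S := {ε 0}) (by simp))).1.perp f.nd
  let e : Fin 6 → H56.perp Q (span F {ε 0}) := fun k => ⟨ε k.succ, orth_iff.1 (by
    rintro _ rfl; exact f.orth _ _ (Fin.succ_ne_zero k).symm)⟩
  obtain ⟨ψ, hψ⟩ := hC e fun _ => rfl
  have inj := extO_injective f.nd hZ
  have li := Function.leftInverse_invFun inj
  classical
  let φ : O Q → G := fun x => if h : Function.invFun (H60.extO f.nd hZ) x ∈ Om _ then ψ ⟨_, h⟩ else 1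
  have hφ : ∀ o : Om (Q.restrict (H56.perp Q (span F {ε 0}))), φ (H60.extO f.nd hZ o) = ψ o := fun o => by
    simp only [φ, li _, o.2, dif_pos]
  have ex : ∀ x ∈ Fx Q {ε 0}, ∃ o : Om (Q.restrict (H56.perp Q (span F {ε 0}))),
      H60.extO f.nd hZ o = x := fun x hx => by
    obtain ⟨o, ho, e⟩ := (Fx_eq f.nd f.two hZ).le hx
    exact ⟨⟨o, ho⟩, e⟩
  have er : ∀ k : Fin 6, H60.extO f.nd hZ (refl _ (e k)) = refl Q (ε k.succ) := fun k => H60.extO_refl _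
  have h0 : Ch Q ε t 0 φ := by
    refine ⟨fun x hx y hy => ?_, fun x hx h => ?_, fun x hx => ?_, fun Y hY hc y hy => ?_,
      fun k a x hx => ?_, fun k l a b n => ?_⟩
    · obtain ⟨o, rfl⟩ := ex x hx
      obtain ⟨o', rfl⟩ := ex y hy
      rw [← map_mul, ← Subgroup.coe_mul, hφ, hφ, hφ, map_mul, Subgroup.coe_mul]
    · obtain ⟨o, rfl⟩ := ex x hx
      rw [hφ, OneMemClass.coe_eq_one, map_eq_one_iff _ ψ.injective] at h
      rw [h, OneMemClass.coe_one, map_one]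
    · obtain ⟨o, rfl⟩ := ex x hx
      rw [hφ]
      exact Subgroup.mem_centralizer_singleton_iff.1 (of.Mc (ψ o).2)
    · obtain ⟨o, ho⟩ := ψ.surjective ⟨y, of.big Y hY hc hy⟩
      exact ⟨_, extO_mem_Fx f.nd f.two hZ o.2, by rw [hφ, ho]⟩
    · obtain ⟨k, rfl⟩ := Fin.exists_succ_eq.2 a
      obtain ⟨o, rfl⟩ := ex x hx
      rw [← er, ← map_mul, ← map_mul, hφ, hψ.act k o ⟨_, cj_mem o.2 (e k)⟩ rfl, ← hφ]
    · obtain ⟨k, rfl⟩ := Fin.exists_succ_eq.2 a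
      obtain ⟨l, rfl⟩ := Fin.exists_succ_eq.2 b
      have m := refl_mul_refl_mem_commutator hZ.restrict (u := e k) (v := e l) (f.q _) (f.q _)
        (congrArg sqcl ((f.norm _).trans (f.norm _).symm))
      rw [← er, ← er, ← map_mul, ← hψ.val k l (fun h => n (h ▸ rfl)) ⟨_, m⟩ rfl, ← hφ]
  intro j
  obtain ⟨σ, s1, rfl⟩ : ∃ σ : Equiv.Perm (Fin 7), Equiv.Perm.sign σ = 1 ∧ σ 0 = j := by
    obtain ⟨a, b, h1, h2, h3⟩ : ∃ a b : Fin 7, a ≠ b ∧ a ≠ 0 ∧ b ≠ 0 := ⟨1, 2, by decide⟩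
    by_cases e : j = 0
    · exact ⟨1, rfl, e.symm⟩
    · exact ⟨Equiv.swap 0 j * Equiv.swap a b, by simp [h1, Ne.symm e], by
        simp [Equiv.swap_apply_of_ne_of_ne h2.symm h3.symm]⟩
  obtain ⟨g, hg⟩ := of.tr σ s1
  obtain ⟨P, hP⟩ := witt_family f.nd ε (fun i => ε (σ i)) (ind_of_orth f.two f.q f.orth)
    (ind_of_orth f.two (fun _ => f.q _) fun i j n => f.orth _ _ (σ.injective.ne n))
    (fun _ => (f.norm _).trans (f.norm _).symm) fun i j n => by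
      rw [f.orth _ _ n, f.orth _ _ (σ.injective.ne n)]
  exact ⟨_, h0.transport hg hP⟩

end H27.R7
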