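/- R7, job T7: the amalgam of four point stabilizers in dimension seven. -/
import Cfsg.Agent.H27.R7Spec
import Cfsg.Agent.H27.R7T0
import Cfsg.Agent.H39.OWT1

set_option autoImplicit false

namespace H27.R7
open Subgroup Cfsg H56 H58 H12.OW Module QuadraticMap H59.OW H39.OW

universe u

variable {F V : Type} [Field F] [Finite F] [AddCommGroup V] [Module F V] [FiniteDimensional F V]
  {Q : QuadraticForm F V} {c : F} {ε : Fin 7 → V}

theorem cn3 (f : Frm Q c ε) {y1 y2 y3 : V} (q : Q y1 = c) :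
    ∃ z, Q z = c ∧ polar Q y1 z = 0 ∧ polar Q y2 z = 0 ∧ polar Q y3 z = 0 := by
  have d := f.dim
  have d0 := H60.finrank_le_inf_ort (Q := Q) ⊤ y1
  have n := (H60.nondeg_top f.nd).inf_ort (a := y1) trivial (pself_ne f.two (q ▸ f.ne))
  have du : finrank F ↥(⊤ ⊓ H60.ort Q y1 : Submodule F V) < finrank F V :=
    Submodule.finrank_lt fun e => pself_ne f.two (q ▸ f.ne) (e.ge (Submodule.mem_top (x := y1))).2
  rw [finrank_top] at d0
  generalize hU : (⊤ ⊓ H60.ort Q y1 : Submodule F V) = U at d0 n du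
  have d1 := H60.finrank_le_inf_ort (Q := Q) U y2
  have d2 := H60.finrank_le_inf_ort (Q := Q) (U ⊓ H60.ort Q y2) y3
  obtain ⟨z, ⟨⟨z0, z1⟩, z2⟩, e⟩ := unw_of_le f.nd n (W := U ⊓ H60.ort Q y2 ⊓ H60.ort Q y3)
    (inf_le_left.trans inf_le_left) (by omega) c
  subst hU
  exact ⟨z, e, z0.2, z1, z2⟩

theorem cnS (f : Frm Q c ε) {y1 y3 a b : V} (q1 : Q y1 = c) (q3 : Q y3 = c) (o : polar Q y1 y3 = 0)
    (a1 : polar Q y1 a = 0) (a3 : polar Q y3 a = 0) (b1 : polar Q y1 b = 0) (b3 : polar Q y3 b = 0)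
    (ab : polar Q a b = 0) (qa : Q a = 0) (qb : Q b = 0) (li : LinearIndependent F ![a, b]) :
    ∃ z, Q z = c ∧ polar Q y1 z = 0 ∧ polar Q y3 z = 0 ∧ polar Q a z = 0 ∧ polar Q b z = 0 := by
  obtain ⟨α, β, e⟩ : ∃ α β : F, α * α + β * β = -1 := by
    obtain ⟨p, hp⟩ := CharP.exists F
    have := (CharP.char_is_prime F p)
    have : NeZero p := ⟨this.ne_zero⟩
    obtain ⟨x, y, h⟩ := CharP.sq_add_sq F p (-1)
    exact ⟨x, y, by simpa [pow_two] using h⟩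
  have ps : ∀ i j, polar Q (ε i) (ε j) = if i = j then 2 * c else 0 := fun i j => by
    split_ifs with h
    · rw [h, H56.polar_self', f.norm]
    · exact f.orth i j h
  have c2 : 2 * c ≠ 0 := mul_ne_zero f.two f.ne
  let u1 := ε 3 + α • ε 5 + β • ε 6
  let u2 := ε 4 + β • ε 5 - α • ε 6
  have qq : ∀ v, 2 * Q v = polar Q v v := fun v => (H56.polar_self' Q v).symm
  obtain ⟨g, hg⟩ := witt_family f.nd ![y1, y3, a, b] ![ε 0, ε 1, u1, u2]
    (Fintype.linearIndependent_iff.2 fun s hs => by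
      simp only [Fin.sum_univ_four, Matrix.cons_val] at hs
      have h0 : s 0 = 0 := by
        simpa [H56.polar_self', q1, o, a1, b1, f.two, f.ne] using congrArg (polar Q y1) hs
      have h1 : s 1 = 0 := by
        simpa [H56.polar_self', q3, H60.pc o, a3, b3, f.two, f.ne] using congrArg (polar Q y3) hs
      rw [h0, h1, zero_smul, zero_smul, zero_add, zero_add] at hs
      obtain ⟨h2, h3⟩ := LinearIndependent.pair_iff.1 li _ _ hs
      intro i; fin_cases i <;> assumption)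
    (Fintype.linearIndependent_iff.2 fun s hs => by
      simp only [Fin.sum_univ_four, Matrix.cons_val] at hs
      have h0 : s 0 = 0 := by simpa [u1, u2, ps, c2] using congrArg (polar Q (ε 0)) hs
      have h1 : s 1 = 0 := by simpa [u1, u2, ps, c2] using congrArg (polar Q (ε 1)) hs
      have h2 : s 2 = 0 := by simpa [u1, u2, ps, c2] using congrArg (polar Q (ε 3)) hs
      have h3 : s 3 = 0 := by simpa [u1, u2, ps, c2] using congrArg (polar Q (ε 4)) hs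
      intro i; fin_cases i <;> assumption)
    (fun i => by
      fin_cases i
      · simp [q1, f.norm]
      · simp [q3, f.norm]
      · refine (mul_left_cancel₀ f.two ?_ : Q u1 = Q a)
        rw [qq, qa]
        simp only [u1, polar_add_left, polar_add_right, polar_smul_left, polar_smul_right, ps]
        simp
        linear_combination (2 * c) * e
      · refine (mul_left_cancel₀ f.two ?_ : Q u2 = Q b)
        rw [qq, qb]
        simp only [u2, polar_add_left, polar_add_right, polar_sub_left, polar_sub_right, polar_smul_left,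
          polar_smul_right, ps]
        simp
        linear_combination (2 * c) * e)
    (fun i j n => by
      fin_cases i <;> fin_cases j <;> first | exact (n rfl).elim |
        (simp [u1, u2, ps, o, a1, a3, b1, b3, ab, H60.pc o, H60.pc a1, H60.pc a3, H60.pc b1, H60.pc b3,
          H60.pc ab] <;> ring))
  have k : ∀ i, polar Q (![y1, y3, a, b] i) (g⁻¹ (ε 2)) = 0 := fun i => by
    rw [← g.map_polar, hg, O.apply_inv_apply]
    fin_cases i <;> simp [u1, u2, ps]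
  exact ⟨g⁻¹ (ε 2), (O.map_Q _ _).trans (f.norm 2), k 0, k 1, k 2, k 3⟩

theorem cn4 (f : Frm Q c ε) {y1 y2 y3 y4 : V} (q1 : Q y1 = c) (q3 : Q y3 = c) (o1 : polar Q y3 y1 = 0)
    (o2 : polar Q y3 y2 = 0) (o3 : polar Q y4 y1 = 0) (o4 : polar Q y4 y2 = 0) :
    ∃ z, Q z = c ∧ polar Q y1 z = 0 ∧ polar Q y2 z = 0 ∧ polar Q y3 z = 0 ∧ polar Q y4 z = 0 := by
  have p1 := pself_ne f.two (q1 ▸ f.ne : Q y1 ≠ 0)
  have p3 := pself_ne f.two (q3 ▸ f.ne : Q y3 ≠ 0)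
  obtain ⟨a, s, rfl, a1⟩ : ∃ a, ∃ s : F, y2 = a + s • y1 ∧ polar Q y1 a = 0 :=
    ⟨y2 - (polar Q y1 y2 / polar Q y1 y1) • y1, _, (sub_add_cancel _ _).symm, by
      rw [polar_sub_right, polar_smul_right, smul_eq_mul, div_mul_cancel₀ _ p1, sub_self]⟩
  obtain ⟨b, r, rfl, b3⟩ : ∃ b, ∃ s : F, y4 = b + s • y3 ∧ polar Q y3 b = 0 :=
    ⟨y4 - (polar Q y3 y4 / polar Q y3 y3) • y3, _, (sub_add_cancel _ _).symm, by
      rw [polar_sub_right, polar_smul_right, smul_eq_mul, div_mul_cancel₀ _ p3, sub_self]⟩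
  have a3 : polar Q y3 a = 0 := by simpa [o1] using o2
  have b1 : polar Q y1 b = 0 := H60.pc (by simpa [o1] using o3)
  have ab : polar Q a b = 0 := H60.pc (by simpa [o1, a3, H60.pc b1] using o4)
  suffices h : ∃ z, Q z = c ∧ polar Q y1 z = 0 ∧ polar Q y3 z = 0 ∧ polar Q a z = 0 ∧ polar Q b z = 0 by
    obtain ⟨z, z0, z1, z3, za, zb⟩ := h
    exact ⟨z, z0, z1, by simp [za, z1], z3, by simp [zb, z3]⟩
  have d := f.dim
  have d0 := H60.finrank_le_inf_ort (Q := Q) ⊤ y1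
  have d1 := H60.finrank_le_inf_ort (Q := Q) (⊤ ⊓ H60.ort Q y1) y3
  have n := ((H60.nondeg_top f.nd).inf_ort (a := y1) trivial p1).inf_ort (a := y3) ⟨trivial, H60.pc o1⟩ p3
  have du : finrank F ↥(⊤ ⊓ H60.ort Q y1 : Submodule F V) < finrank F V :=
    Submodule.finrank_lt fun e => p1 (e.ge (Submodule.mem_top (x := y1))).2
  have dv : finrank F ↥(⊤ ⊓ H60.ort Q y1 ⊓ H60.ort Q y3 : Submodule F V) <
      finrank F ↥(⊤ ⊓ H60.ort Q y1 : Submodule F V) :=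
    Submodule.finrank_lt_finrank_of_lt (lt_of_le_of_ne inf_le_left fun e =>
      p3 (e.ge (show y3 ∈ ⊤ ⊓ H60.ort Q y1 from ⟨trivial, H60.pc o1⟩)).2)
  rw [finrank_top] at d0
  have ma : a ∈ (⊤ ⊓ H60.ort Q y1 ⊓ H60.ort Q y3 : Submodule F V) := ⟨⟨trivial, a1⟩, a3⟩
  have mb : b ∈ (⊤ ⊓ H60.ort Q y1 ⊓ H60.ort Q y3 : Submodule F V) := ⟨⟨trivial, b1⟩, b3⟩
  have out : ∀ z ∈ (⊤ ⊓ H60.ort Q y1 ⊓ H60.ort Q y3 : Submodule F V),
    polar Q y1 z = 0 ∧ polar Q y3 z = 0 := fun z hz => ⟨hz.1.2, hz.2⟩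
  generalize (⊤ ⊓ H60.ort Q y1 ⊓ H60.ort Q y3 : Submodule F V) = Z at *
  have ns : ∀ a b, a ∈ Z → Q a ≠ 0 → ∃ z ∈ Z, Q z = c ∧ polar Q a z = 0 ∧ polar Q b z = 0 :=
    fun a b ma qa => by
      have e1 := H60.finrank_le_inf_ort (Q := Q) Z a
      have e2 := H60.finrank_le_inf_ort (Q := Q) (Z ⊓ H60.ort Q a) b
      have e3 : finrank F ↥(Z ⊓ H60.ort Q a) < finrank F Z :=
        Submodule.finrank_lt_finrank_of_lt (lt_of_le_of_ne inf_le_left fun e =>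
          pself_ne f.two qa (e.ge ma).2)
      obtain ⟨z, ⟨⟨z0, z1⟩, z2⟩, e⟩ := unw_of_le f.nd (n.inf_ort ma (pself_ne f.two qa))
        (W := Z ⊓ H60.ort Q a ⊓ H60.ort Q b) inf_le_left (by omega) c
      exact ⟨z, z0, e, z1, z2⟩
  have dp : ∀ a, ∃ z ∈ Z, Q z = c ∧ polar Q a z = 0 := fun a => by
    have e1 := H60.finrank_le_inf_ort (Q := Q) Z a
    obtain ⟨z, ⟨z0, z1⟩, e⟩ := unw_of_le f.nd n (W := Z ⊓ H60.ort Q a) inf_le_left (by omega) c
    exact ⟨z, z0, e, z1⟩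
  by_cases qa : Q a = 0
  swap
  · obtain ⟨z, m, e, z1, z2⟩ := ns a b ma qa
    exact ⟨z, e, (out z m).1, (out z m).2, z1, z2⟩
  by_cases qb : Q b = 0
  swap
  · obtain ⟨z, m, e, z1, z2⟩ := ns b a mb qb
    exact ⟨z, e, (out z m).1, (out z m).2, z2, z1⟩
  by_cases li : LinearIndependent F ![a, b]
  · exact cnS f q1 q3 (H60.pc o1) a1 a3 b1 b3 ab qa qb li
  rw [LinearIndependent.pair_iff] at li
  push Not at li
  obtain ⟨s, t, e, n⟩ := li
  by_cases hs : s = 0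
  · obtain ⟨z, m, e', z1⟩ := dp a
    have : b = 0 := by simpa [hs, n hs] using e
    exact ⟨z, e', (out z m).1, (out z m).2, z1, by simp [this]⟩
  · obtain ⟨z, m, e', z1⟩ := dp b
    have := congrArg (fun v => polar Q v z) e
    exact ⟨z, e', (out z m).1, (out z m).2, by simpa [z1, hs] using this, z1⟩

theorem jobT7 : JobT7.{u} := by
  intro F _ _ V _ _ _ Q c ε f G _ t φ ch cp
  have gt := gt f.nd f.two
  have d := f.dim
  let ι : Fin 4 → Fin 7 := Fin.castLE (by omega)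
  have ιi : Function.Injective ι := Fin.castLE_injective _
  have ι3 : ∀ j, (ι j).1 ≤ 3 := fun j => Nat.le_of_lt_succ j.2
  let e : Fin 4 → V := fun j => ε (ι j)
  have en : ∀ j, Q (e j) = c := fun j => f.norm _
  have eS : ∀ x, Orth Q ∅ x := fun x => by simp [Orth]
  have eo : ∀ j k, j ≠ k → polar Q (e j) (e k) = 0 := fun j k n => f.orth _ _ (ιi.ne n)
  have h : OS Q ∅ := os_empty
  let v : Fin 4 → Cv Q ∅ c := fun j => ⟨(e j, j), en j, eS _⟩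
  have sm : ∀ (x : Fx Q ∅) (j) (y : Cv Q ∅ c), y.1.2 = j → (x • v j = y ↔ x.1 (e j) = y.1.1) :=
    fun x j y k => ⟨fun a => congrArg (fun p : Cv Q ∅ c => p.1.1) a,
      fun a => Subtype.ext (Prod.ext a k.symm)⟩
  have sv : ∀ (x : Fx Q ∅) j, x • v j = v j ↔ x.1 (e j) = e j := fun x j => sm x j (v j) rfl
  have e0 : ∀ j, Q (e j) ≠ 0 := fun j => en j ▸ f.ne
  have o1 := fun j => os_insert h (e0 j) (eS _)
  have n0 : (∅ : Set V).ncard = 0 := Set.ncard_empty V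
  have n1 := fun j => Set.ncard_insert_le (e j) ∅
  have m1 : ∀ {i} {x : O Q}, x ∈ Fx Q ∅ → x (ε i) = ε i → x ∈ Fx Q {ε i} := fun a b =>
    ⟨a.1, by simpa using b⟩
  obtain ⟨⟨Φ, hΦ⟩, hK⟩ := tits0 (X := Fx Q ∅) (G := G) (Y := Cv Q ∅ c) (fun y => y.1.2)
    (fun y y' => y.1.2 ≠ y'.1.2 ∧ polar Q y.1.1 y'.1.1 = 0) v (fun j x => φ (ι j) x)
    (fun _ _ a => ⟨a.1.symm, (polar_comm _ _ _).trans a.2⟩) (fun _ _ a => a.1) (fun _ _ => rfl)
    (fun x _ _ a => ⟨a.1, (x.1.map_polar _ _).trans a.2⟩) (fun _ => rfl) (fun j k n => ⟨n, eo j k n⟩)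
    (fun y => by
      obtain ⟨g, hg, k⟩ := gt.tr ∅ h (by omega) (e y.1.2) y.1.1 (e0 _) (y.2.1.trans (en _).symm) (eS _) y.2.2
      exact ⟨⟨g, hg⟩, (sm _ _ _ rfl).2 k⟩)
    (fun j y a => by
      obtain ⟨g, hg, k⟩ := gt.tr _ (o1 j) (by have := n1 j; omega) (e y.1.2) y.1.1 (e0 _)
        (y.2.1.trans (en _).symm) (orth_insert.2 ⟨eo _ _ a.1, eS _⟩) (orth_insert.2 ⟨a.2, y.2.2⟩)
      obtain ⟨g1, g2⟩ := mem_Fx_insert.1 hg
      exact ⟨⟨g, g1⟩, (sv _ _).2 g2, (sm _ _ _ rfl).2 k⟩)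
    (fun j k y n a b => by
      obtain ⟨g, hg, k⟩ := gt.tr _ (os_insert (o1 j) (e0 k) (orth_insert.2 ⟨eo _ _ n, eS _⟩))
        (by have := n1 j; have := Set.ncard_insert_le (e k) (insert (e j) ∅); omega) (e y.1.2) y.1.1 (e0 _)
        (y.2.1.trans (en _).symm) (orth_insert.2 ⟨eo _ _ b.1, orth_insert.2 ⟨eo _ _ a.1, eS _⟩⟩)
        (orth_insert.2 ⟨b.2, orth_insert.2 ⟨a.2, y.2.2⟩⟩)
      obtain ⟨g1, g3⟩ := mem_Fx_insert.1 hg
      obtain ⟨g1, g2⟩ := mem_Fx_insert.1 g1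
      exact ⟨⟨g, g1⟩, (sv _ _).2 g2, (sv _ _).2 g3, (sm _ _ _ rfl).2 k⟩)
    (fun k y1 y2 y3 n1 n2 n3 => by
      obtain ⟨z, z0, z1, z2, z3⟩ := cn3 f (y2 := y2.1.1) (y3 := y3.1.1) y1.2.1
      exact ⟨⟨(z, k), z0, eS _⟩, rfl, ⟨n1.symm, H60.pc z1⟩, ⟨n2.symm, H60.pc z2⟩, n3.symm, H60.pc z3⟩)
    (fun k y1 y2 y3 y4 n1 n2 n3 n4 a1 a2 a3 a4 => by
      obtain ⟨z, z0, z1, z2, z3, z4⟩ := cn4 f y1.2.1 y3.2.1 a1.2 a2.2 a3.2 a4.2
      exact ⟨⟨(z, k), z0, eS _⟩, rfl, ⟨n1.symm, H60.pc z1⟩, ⟨n2.symm, H60.pc z2⟩, ⟨n3.symm, H60.pc z3⟩,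
        n4.symm, H60.pc z4⟩)
    (fun j x y a b => (ch _ (ι3 j)).hom x (m1 x.2 ((sv _ _).1 a)) y (m1 y.2 ((sv _ _).1 b)))
    (fun j k x a b => cp _ _ (ι3 j) (ι3 k) x x.2.1 ((sv _ _).1 a) ((sv _ _).1 b))
  have le : Om Q ≤ Fx Q ∅ := fun x hx => ⟨hx, by simp⟩
  refine ⟨Φ.comp (Subgroup.inclusion le), fun j hj => ⟨φ j, ch j hj, fun x hx => ?_⟩, fun K a => ?_⟩
  · exact hΦ ⟨j.1, by omega⟩ _ ((sv _ _).2 hx)
  · exact le.trans (Subgroup.subgroupOf_eq_top.1 (hK _ fun j x b => a _ (ι3 j) (m1 x.2 ((sv _ _).1 b))))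

end H27.R7
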