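/- R7: assembly of the chapter from its jobs. -/
import Cfsg.Agent.H27.R7C
import Cfsg.Agent.H27.R7T

set_option autoImplicit false
set_option linter.unusedSectionVars false

namespace H27.R7
open Cfsg H56 H58 H12.OW Module QuadraticMap Submodule H59.OW

universe u

section
variable {F V : Type} [Field F] [Finite F] [AddCommGroup V] [Module F V] [FiniteDimensional F V]
  {Q : QuadraticForm F V} {c : F}

theorem Frm.negOne_iff {n : ℕ} {ε : Fin (n + 1) → V} (f : Frm Q c ε) :
    O.negOne Q ∈ Om Q ↔ Even (n + 1) := by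
  let b := basisOfLinearIndependentOfCardEqFinrank (ind_of_orth f.two f.q f.orth) (by simp [f.dim])
  rw [negOne_mem_commutator_iff f.nd f.two b, f.dim]
  refine and_iff_left_of_imp fun ⟨k, hk⟩ => ⟨(2 * c) ^ k, ?_⟩
  have : (Matrix.of fun i j => polar Q (b i) (b j)) = Matrix.diagonal fun _ => 2 * c := by
    ext i j
    simp only [b, coe_basisOfLinearIndependentOfCardEqFinrank, Matrix.of_apply, Matrix.diagonal_apply]
    split_ifs with h
    · rw [h, H56.polar_self', f.norm]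
    · exact f.orth i j h
  rw [this, Matrix.det_diagonal, Finset.prod_const, Finset.card_univ, Fintype.card_fin, hk, pow_add]

theorem Frm.res {ε : Fin 7 → V} (f : Frm Q c ε) (e : Fin 6 → H56.perp Q (span F {ε 0}))
    (he : ∀ k, (e k : V) = ε k.succ) : Frm (Q.restrict (H56.perp Q (span F {ε 0}))) c e := by
  obtain ⟨a, d⟩ := os_nondeg f.nd f.two (f.os (S := {ε 0}) (by simp))
  have := f.dim
  rw [Set.ncard_singleton] at d
  exact ⟨f.two, (a.perp f.nd).restrict, f.ne, fun i => (congrArg Q (he i)).trans (f.norm _), fun i j n => by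
    rw [H60.polar_restrict', he, he, f.orth _ _ ((Fin.succ_injective _).ne n)], by omega⟩

end

theorem exists_frm (F : Type) [Field F] [Finite F] (h2 : (2 : F) ≠ 0) :
    ∃ (c : F) (ε : Fin 7 → Unit ⊕ (Fin 3 ⊕ Fin 3) → F), Frm (qOdd 3 F) c ε := by
  let Q : QuadraticForm F (Fin 7 → F) := weightedSumSquares F fun _ => (1 : F)
  have q : ∀ x, Q x = ∑ i, x i * x i := fun x => by simp [Q]
  have p : ∀ i x, polar Q (Pi.single i 1) x = 2 * x i := fun i x => by
    simp [polar, q, Pi.single_apply, add_mul, mul_add, Finset.sum_add_distrib, two_mul]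
    ring
  have nd : Q.polarBilin.Nondegenerate := nondegenerate_of_polar fun x hx => funext fun i =>
    (mul_eq_zero.1 ((p i x).symm.trans (H60.pc (hx _)))).resolve_left h2
  obtain ⟨c, c0, g, hg⟩ := similar_qOdd nd (m := 3) (by simp)
  have hg' : ∀ x, qOdd 3 F (g.symm x) = c⁻¹ * Q x := fun x => by
    rw [eq_inv_mul_iff_mul_eq₀ c0, ← hg, g.apply_symm_apply]
  refine ⟨c⁻¹, fun i => g.symm (Pi.single i 1), h2, qOdd_nondeg _ h2, inv_ne_zero c0, fun i => by
    simp [hg', q, Pi.single_apply], fun i j n => ?_, by simp⟩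
  have := p i (Pi.single j 1)
  rw [Pi.single_eq_of_ne n, mul_zero, polar] at this
  rw [polar, ← map_add, hg', hg', hg', ← mul_sub, ← mul_sub, this, mul_zero]

theorem jobRec_of (A5 : JobA5) (A6 : JobA6) (M6 : JobM6.{u}) (E : JobE.{u}) (C6 : JobC6.{u})
    (F3 : JobF3.{u}) (In : JobIn) (Top : JobTop.{u}) : JobRec.{u} := by
  intro G _ _ _ nc S M t of L
  obtain ⟨m0, n0, fa, E, EM, sq, cE⟩ := E G S M t of
  obtain ⟨F, _, _, q, hM⟩ := M6 G M E (t 0) of.perf m0 n0 of.Mc L EM sq cE fa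
  have h2 : (2 : F) ≠ 0 := two_ne_zero_of_odd_card (Nat.odd_iff.2 (by omega))
  obtain ⟨c, ε, f⟩ := exists_frm F h2
  have key : ∀ e : Fin 6 → H56.perp (qOdd 3 F) (span F {ε 0}), (∀ k, e k = ε k.succ) →
      (∃ ψ, R7.C6 _ e M t ψ) ∧ Fr3 M t := fun e he => by
    have r := f.res e he
    have m := r.negOne_iff.2 (by decide)
    have au := A6 F h2 _ _ r.nd r.dim m
    obtain ⟨ψ, hψ⟩ := C6 F (by rwa [Nat.card_eq_fintype_card]) _ _ c e r au G S M t of (hM _ _ r.nd r.dim m)
    exact ⟨⟨ψ, hψ⟩, F3 F _ _ c e r au G S M t of ψ hψ⟩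
  have fr := (key (fun k => ⟨ε k.succ, orth_iff.1 (by
    rintro _ rfl; exact f.orth _ _ (Fin.succ_ne_zero k).symm)⟩) fun _ => rfl).2
  obtain ⟨φ, h1, h2'⟩ := jobGl A5 F _ _ c ε f G t of.com (jobCh F _ _ c ε f G S M t of fun e he => (key e he).1)
  obtain ⟨Φ, hΦ⟩ := jobT7 F _ _ c ε f G t φ h1 h2'
  rcases Top In F _ _ c ε f G nc S M t of fr Φ hΦ with h | h | ⟨⟨e⟩⟩
  · exact .inl h
  · exact .inr (.inl h)
  have z : Subgroup.center (Om (qOdd 3 F)) = ⊥ := Subgroup.eq_bot_of_card_eq _ (by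
    rw [card_center_commutator f.nd (not_isExc_of_two_ne h2) (by rw [f.dim]; omega),
      if_neg fun h => absurd (f.negOne_iff.1 h.2) (by decide)])
  exact .inr (.inr (.inr ⟨F, _, _, q, ⟨e.trans ((QuotientGroup.quotientBot.symm.trans
    (QuotientGroup.quotientMulEquivOfEq z.symm)).trans (pOmegaEquiv _ (coe_qOdd 3 F)).symm)⟩⟩))

end H27.R7
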