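import Cfsg.Agent.H63.A8Def
import Cfsg.Agent.H1.SA5

/-! A8S tower, job A5: the remaining commutator relations of the big root subgroups. -/

set_option autoImplicit false

namespace H27.A8

open H64.SG (Cz Cs Ns cjs Is2 mem_Cs mem_Cz is2_of_sq)
open Matrix H57 Subgroup H67.SA H1.SA5

universe u

variable {n : ℕ} {F : Type} [Field F] [Finite F] [CharP F 2] {G : Type u} [Group G]
  {e : SLn n F →* G} {t : G} {A : Fin (n + 1) → Fin (n + 1) → Subgroup G}
  {i j k l : Fin (n + 1)} {a b : G}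

/-- The row `k` of the commutator vanishes. -/
theorem row_zero (h : CH e t) (P : PB e t A) (d : D4 i j k l) (ha : a ∈ A i j) (hb : b ∈ A k l)
    {μ : SLn n F} (hsq : μ * μ = 1) (hμ : μ ∈ P0 n F i l) (e1 : cm a b = e μ)
    {v : Fin (n + 1)} (hv : v ≠ k) : μ.1 k v = 0 := by
  have hb' := P.ac i k l d.ik d.kl d.il b hb 1
  have c1 := cx P d.ij ha d.ik.symm d.ij (1 : F)
  have c2 := P.row i j l d.ij d.il ha _ hb'
  have c3 := cP P d.il hb' hμ
  have e2 : e (x i k 1 * μ * (x i k 1)⁻¹) = e μ := by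
    rw [map_mul, map_mul, map_inv]
    rw [← e1] at c3 ⊢
    generalize e (x i k 1) = y at *
    have e3 : y * b * y⁻¹ = cm y b * b := by unfold cm; group
    generalize cm y b = β at *
    calc y * cm a b * y⁻¹
        = (y * a) * y⁻¹ * (y * b * y⁻¹) * y * (y * a)⁻¹ * (y * b * y⁻¹)⁻¹ * y * y⁻¹ := by
          unfold cm; group
      _ = (a * β) * b * y * y⁻¹ * a⁻¹ * b⁻¹ * β⁻¹ := by rw [c1, e3]; group
      _ = β * cm a b * β⁻¹ := by rw [← c2]; unfold cm; group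
      _ = _ := by rw [← c3]; group
  have e4 := inj2 h.ker (is2_of_sq (by rw [conj_mul, hsq, mul_one, mul_inv_cancel]))
    (is2_of_sq hsq) e2
  have e5 := congrArg (fun g : SLn n F => g.1 i v) (mul_inv_eq_iff_eq_mul.1 e4)
  simpa [val_mul, x_coe d.ik, add_mul, mul_add, hv] using e5

theorem pol (fa : FA n F) (h : CH e t) (P : PB e t A) (d : D4 i j k l) : A i j ≤ Cs (A k l) := by
  intro a ha b hb
  obtain ⟨μ, hμ, e1⟩ := gam fa h P d ha hb
  have hsq := sq_Rc d hμ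
  have hle : ∀ {p q : Fin (n + 1)}, (j ≠ p ∧ l ≠ p) → (i ≠ q ∧ k ≠ q) → μ ∈ P0 n F p q :=
    fun h1 h2 => Pat_mono (fun a b _ hs => by
      obtain ⟨rfl | rfl, rfl | rfl⟩ := hs <;> simp [h1.1, h1.2, h2.1, h2.2]) hμ
  have e2 : cm b a = e μ := by
    rw [← cm_inv, e1, ← map_inv, inv_eq_of_mul_eq_one_right hsq]
  have r1 := fun v => row_zero h P d ha hb hsq (hle ⟨d.ij.symm, d.il.symm⟩ ⟨d.il, d.kl⟩) e1 (v := v)
  have r2 := fun v => row_zero h P d.symm hb ha hsq (hle ⟨d.jk, d.kl.symm⟩ ⟨d.ij, d.jk.symm⟩) e2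
    (v := v)
  have e3 : μ = 1 := Subtype.ext (Matrix.ext fun u v => by
    by_cases huv : u = v
    · rw [huv, ((mem_Rc d).1 hμ).1, val_one, one_apply_eq]
    rw [val_one, one_apply_ne huv]
    by_cases hs : u = i ∨ u = k
    · rcases hs with rfl | rfl
      exacts [r2 v (Ne.symm huv), r1 v (Ne.symm huv)]
    · exact ((mem_Rc d).1 hμ).2 u v huv fun h => hs h.1)
  rw [e3, map_one] at e1
  exact (cm_eq_one.1 e1).symm

theorem jobA5 (hFA : H63.A8.J8FA) : H63.A8.J8A5.{u} := fun n F _ _ _ hp _ _ _ _ _ _ h P =>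
  ⟨fun _ _ _ _ h1 h2 h3 h4 h5 h6 => pol (hFA n F hp) h P ⟨h1, h2, h3, h4, h5, h6⟩,
    fun _ _ _ h1 h2 h3 _ ha _ hb => neg (hFA n F hp) h P hp.two_le h1 h2 h3 ha hb⟩

end H27.A8
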