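import Cfsg.Agent.H27.BH1
/-! PS3B, chapter B, job H: the centraliser of `s`. -/
set_option autoImplicit false
set_option maxRecDepth 100000
namespace H27.BH
open Cfsg Subgroup H42.L3 H56.L3 H39.F23 H39.BB H80.F23 H80.BB Matrix
open H28.PS (SL3)
universe u

variable {G : Type*} [Group G] {z : G} {Q : Subgroup G} {l : G → V8} {μ : G → M8}
  (F : FR z Q l μ) {c s g : G} {A : M8}
include F

theorem ker (hc : c ∈ Ce z) (h : Pres (μ c) 1) : μ c = 1 ∨ μ c * sg = 1 := by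
  obtain ⟨f, hf⟩ := R.exists_ac F (ce_nz hc)
  have uc := X.unit' F.toX8 hc
  rcases LS uc hf (hf.fix h) with h2 | h2
  · obtain ⟨u, hu⟩ := h2.kerl' uc isUnit_one ac_one
    exact Or.inl (triv (mul_one (rho u) ▸ hu) h)
  · obtain ⟨u, hu⟩ := h2.kerl' uc sg_unit ac_sg
    have := hu.right sg
    rw [mul_assoc, sg_sq, mul_one] at this
    exact Or.inr (triv this (by simpa using h.mul pres_sg))

theorem perm (hg : g ∈ Nz z) (hs : μ g * sg = sg * μ g) :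
    ∃ σ : Equiv.Perm (Fin 3), ∀ i, μ g * rr i = rr (σ i) * μ g := by
  obtain ⟨f, hf⟩ := R.exists_ac F hg
  choose σ hσ using hf.perm (X.mu_inv F.toX8 hg) (X.mu_inv' F.toX8 hg) hs
  exact ⟨Equiv.ofBijective σ (Finite.injective_iff_bijective.1 fun i j e => us_inj (rho_inj (Or.inl
    (neg_injective ((X.unit F.toX8 hg).mul_left_cancel ((hσ i).trans (e ▸ (hσ j).symm))))))), hσ⟩

variable (hs : s ∈ Ce z) (s2 : s * s = 1) (hμ : μ s = sg)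
include hs s2 hμ

theorem lift (h : In z μ A) (k : A * sg = sg * A) : ∃ c ∈ Ce z, c ∈ Ce s ∧ μ c = A := by
  obtain ⟨c, hc, rfl⟩ := h
  exact X.cen_lift F.toX8 hs s2 hc (hμ ▸ k)

omit s2 in
theorem comm (hg : g ∈ Nz z) (h : g ∈ Ce s) : μ g * sg = sg * μ g := by
  rw [← hμ, ← F.μ_mul g hg s (ce_nz hs), H80.F23.mem_Ce.1 h, F.μ_mul s (ce_nz hs) g hg]

theorem liftP [Finite G] {n : Fin 3 → M2} (h : In z μ A) (k : A * sg = sg * A) (hn : Pres A n) :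
    ∃ c ∈ (DD F.toX8).B, c ∈ Ce s ∧ ∀ i, ((DD F.toX8).m i c).1 = n i := by
  obtain ⟨c, hc, h1, rfl⟩ := lift F hs s2 hμ h k
  exact ⟨c, X.mem_B F.toX8 hc hn, h1, fun i => X.m_val F.toX8 hc (hn i)⟩

theorem hs0 [Finite G] (H : All z μ) : HS0 (DD F.toX8) Q s := by
  have X := F.toX8
  refine ⟨hs, s2, fun e => sg_ne (by rw [← hμ, e, H80.F23.X.mu_one X]), H80.F23.X.sd _,
    fun i j hij a ha b hb => ?_, H80.F23.X.eq_QQ _ hs s2 hμ, fun c hc h => ?_, fun g hg => ?_, fun i => ?_, ?_⟩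
  · obtain ⟨x, e⟩ := pr_iff.1 ha.2
    obtain ⟨y, e'⟩ := pr_iff.1 hb.2
    simpa [e, e', bt_E, hij.symm] using X.comm b hb.1 a ha.1
  · have hz : c ∈ Ce z := hc.1.1.1.1
    refine (ker F hz ?_).imp (X.ker c hz) fun e => X.ker _ (mul_mem hz hs) (by
      rw [H80.F23.X.mul X hz hs, hμ, e])
    convert H80.F23.X.pres_of _ hc.1 using 1
    exact funext fun i => ((one_iff rfl).1 (h i)).symm
  · have k := comm F hs hμ hg.1 hg.2
    exact (perm F hg.1 k).imp fun σ h i => H80.F23.X.cj_QI X hg.1 k (h i)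
  · have e : ∀ i j, (-H80.F23.nr (us i).1 .o) j = if j = i then -1 else 1 := by decide +kernel
    have e' : ∀ i, us i = ((us i).1, (us i).1, .o) := by decide
    obtain ⟨c, h1, h2, h3⟩ := liftP F hs s2 hμ (A := rr i) (R.in_rho F (Or.inr rfl)) (sg_rr i).symm
      (by rw [rr, e' i]; exact (pres_rho _ _).neg)
    exact ⟨c, ⟨h1, h2⟩, (neg_iff (h3 i)).2 (by rw [e, if_pos rfl]),
      fun j hj => (one_iff (h3 j)).2 (by rw [e, if_neg hj])⟩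
  · obtain ⟨a, a1, a2, a3⟩ := lift F hs s2 hμ (in_g1 H) g12.2.2.1
    obtain ⟨b, b1, b2, b3⟩ := lift F hs s2 hμ (in_g2 H) g12.2.2.2.1
    have m : a * b * a⁻¹ * b⁻¹ ∈ ⁅Ce s, Ce s⁆ := commutator_mem_commutator a2 b2
    have m1 : a * b * a⁻¹ * b⁻¹ ∈ Ce z := mul_mem (mul_mem (mul_mem a1 b1) (inv_mem a1)) (inv_mem b1)
    have m2 : a * b * a⁻¹ * b⁻¹ ∈ Ce s := mul_mem (mul_mem (mul_mem a2 b2) (inv_mem a2)) (inv_mem b2)
    have e : μ (a * b * a⁻¹ * b⁻¹) = μ s := (H80.F23.X.unit' X (mul_mem b1 a1)).mul_right_cancel (by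
      rw [← H80.F23.X.mul X m1 (mul_mem b1 a1), show a * b * a⁻¹ * b⁻¹ * (b * a) = a * b by group,
        H80.F23.X.mul X a1 b1, H80.F23.X.mul X b1 a1, a3, b3, hμ, g12.2.2.2.2])
    generalize a * b * a⁻¹ * b⁻¹ = x at m m1 m2 e
    have c3 := X.cube _ ((H80.F23.X.eq_iff X m1 hs).2 e)
    rw [(Commute.inv_right (H80.F23.mem_Ce.1 m2)).mul_pow, inv_pow, mul_inv_eq_one, pow_three s, s2,
      mul_one] at c3
    exact c3 ▸ pow_mem m 3

theorem full [Finite G] (H : All z μ) (B : Fin 3 → SL3) (h4 : ∀ i, B i ^ 4 = 1) :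
    ∃ p ∈ Ce s, (DD F.toX8).P p ∧ ∀ i, (DD F.toX8).m i p = B i := by
  let S : Submonoid (Fin 3 → M2) :=
    { carrier := {n | ∃ A, In z μ A ∧ A * sg = sg * A ∧ Pres A n}
      one_mem' := ⟨1, R.in_one F, by simp, pres_one⟩
      mul_mem' := fun ⟨A, a1, a2, a3⟩ ⟨B, b1, b2, b3⟩ =>
        ⟨A * B, R.in_mul F a1 b1, Commute.mul_left a2 b2, a3.mul b3⟩ }
  have g : ∀ i b, Pi.mulSingle i (cond b qj qi) ∈ S := fun i b => ⟨_, in_GA H i b, GA_sg i b, GA_pres i b⟩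
  have k : ∀ i, Pi.mulSingle i (B i).1 ∈ S := fun i => by
    obtain ⟨a, b, e⟩ := q8 _ (B i).2 ((four_iff rfl).1 (h4 i))
    rw [e, Pi.mulSingle_mul, Pi.mulSingle_pow, Pi.mulSingle_pow]
    exact mul_mem (pow_mem (g i false) _) (pow_mem (g i true) _)
  obtain ⟨A, a1, a2, a3⟩ := mul_mem (mul_mem (k 0) (k 1)) (k 2)
  obtain ⟨c, h1, h2, h3⟩ := liftP F hs s2 hμ a1 a2 a3
  have e : ∀ i, (DD F.toX8).m i c = B i := fun i => Subtype.ext ((h3 i).trans (by fin_cases i <;> simp))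
  exact ⟨c, h2, ⟨h1, fun i => e i ▸ h4 i⟩, e⟩

theorem swap (H : All z μ) : ∃ g ∈ Ce z ⊓ Ce s, H98.cj g (QI F.toX8 0) = QI F.toX8 0 ∧
    H98.cj g (QI F.toX8 1) = QI F.toX8 2 := by
  have k : kr (hh 2) (hh 2) 1 * sg = sg * kr (hh 2) (hh 2) 1 := (sg_kr _ _ _).symm
  obtain ⟨c, c1, c2, e⟩ := lift F hs s2 hμ (H (kr (hh 2) (hh 2) 1) _
    (IsUnit.of_pow_eq_one (n := 2) (by decide +kernel) (by decide)) (ac_kr ac2_h ac2_h ac2_one)
    (by decide +kernel)) k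
  have r : kr (hh 2) (hh 2) 1 * rr 0 = rr 0 * kr (hh 2) (hh 2) 1 ∧
      kr (hh 2) (hh 2) 1 * rr 1 = rr 2 * kr (hh 2) (hh 2) 1 := by decide +kernel
  rw [← e] at k r
  exact ⟨c, ⟨c1, c2⟩, X.cj_QI F.toX8 (ce_nz c1) k r.1, X.cj_QI F.toX8 (ce_nz c1) k r.2⟩

omit F hs s2 hμ in
/-- **B-H** -/
theorem jobH : H39.BB.JobH.{u} := by
  intro G _ _ z Q l μ F H
  obtain ⟨c, hc, e⟩ := in_sg H
  obtain ⟨k1, k2⟩ := X.inv_lift F.toX8 hc (by rw [e, sg_sq])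
  have hs := pow_mem hc 3
  have hμ := k2.trans e
  exact ⟨c ^ 3, DD F.toX8, rfl, hμ, hs0 F.toFR hs k1 hμ H, full F.toFR hs k1 hμ H,
    fun T hT h3 => nine F H hs k1 hμ hT h3, swap F.toFR hs k1 hμ H⟩

end H27.BH
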