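import Cfsg.Agent.H80.BN
import Cfsg.Agent.Rz.H80_F23_E_nz_eq_2
/-! PS3B, chapter B, job H, part 1: matrices, the Sylow `3`-subgroup. -/
set_option autoImplicit false
set_option maxRecDepth 100000
namespace H27.BH
open Cfsg Subgroup H42.L3 H56.L3 H39.F23 H39.BB H80.F23 H80.BB Matrix
open H28.PS (SL3)
universe u

/-- the generators of `Q₈ × Q₈ × Q₈` -/
def GA (i : Fin 3) (b : Bool) : M8 := mk8 (cond b
  (![767635159184108840697461751670, 2863489554161984145611299271674, 3051916274398634329980877525066] i)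
  (![3055071209501523535659967676180, 714252888141025117780988552418, 620021580569635232459424786882] i))

def GI (i : Fin 3) (b : Bool) : List U := cond b
  (![[(.a, .o, .o), (.c, .a, .b), (.o, .a, .o), (.a, .c, .b), (.a, .a, .a), (.o, .o, .b)],
    [(.c, .b, .b), (.b, .o, .o), (.b, .c, .b), (.o, .b, .o), (.b, .b, .a), (.o, .o, .b)],
    [(.b, .c, .b), (.a, .c, .b), (.c, .b, .b), (.c, .a, .b), (.c, .c, .a), (.o, .o, .b)]] i)
  (![[(.o, .a, .o), (.a, .c, .a), (.a, .o, .o), (.c, .a, .a), (.o, .o, .a), (.a, .a, .b)],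
    [(.b, .c, .a), (.o, .b, .o), (.c, .b, .a), (.b, .o, .o), (.o, .o, .a), (.b, .b, .b)],
    [(.c, .b, .a), (.c, .a, .a), (.b, .c, .a), (.a, .c, .a), (.o, .o, .a), (.c, .c, .b)]] i)

theorem GA_four : ∀ i b, GA i b * (GA i b * (GA i b * GA i b)) = 1 := by decide +kernel
theorem GA_sp : ∀ i b, (GA i b)ᵀ * kr qi qi qi * GA i b = kr qi qi qi := by decide +kernel
theorem GA_sg : ∀ i b, GA i b * sg = sg * GA i b := by decide +kernel
theorem GA_pres : ∀ i b, Pres (GA i b) (Function.update 1 i (cond b qj qi)) := by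
  unfold Pres; decide +kernel
theorem GA_ac' : ∀ i b, ∀ p ∈ gens.zip (GI i b), GA i b * rho p.1 = rho p.2 * GA i b ∨
    GA i b * rho p.1 = -(rho p.2 * GA i b) := by decide +kernel
theorem GI_ex : ∀ i b, ∀ e ∈ gens, ∃ p ∈ gens.zip (GI i b), p.1 = e := by decide +kernel
theorem GA_ac (i : Fin 3) (b : Bool) : ∃ f, Ac (GA i b) f := ac_ex fun e he =>
  let ⟨p, h, k⟩ := GI_ex i b e he; ⟨p.2, k ▸ GA_ac' i b p h⟩

theorem q8 : ∀ n : M2, n.det = 1 → n ^ 4 = 1 → ∃ a b : Fin 4, n = qi ^ a.val * qj ^ b.val := by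
  simp only [det_fin_two]; decide +kernel

def tE : Tp := ((.b, .o, .o), (.o, .c, .o), (.o, .o, .a))
theorem ac_e : Ac (el (1, 2, 0, 0)) (app tE) := ac_of_gens (by decide +kernel)
theorem tE_nc : ∀ τ ∈ IL.map Prod.fst, mulT τ tE ≠ mulT tE τ := by decide +kernel

theorem LS {A : M8} {f : U → U} (hA : IsUnit A) (h : Ac A f) (k : ∀ x w, f (x, x, w) = (x, x, w)) :
    Ac A (app oneT) ∨ Ac A (app tS) := by
  have a := h.map_ad hA
  have n := h.map_qb hA
  have key : ∀ y : E, ∀ x w, qb (ad (f (y, .o, .o)) (x, x, w)) = qb (ad (y, .o, .o) (x, x, w)) :=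
    fun y x w => by rw [← n (ad (y, .o, .o) _), a, k]
  have d : ∀ p p' : U, (∀ x w, qb (ad p (x, x, w)) = qb (ad (.a, .o, .o) (x, x, w))) →
      (∀ x w, qb (ad p' (x, x, w)) = qb (ad (.b, .o, .o) (x, x, w))) → qb (ad p p') = true →
      p = (.a, .o, .o) ∧ p' = (.b, .o, .o) ∨ p = (.o, .a, .o) ∧ p' = (.o, .b, .o) := by
    have d1 : ∀ p : U, (∀ x w, qb (ad p (x, x, w)) = qb (ad (.a, .o, .o) (x, x, w))) →
      p = (.a, .o, .o) ∨ p = (.o, .a, .o) := by decide +kernel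
    have d2 : ∀ p : U, (∀ x w, qb (ad p (x, x, w)) = qb (ad (.b, .o, .o) (x, x, w))) →
      p = (.b, .o, .o) ∨ p = (.o, .b, .o) := by decide +kernel
    intro p p' h1 h2 h3
    rcases d1 p h1 with rfl | rfl <;> rcases d2 p' h2 with rfl | rfl <;> simp_all [qb, ad, E.ad, E.nz]
  have e1 : f (.o, .a, .o) = ad (f (.a, .o, .o)) (.a, .a, .o) := by rw [← k, ← a]; rfl
  have e2 : f (.o, .b, .o) = ad (f (.b, .o, .o)) (.b, .b, .o) := by rw [← k, ← a]; rfl
  refine (d _ _ (key .a) (key .b) (by rw [← a, n]; rfl)).imp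
    (fun e => h.congr (ac_ext hA isUnit_one h ac_one ?_)) fun e => h.congr (ac_ext hA sg_unit h ac_sg ?_)
  all_goals
    simp only [gens, List.forall_mem_cons, e1, e2, e.1, e.2, k, List.not_mem_nil, false_imp_iff, implies_true]
    decide

theorem conj_S0 {Γ Y : Subgroup M8ˣ} (hc : Nat.card Γ = 128 * 25920) (hS : S0 ≤ Γ) (hY : Y ≤ Γ)
    (h3 : IsPGroup 3 Y) : ∃ g ∈ Γ, H98.cj g Y ≤ S0 := by
  have : Fact (Nat.Prime 3) := ⟨by decide⟩
  refine (H98.isSyl_of_not_dvd_relIndex hS (IsPGroup.of_card (n := 4) card_S0) fun h => ?_).exists_cj_le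
    h3 hY
  have := (S0.subgroupOf Γ).card_mul_index
  rw [Nat.card_congr (Subgroup.subgroupOfEquivOfLe hS).toEquiv, card_S0, hc] at this
  change 81 * S0.relIndex Γ = _ at this
  omega

variable {G : Type*} [Group G] {z : G} {Q : Subgroup G} {l : G → V8} {μ : G → M8}

theorem in_sg (H : All z μ) : In z μ sg := H _ _ sg_unit ac_sg (by decide +kernel)
theorem in_g1 (H : All z μ) : In z μ g1 :=
  H _ _ (IsUnit.of_mul_eq_one _ ((mul_assoc _ _ _).symm.trans g12.1)) ac_g1 (by decide +kernel)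
theorem in_g2 (H : All z μ) : In z μ g2 :=
  H _ _ (IsUnit.of_mul_eq_one _ ((mul_assoc _ _ _).symm.trans g12.2.1)) ac_g2 (by decide +kernel)
theorem in_GA (H : All z μ) (i : Fin 3) (b : Bool) : In z μ (GA i b) :=
  let ⟨f, h⟩ := GA_ac i b; H _ f (IsUnit.of_mul_eq_one _ (GA_four i b)) h (GA_sp i b)

variable (F : FRB z Q l μ) (H : All z μ)
include F H

theorem in_el (w : W) : In z μ (el w) := by
  have h1 : In z μ (el (1, 0, 0, 0)) := by
    have e : el (1, 0, 0, 0) = kr qd 1 1 := by decide +kernel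
    exact H _ (app tD) (elU (1, 0, 0, 0)).isUnit (by rw [e]; exact ac_d) (by decide +kernel)
  have h2 : In z μ (el (0, 0, 0, 1)) := by
    have e : el (0, 0, 0, 1) = cy := by decide +kernel
    exact H _ (app tC) (elU (0, 0, 0, 1)).isUnit (by rw [e]; exact ac_cy) (by decide +kernel)
  have m : ∀ v w, In z μ (el v) → In z μ (el w) → In z μ (el (star v w)) := fun v w a b =>
    el_mul v w ▸ R.in_mul F.toFR a b
  have h0 : In z μ (el 0) := el_zero ▸ R.in_one F.toFR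
  have e : ∀ k : ZMod 3, k = 0 ∨ k = 1 ∨ k = 2 := by decide
  have k1 : ∀ x, In z μ (el (x, 0, 0, 0)) := fun x => by
    rcases e x with rfl | rfl | rfl
    exacts [h0, h1, (by decide : star (1, 0, 0, 0) (1, 0, 0, 0) = (2, 0, 0, 0)) ▸ m _ _ h1 h1]
  have k2 : In z μ (el (0, 0, 0, w.2.2.2)) := by
    rcases e w.2.2.2 with k | k | k <;> rw [k]
    exacts [h0, h2, (by decide : star (0, 0, 0, 1) (0, 0, 0, 1) = (0, 0, 0, 2)) ▸ m _ _ h2 h2]
  have : ∀ w : W, w = star (w.1, 0, 0, 0) (star (0, 0, 0, 1) (star (w.2.1, 0, 0, 0) (star (0, 0, 0, 1)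
      (star (w.2.2.1, 0, 0, 0) (star (0, 0, 0, 1) (0, 0, 0, w.2.2.2)))))) := by decide +kernel
  rw [this w]
  exact m _ _ (k1 _) (m _ _ h2 (m _ _ (k1 _) (m _ _ h2 (m _ _ (k1 _) (m _ _ h2 k2)))))

/-- The `3`-subgroups of `C(z)`. -/
theorem syl [Finite G] {Y : Subgroup G} (hY : Y ≤ Ce z) (h3 : IsPGroup 3 Y) : Q.relIndex Y ∣ 81 ∧
    ∃ c ∈ Ce z, 27 ∣ Q.relIndex Y →
      (∃ y ∈ Y, μ c * μ y = el (1, 2, 0, 0) * μ c) ∧ ∃ y ∈ Y, μ c * μ y = el (1, 1, 1, 0) * μ c := by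
  have e : Q.relIndex Y = Nat.card ((Y.subgroupOf (Ce z)).map (X.hom F.toX8)) := by
    rw [← relIndex_ker, X.hom_ker, relIndex_subgroupOf hY]
  obtain ⟨_, ⟨c, rfl⟩, h⟩ := conj_S0 (Γ := (X.hom F.toX8).range) (card_range F)
    (by rintro _ ⟨w, rfl⟩; exact (in_el F H w).elim fun c h => ⟨⟨c, h.1⟩, Units.ext h.2⟩)
    (map_le_range _ (Y.subgroupOf (Ce z))) ((H98.isPGroup_subgroupOf h3 _).map _)
  rw [← H98.card_cj (X.hom F.toX8 c)] at e
  have key : ∀ w, elU w ∈ H98.cj (X.hom F.toX8 c) ((Y.subgroupOf (Ce z)).map (X.hom F.toX8)) →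
      ∃ y ∈ Y, μ c * μ y = el w * μ c := by
    rintro w ⟨_, ⟨y, hy, rfl⟩, k⟩
    exact ⟨y, hy, congrArg Units.val (mul_inv_eq_iff_eq_mul.1 k)⟩
  generalize H98.cj (X.hom F.toX8 c) ((Y.subgroupOf (Ce z)).map (X.hom F.toX8)) = T at e h key
  rw [e]
  refine ⟨card_S0 ▸ card_dvd_of_le h, c, c.2, fun h27 => ⟨key _ ?_, key _ ?_⟩⟩
  · have := comm_mem card_S0 h h27 (a := elU (1, 0, 0, 0)) (b := elU (0, 0, 0, 1)) ⟨_, rfl⟩ ⟨_, rfl⟩
    convert this using 1
    exact Units.ext (by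
      change _ = el _ * el _ * el _ * el _
      rw [el_mul, el_mul, el_mul]; rfl)
  · have := comm_mem card_S0 h h27 (a := elU (0, 1, 2, 0)) (b := elU (0, 0, 0, 1)) ⟨_, rfl⟩ ⟨_, rfl⟩
    convert this using 1
    exact Units.ext (by
      change _ = el _ * el _ * el _ * el _
      rw [el_mul, el_mul, el_mul]; rfl)

theorem nine [Finite G] {s : G} (hs : s ∈ Ce z) (s2 : s * s = 1) (hμ : μ s = sg) {T : Subgroup G}
    (hT : T ≤ Ce z ⊓ Ce s) (h3 : IsPGroup 3 T) : Q.relIndex T ∣ 9 := by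
  have X := F.toX8
  obtain ⟨h81, c, hc, k⟩ := syl F H (hT.trans inf_le_left) h3
  by_contra hn
  obtain ⟨n, hn4, e⟩ := (Nat.dvd_prime_pow (m := 4) Nat.prime_three).1 h81
  obtain ⟨⟨y, hy, e1⟩, y', hy', e2⟩ := k (by
    rw [e] at hn ⊢
    exact pow_dvd_pow 3 (by_contra fun h => hn (pow_dvd_pow 3 (by omega : n ≤ 2)) : 3 ≤ n))
  have uc := H80.F23.X.unit' X hc
  have m := mul_mem (mul_mem hc hs) (inv_mem hc)
  have uA := H80.F23.X.unit' X m
  have k1 := H80.F23.X.cj_mul X (ce_nz hc) (ce_nz hs)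
  have sq : μ (c * s * c⁻¹) * μ (c * s * c⁻¹) = 1 := by
    rw [← H80.F23.X.mul X m m, conj_mul, s2, mul_one, mul_inv_cancel, H80.F23.X.mu_one X]
  obtain ⟨f, hf⟩ := R.exists_ac F.toFR (ce_nz m)
  have cm : ∀ y ∈ T, ∀ B, μ c * μ y = B * μ c → μ (c * s * c⁻¹) * B = B * μ (c * s * c⁻¹) := fun y hy B e =>
    uc.mul_right_cancel (by
      rw [mul_assoc, ← e, ← mul_assoc, k1, mul_assoc B, k1, ← mul_assoc B, ← e, mul_assoc, mul_assoc,
        ← H80.F23.X.mul X hs (hT hy).1, ← H80.F23.X.mul X (hT hy).1 hs, H42.L3.mem_Ce.1 (hT hy).2])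
  have c1 := cm y hy _ e1
  have c2 := cm y' hy' _ e2
  rw [hμ] at k1
  generalize μ (c * s * c⁻¹) = A at *
  obtain ⟨τ, t1, t2⟩ := hf.lin uA (w := u0) (Or.inl (by
    rw [rho_zero, one_mul, show ze = el (1, 1, 1, 0) by decide +kernel, c2]))
  rcases V2 τ t1 ((sq ▸ t2.mulT t2).tau_eq isUnit_one ac_one) with rfl | t3
  · obtain ⟨g, hg⟩ := R.exists_ac F.toFR (ce_nz hc)
    have := (t2.mul hg).uniq (uA.mul uc) (k1 ▸ hg.mul ac_sg) (.a, .o, .o)
    rw [Function.comp, app_one] at this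
    exact absurd (ac_inj uc hg this) (by decide)
  · have k := ac_e.mulT t2
    rw [← c1] at k
    exact tE_nc τ t3 ((t2.mulT ac_e).tau_eq (uA.mul (elU (1, 2, 0, 0)).isUnit) k)

end H27.BH
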