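/- Blackburn's classification of `p`-groups of rank two, I: Huppert's criterion and `p`-central groups. -/
import Cfsg.Agent.H48.Meta
import Cfsg.Agent.H19.Metacyclic3
import Cfsg.Agent.H9.MaxClass

set_option autoImplicit false

namespace H27.Bb

open Cfsg Subgroup
open scoped commutatorElement

universe u

variable {G : Type u} [Group G] {p : ℕ}

/-- the subgroup generated by the `p`-th powers -/
abbrev Mho (p : ℕ) (G : Type*) [Group G] : Subgroup G := powerClosure p 1 (⊤ : Subgroup G)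

theorem pow_mem_Mho (x : G) : x ^ p ∈ Mho p G := by
  have := H19.pow_mem_powerClosure (p := p) (n := 1) (mem_top x)
  rwa [pow_one] at this

theorem Mho_le {N : Subgroup G} (h : ∀ x : G, x ^ p ∈ N) : Mho p G ≤ N :=
  H19.powerClosure_le_iff.mpr fun x _ => by rw [pow_one]; exact h x

theorem isCyclic_quotient_of_index_le [Finite G] [hp : Fact p.Prime] (hG : IsPGroup p G)
    (N : Subgroup G) [N.Normal] (h : N.index ≤ p) : IsCyclic (G ⧸ N) := by
  obtain ⟨n, hn⟩ := hG.index N
  rw [hn] at h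
  have : n ≤ 1 := (Nat.pow_le_pow_iff_right hp.out.one_lt).mp (by simpa using h)
  exact isCyclic_of_card_dvd_prime (p := p)
    (by rw [← Subgroup.index_eq_card, hn]; simpa using Nat.pow_dvd_pow p this)

theorem index_le_of_lt [Finite G] [hp : Fact p.Prime] (hG : IsPGroup p G) {H K : Subgroup G}
    (h : H < K) {m : ℕ} (hi : H.index ≤ p * m) : K.index ≤ m := by
  have h1 := H9.mul_card_le_of_lt hG h
  have h3 := K.card_mul_index
  rw [← H.card_mul_index] at h3
  have h4 : p * Nat.card H * K.index ≤ p * Nat.card H * m := by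
    calc _ ≤ _ := Nat.mul_le_mul_right _ h1
      _ = _ := h3
      _ ≤ Nat.card H * (p * m) := Nat.mul_le_mul_left _ hi
      _ = _ := by ring
  exact Nat.le_of_mul_le_mul_left h4 (Nat.mul_pos hp.out.pos Nat.card_pos)

theorem isMetacyclic_of_cyclic_der [Finite G] [hp : Fact p.Prime] (hp2 : p ≠ 2) (hG : IsPGroup p G)
    (hFi : (Mho p G).index ≤ p ^ 2) (hc : IsCyclic (commutator G)) : IsMetacyclic G := by
  have hR := H19.regAt_one_of_isCyclic_commutator hp2 hG hc
  have hFΦ : Mho p G ≤ frattini G := Mho_le (H3.pow_mem_frattini_pgroup hG)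
  obtain ⟨C, ⟨hC1, hC2⟩, hmax⟩ := Set.Finite.exists_maximal
    (Set.toFinite {C : Subgroup G | IsCyclic C ∧ commutator G ≤ C}) ⟨_, hc, le_rfl⟩
  have := Subgroup.Normal.of_commutator_le G hC2
  obtain ⟨c, rfl⟩ := H48.isCyclic_iff_zpowers.mp hC1
  refine H48.isMetacyclic_iff.mpr ?_
  by_cases hcF : c ∈ Mho p G
  · obtain ⟨x, -, rfl⟩ := (hR.mem_powerClosure_iff hG).mp hcF
    rw [pow_one] at *
    have hle : zpowers (x ^ p) ≤ zpowers x := zpowers_le.mpr (npow_mem_zpowers x p)
    have hge := hmax (y := zpowers x) ⟨inferInstance, hC2.trans hle⟩ hle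
    have hx1 : x = 1 := by
      by_contra hx
      have h1 := Subgroup.card_le_of_le hge
      rw [Nat.card_zpowers, Nat.card_zpowers] at h1
      have h2 : orderOf (x ^ p) = orderOf x / p :=
        orderOf_pow_of_dvd hp.out.ne_zero (hG.dvd_orderOf hx)
      have := Nat.div_lt_self (orderOf_pos x) hp.out.one_lt
      omega
    subst hx1
    have hall : ∀ y : G, y = 1 := fun y => by
      have hle : zpowers ((1 : G) ^ p) ≤ zpowers y := by simp
      have := hmax (y := zpowers y) ⟨inferInstance, hC2.trans hle⟩ hle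
      simpa using this
    refine ⟨1, 1, by simp, eq_top_iff.mpr fun y _ => ?_⟩
    rw [hall y]; exact one_mem _
  · have hlt : Mho p G < Mho p G ⊔ zpowers c :=
      lt_of_le_of_ne le_sup_left fun he => hcF (he ▸ mem_sup_right (mem_zpowers c))
    have h2 := index_le_of_lt hG hlt (m := p) (by rwa [← sq])
    obtain ⟨d, hd⟩ := H48.exists_sup_zpowers_of_isCyclic_quotient
      (isCyclic_quotient_of_index_le hG _ h2)
    refine ⟨c, d, this, H3.eq_top_of_sup_eq_top_of_le_frattini hFΦ ?_⟩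
    rw [← hd, sup_comm _ (Mho p G), sup_assoc]

/-- a central extension of a metacyclic group has cyclic derived subgroup -/
theorem isCyclic_der_of_quotient [Finite G] {T : Subgroup G} [T.Normal] (hT : T ≤ center G)
    (h : IsMetacyclic (G ⧸ T)) : IsCyclic (commutator G) := by
  obtain ⟨a, b, hn, hab⟩ := H48.isMetacyclic_iff.mp h
  obtain ⟨a, rfl⟩ := QuotientGroup.mk'_surjective T a
  obtain ⟨b, rfl⟩ := QuotientGroup.mk'_surjective T b
  have e1 : T ⊔ zpowers a = (zpowers (QuotientGroup.mk' T a)).comap (QuotientGroup.mk' T) := by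
    rw [← MonoidHom.map_zpowers, comap_map_eq, QuotientGroup.ker_mk', sup_comm]
  have e2 : T ⊔ zpowers a ⊔ zpowers b = ⊤ := by
    have := congrArg (comap (QuotientGroup.mk' T)) hab
    rw [← MonoidHom.map_zpowers, ← MonoidHom.map_zpowers, ← Subgroup.map_sup, comap_map_eq,
      QuotientGroup.ker_mk', comap_top] at this
    rw [← this, sup_assoc, sup_comm]
  rw [H48.commutator_eq_zpowers hT (e1 ▸ hn.comap _) e2]
  infer_instance

theorem index_Mho_quotient_le [Finite G] (T : Subgroup G) [T.Normal] :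
    (Mho p (G ⧸ T)).index ≤ (Mho p G).index := by
  have h1 : Mho p G ≤ (Mho p (G ⧸ T)).comap (QuotientGroup.mk' T) :=
    Mho_le fun x => by rw [mem_comap, map_pow]; exact pow_mem_Mho _
  rw [← index_comap_of_surjective _ (QuotientGroup.mk'_surjective T)]
  exact index_antitone h1

theorem huppert_aux [hp : Fact p.Prime] (hp2 : p ≠ 2) (n : ℕ) :
    ∀ (G : Type u) [Group G] [Finite G], Nat.card G = n → IsPGroup p G →
      (Mho p G).index ≤ p ^ 2 → IsMetacyclic G := by
  induction n using Nat.strong_induction_on with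
  | _ n ih =>
  intro G _ _ hn hG hi
  refine isMetacyclic_of_cyclic_der hp2 hG hi ?_
  by_cases h0 : commutator G = ⊥
  · rw [h0]; infer_instance
  obtain ⟨z, -, hz, hzo⟩ := H9.exists_mem_center_orderOf_eq hG h0
  have hT : zpowers z ≤ center G := zpowers_le.mpr hz
  have := H48.normal_of_le_center hT
  refine isCyclic_der_of_quotient hT (ih _ ?_ _ rfl (hG.to_quotient _)
    ((index_Mho_quotient_le _).trans hi))
  rw [← hn, card_eq_card_quotient_mul_card_subgroup (zpowers z), Nat.card_zpowers, hzo]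
  exact lt_mul_of_one_lt_right Nat.card_pos hp.out.one_lt

/-- Huppert: for odd `p`, `|G : ℧₁(G)| ≤ p²` forces `G` metacyclic. -/
theorem huppert [Finite G] [Fact p.Prime] (hp2 : p ≠ 2) (hG : IsPGroup p G)
    (hi : (Mho p G).index ≤ p ^ 2) : IsMetacyclic G :=
  huppert_aux hp2 _ G rfl hG hi

theorem mul_pow_of_central [hp : Fact p.Prime] (hp2 : p ≠ 2) {x y : G}
    (h1 : ⁅y⁻¹, x⁻¹⁆ ∈ center G) (h2 : ⁅y⁻¹, x⁻¹⁆ ^ p = 1) : (x * y) ^ p = x ^ p * y ^ p := by
  have h := H48.mul_pow_of_class_three (x := x) (y := y) (c := ⁅y⁻¹, x⁻¹⁆) (d := 1) (e := 1)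
    (by simp only [commutatorElement_def]; group)
    (by rw [mul_one]; exact ((mem_center_iff.mp h1) x).symm)
    (by rw [mul_one]; exact ((mem_center_iff.mp h1) y).symm) (one_mem _) (one_mem _) p
  have hd : p ∣ p.choose 2 := hp.out.dvd_choose_self two_ne_zero
    (lt_of_le_of_ne hp.out.two_le (Ne.symm hp2))
  rw [h, H48.pow_eq_one_of_dvd' h2 hd]; simp

/-- every element of order `p` is central -/
def PC (p : ℕ) (G : Type*) [Group G] : Prop := ∀ x : G, x ^ p = 1 → x ∈ center G

theorem PC.subgroup (h : PC p G) (H : Subgroup G) : PC p H := fun x hx =>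
  mem_center_iff.mpr fun y => Subtype.ext
    (mem_center_iff.mp (h x (by simpa using congrArg Subtype.val hx)) y)

theorem PC.Om_le (h : PC p G) : H48.Om p G ≤ center G := (closure_le _).mpr fun x hx => h x hx

theorem PC.pow_eq_one (h : PC p G) {g : G} (hg : g ∈ H48.Om p G) : g ^ p = 1 :=
  H48.pow_eq_one_of_mem_Om_of_mul (fun x y hx hy => by
    rw [Commute.mul_pow (mem_center_iff.mp (h y hy) x), hx, hy, one_mul]) hg

theorem laffey_aux [hp : Fact p.Prime] (hp2 : p ≠ 2) (n : ℕ) :
    ∀ (G : Type u) [Group G] [Finite G], Nat.card G = n → IsPGroup p G → PC p G →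
      ∀ a g : G, a ^ p ∈ center G → ⁅a, g⁆ ^ p = 1 := by
  induction n using Nat.strong_induction_on with
  | _ n ih =>
  intro G _ _ hn hG hPC a g ha
  have := hG.isNilpotent
  by_cases htop : closure ({a, g * a * g⁻¹} : Set G) = ⊤
  · have h1 : zpowers a ⊔ commutator G = ⊤ := by
      rw [eq_top_iff, ← htop, closure_le]
      rintro x (rfl | rfl)
      · exact mem_sup_left (mem_zpowers _)
      · have : g * a * g⁻¹ = ⁅g, a⁆ * a := by simp [commutatorElement_def]
        rw [this]
        exact mul_mem (mem_sup_right (commutator_mem_commutator (mem_top _) (mem_top _)))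
          (mem_sup_left (mem_zpowers _))
    obtain ⟨k, rfl⟩ : g ∈ zpowers a := by rw [H19.eq_top_of_sup_commutator h1]; trivial
    rw [((Commute.refl a).zpow_right k).commutator_eq, one_pow]
  · set H := closure ({a, g * a * g⁻¹} : Set G)
    have m1 : a ∈ H := subset_closure (by simp)
    have m2 : g * a * g⁻¹ ∈ H := subset_closure (by simp)
    have e : (g * a * g⁻¹) ^ p = a ^ p := by
      rw [conj_pow, mem_center_iff.mp ha g, mul_inv_cancel_right]
    have h2 := ih _ (hn ▸ H19.card_lt_of_ne_top htop) H rfl (hG.to_subgroup H) (hPC.subgroup H)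
      ⟨_, m2⟩ ⟨_, inv_mem m1⟩ (mem_center_iff.mpr fun y => Subtype.ext (by
        simp only [Subgroup.coe_mul, SubgroupClass.coe_pow]
        rw [e]; exact mem_center_iff.mp ha y))
    have h3 : ⁅g * a * g⁻¹, a⁻¹⁆ ^ p = 1 := congrArg Subtype.val h2
    have h4 := mul_pow_of_central hp2 (x := a) (y := (g * a * g⁻¹)⁻¹)
      (by rw [inv_inv]; exact hPC _ h3) (by rw [inv_inv]; exact h3)
    rw [inv_pow, e, mul_inv_cancel] at h4
    rw [← h4]; congr 1; simp [commutatorElement_def, mul_assoc]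

theorem PC.laffey [Finite G] [Fact p.Prime] (h : PC p G) (hp2 : p ≠ 2) (hG : IsPGroup p G)
    {a : G} (ha : a ^ p ∈ center G) (g : G) : ⁅a, g⁆ ^ p = 1 :=
  laffey_aux hp2 _ G rfl hG h a g ha

theorem PC.mul_pow [Finite G] [Fact p.Prime] (h : PC p G) (hp2 : p ≠ 2) (hG : IsPGroup p G)
    (x : G) {y : G} (hy : y ^ p ∈ center G) : (x * y) ^ p = x ^ p * y ^ p := by
  have h1 := h.laffey hp2 hG (a := y⁻¹) (by rw [inv_pow]; exact inv_mem hy) x⁻¹
  exact mul_pow_of_central hp2 (h _ h1) h1

theorem PC.quotient [Finite G] [Fact p.Prime] (h : PC p G) (hp2 : p ≠ 2) (hG : IsPGroup p G) :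
    PC p (G ⧸ H48.Om p G) := by
  intro a ha
  obtain ⟨a, rfl⟩ := QuotientGroup.mk_surjective a
  rw [← QuotientGroup.mk_pow, QuotientGroup.eq_one_iff] at ha
  refine mem_center_iff.mpr fun g => ?_
  obtain ⟨g, rfl⟩ := QuotientGroup.mk_surjective g
  symm
  rw [← commutatorElement_eq_one_iff_mul_comm]
  exact (QuotientGroup.eq_one_iff (⁅a, g⁆ : G)).mpr (H48.mem_Om (h.laffey hp2 hG (h.Om_le ha) g))

theorem PC.card_Om_quotient_le [Finite G] [Fact p.Prime] (h : PC p G) (hp2 : p ≠ 2)
    (hG : IsPGroup p G) (Z : Subgroup G) (hZ : ∀ a : G, a ^ p ∈ H48.Om p G → a ^ p ∈ Z) :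
    Nat.card (H48.Om p (G ⧸ H48.Om p G)) ≤ Nat.card Z := by
  have key : ∀ a : H48.Om p (G ⧸ H48.Om p G), (a.1.out) ^ p ∈ H48.Om p G := fun a => by
    rw [← QuotientGroup.eq_one_iff, QuotientGroup.mk_pow, QuotientGroup.out_eq']
    exact (h.quotient hp2 hG).pow_eq_one a.2
  refine Nat.card_le_card_of_injective (fun a => ⟨a.1.out ^ p, hZ _ (key a)⟩) fun a b hab => ?_
  have h1 : a.1.out ^ p = b.1.out ^ p := congrArg Subtype.val hab
  apply Subtype.ext
  rw [← QuotientGroup.out_eq' a.1, ← QuotientGroup.out_eq' b.1, QuotientGroup.eq]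
  refine H48.mem_Om ?_
  rw [h.mul_pow hp2 hG _ (h.Om_le (key b)), inv_pow, h1, inv_mul_cancel]

theorem isMetacyclic_of_isCyclic (h : IsCyclic G) : IsMetacyclic G := by
  obtain ⟨g, hg⟩ := IsCyclic.exists_generator (α := G)
  have e : zpowers g = ⊤ := eq_top_iff.mpr fun x _ => hg x
  exact H48.isMetacyclic_iff.mpr ⟨g, g, by rw [e]; infer_instance, by rw [e, sup_idem]⟩

theorem index_Mho_of_reg [Finite G] [Fact p.Prime] (hR : H19.RegAt p 1 G) (hG : IsPGroup p G) :
    (Mho p G).index = Nat.card (H48.Om p G) := by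
  rw [hR.index_powerClosure hG 1]
  congr 3
  ext x
  rw [hR.mem_omega, pow_one]
  refine ⟨H48.mem_Om, fun hx => ?_⟩
  have := hR.closure_pow_eq_one hG (k := 1) (s := {x : G | x ^ p = 1}) (by simp) hx
  rwa [pow_one] at this

theorem pc_aux [hp : Fact p.Prime] (hp2 : p ≠ 2) (n : ℕ) :
    ∀ (G : Type u) [Group G] [Finite G], Nat.card G = n → IsPGroup p G → PC p G →
      Nat.card (H48.Om p G) ≤ p ^ 2 → IsMetacyclic G := by
  induction n using Nat.strong_induction_on with
  | _ n ih =>
  intro G _ _ hn hG hPC hO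
  by_cases hc : IsCyclic G
  · exact isMetacyclic_of_isCyclic hc
  have h1 := H48.sq_le_card_Om hp2 hG hc
  have h2 : IsMetacyclic (G ⧸ H48.Om p G) := by
    refine ih _ ?_ _ rfl (hG.to_quotient _) (hPC.quotient hp2 hG)
      ((hPC.card_Om_quotient_le hp2 hG _ fun _ h => h).trans hO)
    rw [← hn, card_eq_card_quotient_mul_card_subgroup (H48.Om p G)]
    exact lt_mul_of_one_lt_right Nat.card_pos
      (lt_of_lt_of_le (Nat.one_lt_pow two_ne_zero hp.out.one_lt) h1)
  have h3 := isCyclic_der_of_quotient hPC.Om_le h2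
  refine huppert hp2 hG ?_
  rwa [index_Mho_of_reg (H19.regAt_one_of_isCyclic_commutator hp2 hG h3) hG]

theorem PC.isMetacyclic [Finite G] [Fact p.Prime] (h : PC p G) (hp2 : p ≠ 2) (hG : IsPGroup p G)
    (hO : Nat.card (H48.Om p G) ≤ p ^ 2) : IsMetacyclic G :=
  pc_aux hp2 _ G rfl hG h hO

end H27.Bb
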