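/- Blackburn's classification of `p`-groups of rank two, II: the centralizer of a normal `p × p`. -/
import Cfsg.Agent.H27.Bb1

set_option autoImplicit false
set_option linter.unusedSectionVars false

namespace H27.Bb

open Cfsg Subgroup
open scoped commutatorElement

universe u

variable {G : Type u} [Group G] {p : ℕ}

/-- `G` is a `p`-group of rank two, `V` a normal subgroup of type `(p, p)`. -/
structure St (p : ℕ) (V : Subgroup G) : Prop where
  hp2 : p ≠ 2
  hG : IsPGroup p G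
  hr : PRankLE p 2 G
  hn : V.Normal
  hV : IsElementaryAbelian p V
  hc : Nat.card V = p ^ 2

/-- centralizer of `V` -/
abbrev CC (V : Subgroup G) : Subgroup G := centralizer (V : Set G)
/-- central part of `V` -/
abbrev ZZ (V : Subgroup G) : Subgroup G := V ⊓ center G

/-- an element of order `p` outside `C(V)` centralizing `C(V) / V` -/
def TypeE (p : ℕ) (V : Subgroup G) : Prop :=
  ∃ x : G, x ∉ CC V ∧ x ^ p = 1 ∧ ∀ g ∈ CC V, ⁅x⁻¹, g⁆ ∈ V

theorem comm_of_mem_CC {V : Subgroup G} {g v : G} (hg : g ∈ CC V) (hv : v ∈ V) : Commute v g :=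
  mem_centralizer_iff.mp hg v hv

theorem eq_of_le_of_card_le [Finite G] {H K : Subgroup G} (h : H ≤ K)
    (hc : Nat.card K ≤ Nat.card H) : H = K :=
  eq_of_le_of_card_ge h hc

theorem eq_zpowers_of_card [Finite G] [hp : Fact p.Prime] {Z : Subgroup G} (hZ : Nat.card Z = p)
    {z : G} (hz : z ∈ Z) (h1 : z ≠ 1) : zpowers z = Z := by
  refine eq_of_le_of_card_le (zpowers_le.mpr hz) ?_
  have h2 : Nat.card (zpowers z) ∣ p := hZ ▸ card_dvd_of_le (zpowers_le.mpr hz)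
  rcases (Nat.dvd_prime hp.out).mp h2 with h | h
  · rw [Nat.card_zpowers, orderOf_eq_one_iff] at h; exact (h1 h).elim
  · rw [h, hZ]

namespace St

variable [Finite G] [hp : Fact p.Prime] {V : Subgroup G} (S : St p V)
include S

theorem V_le : V ≤ CC V := by
  have := S.hV.1
  exact le_centralizer V

theorem CC_normal : (CC V).Normal := by
  have := S.hn
  infer_instance

theorem mem_V {g : G} (hg : g ∈ CC V) (h1 : g ^ p = 1) : g ∈ V := by
  have := S.hn
  have hcomm : ∀ a ∈ V ⊔ zpowers g, ∀ b ∈ V ⊔ zpowers g, Commute a b := by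
    intro a ha b hb
    obtain ⟨v, hv, i, rfl⟩ := H9.mem_sup_zpowers.mp ha
    obtain ⟨w, hw, j, rfl⟩ := H9.mem_sup_zpowers.mp hb
    exact ((comm_of_mem_CC (S.V_le hw) hv).mul_right
      ((comm_of_mem_CC hg hv).zpow_right j)).mul_left
      (((comm_of_mem_CC hg hw).symm.zpow_left i).mul_right ((Commute.refl g).zpow_zpow i j))
  have h2 := S.hr (V ⊔ zpowers g) ⟨⟨fun a b => Subtype.ext (hcomm _ a.2 _ b.2)⟩⟩ fun a ha => by
    obtain ⟨v, hv, i, rfl⟩ := H9.mem_sup_zpowers.mp ha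
    rw [((comm_of_mem_CC hg hv).zpow_right i).mul_pow, S.hV.2 v hv, ← zpow_natCast, ← zpow_mul,
      mul_comm i, zpow_mul, zpow_natCast, h1, one_zpow, one_mul]
  rw [eq_of_le_of_card_le (le_sup_left : V ≤ V ⊔ zpowers g) (S.hc ▸ h2)]
  exact mem_sup_right (mem_zpowers g)

theorem pc : PC p (CC V) := fun x hx => mem_center_iff.mpr fun y => Subtype.ext
  (comm_of_mem_CC y.2 (S.mem_V x.2 (by simpa using congrArg Subtype.val hx))).symm

theorem mem_Om_iff {x : CC V} : x ∈ H48.Om p (CC V) ↔ x.1 ∈ V :=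
  ⟨fun h => S.mem_V x.2 (by simpa using congrArg Subtype.val (S.pc.pow_eq_one h)),
    fun h => H48.mem_Om (Subtype.ext (by simpa using S.hV.2 _ h))⟩

theorem card_Om : Nat.card (H48.Om p (CC V)) = p ^ 2 := by
  have : H48.Om p (CC V) = V.subgroupOf (CC V) := by ext x; rw [S.mem_Om_iff, mem_subgroupOf]
  rw [this, Nat.card_congr (subgroupOfEquivOfLe S.V_le).toEquiv, S.hc]

theorem meta_CC : IsMetacyclic (CC V) :=
  S.pc.isMetacyclic S.hp2 (S.hG.to_subgroup _) S.card_Om.le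

theorem mul_pow {x y : G} (hx : x ∈ CC V) (hy : y ∈ CC V) (h : y ^ p ∈ V) :
    (x * y) ^ p = x ^ p * y ^ p :=
  congrArg Subtype.val (S.pc.mul_pow S.hp2 (S.hG.to_subgroup _) ⟨x, hx⟩ (y := ⟨y, hy⟩)
    (S.pc.Om_le (S.mem_Om_iff.mpr h)))

theorem commute_pow {a w : G} (ha : a ∈ CC V) (hw : w ∈ CC V) (h : w ^ p ∈ V) :
    Commute (a ^ p) w := by
  have h1 : ⁅w, a⁆ ^ p = 1 := congrArg Subtype.val (S.pc.laffey S.hp2 (S.hG.to_subgroup _)
    (a := ⟨w, hw⟩) (S.pc.Om_le (S.mem_Om_iff.mpr h)) ⟨a, ha⟩)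
  have h2 : ⁅w, a⁆ ∈ V := S.mem_V (by
    rw [commutatorElement_def]; exact mul_mem (mul_mem (mul_mem hw ha) (inv_mem hw)) (inv_mem ha)) h1
  have h3 : w * a * w⁻¹ = ⁅w, a⁆ * a := by simp [commutatorElement_def]
  have h4 : w * a ^ p * w⁻¹ = a ^ p := by
    rw [← conj_pow, h3, (comm_of_mem_CC ha h2).mul_pow, h1, one_mul]
  exact (mul_inv_eq_iff_eq_mul.mp h4).symm

theorem comm_mem_ZZ {v : G} (hv : v ∈ V) (g : G) : ⁅v, g⁆ ∈ ZZ V := by
  have := S.hn
  refine ⟨commutator_le_left V ⊤ (commutator_mem_commutator hv (mem_top g)), ?_⟩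
  have h := H48.commutator_commutator_top_eq_bot_of_card_le S.hG V S.hc.le
  rw [commutator_eq_bot_iff_le_centralizer] at h
  have h2 := h (commutator_mem_commutator hv (mem_top g))
  exact mem_center_iff.mpr fun y => mem_centralizer_iff.mp h2 y (mem_top y)

theorem comm_mem_ZZ' {v : G} (hv : v ∈ V) (g : G) : ⁅g, v⁆ ∈ ZZ V := by
  rw [← commutatorElement_inv]; exact inv_mem (S.comm_mem_ZZ hv g)

variable {u : G} (hu : u ∉ CC V)
include hu

theorem index_CC : (CC V).index = p := by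
  have := S.hn
  rcases (Nat.dvd_prime hp.out).mp (H48.index_centralizer_dvd S.hG V S.hc.le) with h | h
  · rw [index_eq_one] at h; exact (hu (by rw [CC, h]; trivial)).elim
  · exact h

theorem sup_eq : CC V ⊔ zpowers u = ⊤ := H9.sup_zpowers_eq_top_of_index S.hG (S.index_CC hu) hu

theorem pow_mem_CC (g : G) : g ^ p ∈ CC V := by
  have := S.CC_normal
  rw [← S.index_CC hu]; exact pow_index_mem _ g

theorem mem_ZZ {v : G} (hv : v ∈ V) (h : Commute v u) : v ∈ ZZ V := by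
  refine ⟨hv, mem_center_iff.mpr fun g => ?_⟩
  have := S.CC_normal
  obtain ⟨c, hc, i, rfl⟩ := H9.mem_sup_zpowers.mp (S.sup_eq hu ▸ mem_top g)
  exact ((comm_of_mem_CC hc hv).mul_right (h.zpow_right i)).symm

theorem exists_not_ZZ : ∃ v ∈ V, v ∉ ZZ V := by
  by_contra! h
  exact hu (mem_centralizer_iff.mpr fun v hv => (mem_center_iff.mp (h v hv).2 u).symm)

theorem card_ZZ : Nat.card (ZZ V) = p := by
  have := S.hn
  obtain ⟨v, hv, hv'⟩ := S.exists_not_ZZ hu
  have h1 := H9.mul_card_le_of_lt S.hG (show ZZ V < V from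
    lt_of_le_of_ne inf_le_left fun h => hv' (by rw [h]; exact hv))
  have hV0 : V ≠ ⊥ := by rintro rfl; exact hv' ⟨hv, (mem_bot.mp hv).symm ▸ one_mem _⟩
  obtain ⟨z, hz, hzc, hzo⟩ := H9.exists_mem_center_orderOf_eq S.hG hV0
  have h2 := card_le_of_le (show zpowers z ≤ ZZ V from zpowers_le.mpr ⟨hz, hzc⟩)
  rw [Nat.card_zpowers, hzo] at h2
  rw [S.hc, sq] at h1
  exact le_antisymm (Nat.le_of_mul_le_mul_left h1 hp.out.pos) h2

theorem ZZ_sup {v : G} (hv : v ∈ V) (hv' : v ∉ ZZ V) : ZZ V ⊔ zpowers v = V := by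
  refine eq_of_le_of_card_le (sup_le inf_le_left (zpowers_le.mpr hv)) ?_
  have h1 := H9.mul_card_le_of_lt S.hG (show ZZ V < ZZ V ⊔ zpowers v from
    lt_of_le_of_ne le_sup_left fun h => hv' (h ▸ mem_sup_right (mem_zpowers v)))
  rwa [S.card_ZZ hu, ← sq, ← S.hc] at h1

theorem isCyclic_of_inf {H : Subgroup G} (h1 : H ≤ CC V) (h2 : ∀ v ∈ H, v ∈ V → v ∈ ZZ V) :
    IsCyclic H := by
  rw [H48.isCyclic_iff_pRankLE_one S.hp2 (S.hG.to_subgroup H), H48.pRankLE_iff_subgroup]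
  intro A hA hE
  rw [pow_one, ← S.card_ZZ hu]
  exact card_le_of_le fun a ha => h2 a (hA ha) (S.mem_V (h1 (hA ha)) (hE.2 a ha))

end St

end H27.Bb
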