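/- Blackburn's classification of `p`-groups of rank two, III: the trichotomy. -/
import Cfsg.Agent.H27.Bb2

set_option autoImplicit false
set_option linter.unusedSectionVars false

namespace H27.Bb

open Cfsg Subgroup
open scoped commutatorElement

universe u

variable {G : Type u} [Group G] {p : ℕ}

namespace St

variable [Finite G] [hp : Fact p.Prime] {V : Subgroup G} (S : St p V)
include S

theorem dvd_choose : p ∣ p.choose 2 :=
  hp.out.dvd_choose_self two_ne_zero (lt_of_le_of_ne hp.out.two_le (Ne.symm S.hp2))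

theorem omega_case (h : ∀ g ∈ H48.Om p G, g ^ p = 1) :
    Nat.card (H48.Om p G) ≤ p ^ 2 ∨ TypeE p V := by
  have := S.hn
  by_cases hle : H48.Om p G ≤ V
  · exact Or.inl (S.hc ▸ card_le_of_le hle)
  obtain ⟨x, hx, hxV, -, hc⟩ := H9.exists_central_step S.hG hle
  refine Or.inr ⟨x⁻¹, fun hC => hxV (S.mem_V (inv_mem_iff.mp hC) (h x hx)), ?_, fun g _ => ?_⟩
  · rw [inv_pow, h x hx, inv_one]
  · rw [inv_inv]; exact hc g

theorem reg_case (hR : H19.RegAt p 1 G) : IsMetacyclic G ∨ TypeE p V := by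
  refine (S.omega_case fun g hg => ?_).imp_left fun h => huppert S.hp2 S.hG ?_
  · have := hR.closure_pow_eq_one S.hG (k := 1) (s := {x : G | x ^ p = 1}) (by simp) hg
    rwa [pow_one] at this
  · rwa [index_Mho_of_reg hR S.hG]

theorem big_case (hp3 : 3 < p) : IsMetacyclic G ∨ TypeE p V :=
  (S.omega_case fun _ hg => H48.pow_eq_one_of_mem_Om_of_rank_two hp3 S.hG S.hr hg).imp_left
    (H48.isMetacyclic_of_card_Om_le hp3 S.hG)

theorem reg_CC : H19.RegAt p 1 (CC V) := by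
  obtain ⟨a, b, h⟩ := H19.exists_MC S.meta_CC
  exact h.regAt S.hp2 (S.hG.to_subgroup _)

variable {u : G} (hu : u ∉ CC V)
include hu

theorem pow_case : IsMetacyclic G ∨ ∃ a ∈ CC V, u ^ p = a ^ p := by
  set M := (Mho p (CC V)).map (CC V).subtype
  by_cases hM : u ^ p ∈ M
  · obtain ⟨c, hc, he⟩ := hM
    obtain ⟨a, -, rfl⟩ := (S.reg_CC.mem_powerClosure_iff (S.hG.to_subgroup _)).mp hc
    exact Or.inr ⟨a, a.2, by simpa using he.symm⟩
  refine Or.inl (huppert S.hp2 S.hG (index_le_of_lt S.hG (H := M) ?_ ?_))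
  · refine lt_of_le_of_ne ?_ fun h => hM (h ▸ pow_mem_Mho u)
    rw [map_le_iff_le_comap]
    exact Mho_le fun x => pow_mem_Mho x.1
  · rw [index_map_subtype, index_Mho_of_reg S.reg_CC (S.hG.to_subgroup _), S.card_Om,
      S.index_CC hu, mul_comm]

theorem exists_pow_eq {w t : G} (hw : w ∈ ZZ V) (h1 : w ≠ 1) (ht : t ∈ ZZ V) :
    ∃ k : ℕ, w ^ k = t := by
  rw [← eq_zpowers_of_card (S.card_ZZ hu) hw h1] at ht
  exact mem_powers_iff_mem_zpowers.mpr ht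

theorem not_commute {w w' : G} (hw : w ∈ CC V) (hwu : Commute w u) (hwV : w ^ p ∈ V)
    (hw1 : w ^ p ≠ 1) (hw' : w' ∈ CC V) (hV' : w' ^ p ∈ V) (hZ' : w' ^ p ∉ ZZ V) :
    ¬ Commute (u ^ p) w' := by
  have hN := S.CC_normal
  have hwZ : w ^ p ∈ ZZ V := S.mem_ZZ hu hwV (hwu.pow_left p)
  set c := u⁻¹ * w'⁻¹ * u * w' with hc
  have m1 : u⁻¹ * w'⁻¹ * u ∈ CC V := by simpa using hN.conj_mem _ (inv_mem hw') u⁻¹
  have hcC : c ∈ CC V := mul_mem m1 hw'
  have e1 : c ^ p = ⁅u⁻¹, (w' ^ p)⁻¹⁆ := by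
    rw [hc, S.mul_pow m1 hw' hV', commutatorElement_def, inv_inv, inv_inv, ← inv_pow]
    congr 1
    simpa using conj_pow (i := p) (a := u⁻¹) (b := w'⁻¹)
  have hcZ : c ^ p ∈ ZZ V := e1 ▸ S.comm_mem_ZZ' (inv_mem hV') _
  have hc1 : c ^ p ≠ 1 := fun h => hZ' (S.mem_ZZ hu hV' (by
    rw [e1, commutatorElement_eq_one_iff_commute] at h
    simpa using h.symm))
  obtain ⟨k, hk⟩ := S.exists_pow_eq hu hwZ hw1 hcZ
  have hv : (w ^ k)⁻¹ * c ∈ V := S.mem_V (mul_mem (inv_mem (pow_mem hw k)) hcC) (by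
    rw [S.mul_pow (inv_mem (pow_mem hw k)) hcC hcZ.1, ← hk, inv_pow, ← pow_mul, ← pow_mul,
      mul_comm k p, inv_mul_cancel])
  have he : ⁅c⁻¹, u⁻¹⁆ ∈ ZZ V := by
    have : ⁅c⁻¹, u⁻¹⁆ = ⁅((w ^ k)⁻¹ * c)⁻¹, u⁻¹⁆ := by
      have h := (hwu.pow_left k).inv_right.eq
      simp only [commutatorElement_def, inv_inv, mul_inv_rev]
      rw [mul_assoc c⁻¹ (w ^ k), h]; group
    rw [this]; exact S.comm_mem_ZZ (inv_mem hv) _
  have h := H48.pow_mul_eq_of_class_three (x := w') (y := u) (c := c) (e := ⁅c⁻¹, u⁻¹⁆)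
    (by rw [hc]; group) (by simp only [commutatorElement_def]; group) he.2 p
  rw [H48.pow_eq_one_of_dvd' (S.hV.2 _ he.1) S.dvd_choose, mul_one] at h
  intro hcm
  rw [hcm.eq] at h
  exact hc1 (by simpa using h)

theorem exists_w (h : ¬ Nat.card ↥(CC V ⊓ centralizer {u}) ≤ p) :
    ∃ w ∈ CC V, Commute w u ∧ w ^ p ∈ V ∧ w ^ p ≠ 1 := by
  have h1 : ¬ CC V ⊓ centralizer {u} ≤ ZZ V := fun h' =>
    h ((card_le_of_le h').trans (S.card_ZZ hu).le)
  obtain ⟨w, ⟨hw, hwu⟩, hwZ⟩ := SetLike.not_le_iff_exists.mp h1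
  have hwu' : Commute w u := mem_centralizer_singleton_iff.mp hwu
  obtain ⟨k, h2, h3⟩ := H9.exists_pow_not_mem_pow_mem S.hG
    (show w ∉ V from fun hv => hwZ (S.mem_ZZ hu hv hwu'))
  exact ⟨_, pow_mem hw _, hwu'.pow_left _, h3, fun h4 => h2 (S.mem_V (pow_mem hw _) h4)⟩

theorem exists_gen (h : ∀ a ∈ CC V, a ^ p ∈ V → a ^ p ∈ ZZ V) :
    ∃ b : G, V ⊔ zpowers b = CC V := by
  have h1 := S.pc.card_Om_quotient_le S.hp2 (S.hG.to_subgroup _) ((ZZ V).subgroupOf (CC V))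
    fun a ha => h a a.2 (S.mem_Om_iff.mp ha)
  rw [Nat.card_congr (subgroupOfEquivOfLe (inf_le_left.trans S.V_le)).toEquiv, S.card_ZZ hu] at h1
  obtain ⟨b, hb⟩ := H48.exists_sup_zpowers_of_isCyclic_quotient (H48.isCyclic_of_card_Om_lt S.hp2
    ((S.hG.to_subgroup _).to_quotient _) (lt_of_le_of_lt h1 (by
      rw [sq]; exact lt_mul_of_one_lt_right hp.out.pos hp.out.one_lt)))
  refine ⟨b, le_antisymm (sup_le S.V_le (zpowers_le.mpr b.2)) fun c hc => ?_⟩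
  obtain ⟨v, hv, i, he⟩ := H9.mem_sup_zpowers.mp (hb ▸ mem_top (⟨c, hc⟩ : CC V))
  have he' : c = v * b ^ i := congrArg Subtype.val he
  rw [he']
  exact mul_mem (mem_sup_left (S.mem_Om_iff.mp hv)) (mem_sup_right (zpow_mem_zpowers _ _))

omit hu in
theorem comm_of_gen {b : G} (hb : V ⊔ zpowers b = CC V) : IsMulCommutative (CC V) := by
  have := S.hn
  have hbC : b ∈ CC V := hb ▸ mem_sup_right (mem_zpowers b)
  refine ⟨⟨fun x y => Subtype.ext ?_⟩⟩
  obtain ⟨v, hv, i, he⟩ := H9.mem_sup_zpowers.mp (hb.ge x.2)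
  obtain ⟨w, hw, j, he'⟩ := H9.mem_sup_zpowers.mp (hb.ge y.2)
  have h1 : Commute x.1 y.1 := by
    rw [he]
    refine (comm_of_mem_CC y.2 hv).mul_left ?_
    rw [he']
    exact ((comm_of_mem_CC hbC hw).symm.zpow_left i).mul_right ((Commute.refl b).zpow_zpow i j)
  exact h1

theorem der_le {b : G} (hb : V ⊔ zpowers b = CC V) : commutator G ≤ ZZ V ⊔ zpowers ⁅b, u⁆ := by
  have := S.hn
  have hN := S.CC_normal
  have hA := S.comm_of_gen hb
  have hbC : b ∈ CC V := hb ▸ mem_sup_right (mem_zpowers b)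
  intro y hy
  obtain ⟨a, ha, rfl⟩ := ((H9.card_commutator_mul_card_inf_center hA (S.sup_eq hu)).2 y).mp hy
  obtain ⟨v, hv, i, rfl⟩ := H9.mem_sup_zpowers.mp (hb ▸ ha)
  have hc : ⁅b, u⁆ ∈ CC V := commutator_le_left _ ⊤ (commutator_mem_commutator hbC (mem_top u))
  have hcm : Commute b ⁅b, u⁆ := congrArg Subtype.val (mul_comm' (⟨b, hbC⟩ : CC V) ⟨_, hc⟩)
  rw [H9.commutatorElement_mul_left', H9.commutatorElement_zpow_left hcm,
    (comm_of_mem_CC (zpow_mem hc i) hv).eq, mul_inv_cancel_right]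
  exact mul_mem (mem_sup_right (zpow_mem_zpowers _ _)) (mem_sup_left (S.comm_mem_ZZ hv u))

/-- the trichotomy -/
theorem tri : Nat.card ↥(CC V ⊓ centralizer {u}) ≤ p ∨ IsMetacyclic G ∨ TypeE p V := by
  have := S.hn
  have hN := S.CC_normal
  by_cases h0 : Nat.card ↥(CC V ⊓ centralizer {u}) ≤ p
  · exact Or.inl h0
  right
  obtain ⟨w, hw, hwu, hwV, hw1⟩ := S.exists_w hu h0
  rcases S.pow_case hu with h | ⟨a, ha, hua⟩
  · exact Or.inl h
  have hall : ∀ a ∈ CC V, a ^ p ∈ V → a ^ p ∈ ZZ V := fun w' hw' hV' => by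
    by_contra hZ'
    exact S.not_commute hu hw hwu hwV hw1 hw' hV' hZ' (hua ▸ S.commute_pow ha hw' hV')
  obtain ⟨b, hb⟩ := S.exists_gen hu hall
  have hd := S.der_le hu hb
  have hbC : b ∈ CC V := hb ▸ mem_sup_right (mem_zpowers b)
  have hc : ⁅b, u⁆ ∈ CC V := commutator_le_left _ ⊤ (commutator_mem_commutator hbC (mem_top u))
  by_cases hcV : ⁅b, u⁆ ∈ V
  · have hdV : commutator G ≤ V := hd.trans (sup_le inf_le_left (zpowers_le.mpr hcV))
    have m : ∀ x y : G, ⁅x, y⁆ ∈ V := fun x y =>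
      hdV (commutator_mem_commutator (mem_top x) (mem_top y))
    have h1 := H48.mul_pow_of_class_three (x := u) (y := a⁻¹) (c := ⁅a, u⁻¹⁆)
      (d := ⁅⁅a, u⁻¹⁆⁻¹, u⁻¹⁆) (e := ⁅⁅a, u⁻¹⁆⁻¹, a⁆)
      (by simp only [commutatorElement_def]; group) (by simp only [commutatorElement_def]; group)
      (by simp only [commutatorElement_def]; group) (S.comm_mem_ZZ (inv_mem (m _ _)) _).2
      (S.comm_mem_ZZ (inv_mem (m _ _)) _).2 p
    rw [H48.pow_eq_one_of_dvd' (S.hV.2 _ (m _ _)) S.dvd_choose, inv_pow, hua, mul_inv_cancel,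
      one_mul, one_mul] at h1
    have h2 : (u * a⁻¹) ^ p ∈ ZZ V := h1 ▸ mul_mem (pow_mem (S.comm_mem_ZZ (inv_mem (m _ _)) _) _)
      (pow_mem (S.comm_mem_ZZ (inv_mem (m _ _)) _) _)
    obtain ⟨k, hk⟩ := S.exists_pow_eq hu (S.mem_ZZ hu hwV (hwu.pow_left p)) hw1 h2
    have hA := S.comm_of_gen hb
    have hwa : Commute w a := congrArg Subtype.val (mul_comm' (⟨w, hw⟩ : CC V) ⟨a, ha⟩)
    refine Or.inr ⟨u * a⁻¹ * (w ^ k)⁻¹, fun h => hu ?_, ?_, fun g _ => m _ _⟩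
    · simpa using mul_mem (mul_mem h (pow_mem hw k)) ha
    · rw [((hwu.mul_right hwa.inv_right).pow_left k).inv_left.symm.mul_pow, ← hk, inv_pow,
        ← pow_mul, ← pow_mul, mul_comm k p, mul_inv_cancel]
  · obtain ⟨j, h2, h3⟩ := H9.exists_pow_not_mem_pow_mem S.hG hcV
    have h4 := eq_zpowers_of_card (S.card_ZZ hu) (hall _ (pow_mem hc _) h3)
      fun h => h2 (S.mem_V (pow_mem hc _) h)
    have h5 : commutator G ≤ zpowers ⁅b, u⁆ := hd.trans (sup_le (h4 ▸ zpowers_le.mpr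
      (pow_mem (npow_mem_zpowers _ _) _)) le_rfl)
    exact S.reg_case (H19.regAt_one_of_isCyclic_commutator S.hp2 S.hG (isCyclic_of_le h5))

end St

end H27.Bb
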