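/- Blackburn's classification of `p`-groups of rank two, IV: the groups with an outer element of
order `p`. -/
import Cfsg.Agent.H27.Bb3

set_option autoImplicit false
set_option linter.unusedSectionVars false

namespace H27.Bb

open Cfsg Subgroup
open scoped commutatorElement

universe u

variable {G : Type u} [Group G] {p : ℕ}

/-- `g ↦ ⁅x⁻¹, g⁆` on `C(V)` -/
def phi {V : Subgroup G} (x : G) (hx : ∀ g ∈ CC V, ⁅x⁻¹, g⁆ ∈ V) : CC V →* G :=
  MonoidHom.mk' (fun g => ⁅x⁻¹, g.1⁆) fun g h => by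
    have h1 := (comm_of_mem_CC g.2 (hx h h.2)).eq
    have h2 : ⁅x⁻¹, g.1 * h.1⁆ = ⁅x⁻¹, g.1⁆ * (g.1 * ⁅x⁻¹, h.1⁆) * g.1⁻¹ := by
      simp only [commutatorElement_def]; group
    rw [Subgroup.coe_mul, h2, ← h1]; group

theorem conj_pow_eq {x y t : G} (h : x⁻¹ * y * x = y * t) (ht : t ∈ center G) (k : ℕ) :
    (x ^ k)⁻¹ * y * x ^ k = y * t ^ k := by
  induction k with
  | zero => simp
  | succ k ih =>
    have h1 : (x ^ (k + 1))⁻¹ * y * x ^ (k + 1) = x⁻¹ * ((x ^ k)⁻¹ * y * x ^ k) * x := by group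
    have h2 := mem_center_iff.mp (pow_mem ht k) x
    rw [h1, ih, ← mul_assoc, mul_assoc _ (t ^ k), ← h2, ← mul_assoc, h, mul_assoc, pow_succ']

theorem conj_pow_eq2 {x y z t : G} (hz : x⁻¹ * z * x = y * z) (h : x⁻¹ * y * x = y * t)
    (ht : t ∈ center G) (k : ℕ) : ∃ m : ℕ, (x ^ k)⁻¹ * z * x ^ k = y ^ k * t ^ m * z := by
  induction k with
  | zero => exact ⟨0, by simp⟩
  | succ k ih =>
    obtain ⟨m, ih⟩ := ih
    refine ⟨k + m, ?_⟩
    have h1 : (x ^ (k + 1))⁻¹ * z * x ^ (k + 1) = x⁻¹ * ((x ^ k)⁻¹ * z * x ^ k) * x := by group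
    have h2 : x⁻¹ * (y ^ k * t ^ m * z) * x =
        (x⁻¹ * y * x) ^ k * (x⁻¹ * (t ^ m * x)) * (x⁻¹ * z * x) := by
      have := conj_pow (i := k) (a := x⁻¹) (b := y)
      rw [inv_inv] at this
      rw [this]; group
    have c1 : Commute y t := mem_center_iff.mp ht y
    rw [h1, ih, h2, ← mem_center_iff.mp (pow_mem ht m) x, inv_mul_cancel_left, h, hz, c1.mul_pow,
      pow_succ, pow_add, mul_assoc (y ^ k) (t ^ k), ← pow_add, ← mul_assoc, mul_assoc (y ^ k),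
      ← (c1.pow_right (k + m)).eq, ← mul_assoc]

namespace St

variable [Finite G] [hp : Fact p.Prime] {V : Subgroup G} (S : St p V)
variable {x : G} (hx : x ∉ CC V)
include S hx

theorem comm_ne_one {y : G} (hy : y ∈ V) (hy' : y ∉ ZZ V) : ⁅x⁻¹, y⁆ ≠ 1 := fun h =>
  hy' (S.mem_ZZ hx hy (by
    rw [commutatorElement_eq_one_iff_commute] at h
    simpa using h.symm))

theorem closure_eq {y z : G} (hy : y ∈ V) (hy' : y ∉ ZZ V) (hz : V ⊔ zpowers z = CC V)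
    (hZ : ZZ V ≤ zpowers z) : closure ({x, y, z} : Set G) = ⊤ := by
  have h1 : zpowers z ≤ closure ({x, y, z} : Set G) := zpowers_le.mpr (subset_closure (by simp))
  rw [eq_top_iff, ← S.sup_eq hx, ← hz, ← S.ZZ_sup hx hy hy']
  exact sup_le (sup_le (sup_le (hZ.trans h1) (zpowers_le.mpr (subset_closure (by simp)))) h1)
    (zpowers_le.mpr (subset_closure (by simp)))

theorem exists_z (hE : ∀ g ∈ CC V, ⁅x⁻¹, g⁆ ∈ V) :
    ∃ z : G, V ⊔ zpowers z = CC V ∧ ZZ V ≤ zpowers z ∧ p ^ 2 * orderOf z = Nat.card G ∧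
      (⁅x⁻¹, z⁆ = 1 ∨ ⁅x⁻¹, z⁆ ∉ ZZ V) := by
  have hn := S.hn
  obtain ⟨y0, hy0, hy0'⟩ := S.exists_not_ZZ hx
  have hZ := eq_zpowers_of_card (S.card_ZZ hx) (S.comm_mem_ZZ' hy0 x⁻¹) (S.comm_ne_one hx hy0 hy0')
  obtain ⟨g, hg1, hg2⟩ : ∃ g : CC V, (phi x hE).range ≤ ZZ V ⊔ zpowers (phi x hE g) ∧
      ∀ t ∈ zpowers (phi x hE g), t ∈ ZZ V → t = 1 := by
    by_cases h : (phi x hE).range ≤ ZZ V
    · exact ⟨1, h.trans le_sup_left, by simp⟩
    obtain ⟨_, ⟨g, rfl⟩, hg⟩ := SetLike.not_le_iff_exists.mp h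
    have hgV : phi x hE g ∈ V := hE g g.2
    refine ⟨g, by rw [S.ZZ_sup hx hgV hg]; rintro _ ⟨c, rfl⟩; exact hE c c.2, fun t ht htZ => ?_⟩
    by_contra h1
    have h2 : Nat.card (zpowers (phi x hE g)) = p := by
      rw [Nat.card_zpowers]
      exact orderOf_eq_prime (S.hV.2 _ hgV) fun h => hg (h ▸ one_mem _)
    exact hg (zpowers_le.mpr htZ ((eq_zpowers_of_card h2 ht h1).ge (mem_zpowers _)))
  set H := ((zpowers (phi x hE g)).comap (phi x hE)).map (CC V).subtype with hH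
  have hHC : H ≤ CC V := map_subtype_le _
  have mem : ∀ c : CC V, c.1 ∈ H ↔ phi x hE c ∈ zpowers (phi x hE g) := fun c => by
    rw [hH]; exact mem_map_iff_mem (CC V).subtype_injective
  have hHV : ∀ v ∈ H, v ∈ V → v ∈ ZZ V := fun v hv hvV => by
    by_contra h
    exact S.comm_ne_one hx hvV h (hg2 _ ((mem ⟨v, hHC hv⟩).mp hv) (S.comm_mem_ZZ' hvV _))
  obtain ⟨z, hz⟩ := H48.isCyclic_iff_zpowers.mp (S.isCyclic_of_inf hx hHC hHV)
  have hZH : ZZ V ≤ H := fun t ht => (mem ⟨t, S.V_le ht.1⟩).mpr (by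
    have : phi x hE ⟨t, S.V_le ht.1⟩ = 1 :=
      commutatorElement_eq_one_iff_mul_comm.mpr (mem_center_iff.mp ht.2 _)
    rw [this]; exact one_mem _)
  have hsup : V ⊔ H = CC V := by
    refine le_antisymm (sup_le S.V_le hHC) fun c hc => ?_
    have : (ZZ V).Normal := H48.normal_of_le_center inf_le_right
    obtain ⟨t, ht, i, he⟩ := H9.mem_sup_zpowers.mp (hg1 ⟨⟨c, hc⟩, rfl⟩)
    obtain ⟨j, rfl⟩ := hZ.ge ht
    have h1 : ((⟨y0, S.V_le hy0⟩ : CC V) ^ j)⁻¹ * ⟨c, hc⟩ ∈ (zpowers (phi x hE g)).comap (phi x hE) := by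
      rw [mem_comap, map_mul, map_inv, map_zpow, he]
      exact ⟨i, (inv_mul_cancel_left _ _).symm⟩
    have h2 : c = y0 ^ j * ((y0 ^ j)⁻¹ * c) := by group
    rw [h2]
    exact mul_mem (mem_sup_left (zpow_mem hy0 j)) (mem_sup_right ((mem _).mpr h1))
  have hinf : V ⊓ H = ZZ V := le_antisymm (fun v hv => hHV v hv.2 hv.1) (le_inf inf_le_left hZH)
  refine ⟨z, hz ▸ hsup, hz ▸ hZH, ?_, ?_⟩
  · have h1 : Nat.card ↥(V ⊔ H) * Nat.card ↥(V ⊓ H) = Nat.card V * Nat.card H := by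
      rw [sup_comm, H9.card_sup_mul_card_inf H V, mul_comm]
    rw [hsup, hinf, S.card_ZZ hx, S.hc, ← hz, Nat.card_zpowers] at h1
    rw [← h1, ← (CC V).card_mul_index, S.index_CC hx]
  · have hzH : z ∈ H := hz ▸ mem_zpowers z
    by_cases h : ⁅x⁻¹, z⁆ ∈ ZZ V
    · exact Or.inl (hg2 _ ((mem ⟨z, hHC hzH⟩).mp hzH) h)
    · exact Or.inr h

omit hx in
theorem typeE_der (hE : TypeE p V) : IsMulCommutative (CC V) ∧ commutator G ≤ V := by
  obtain ⟨x, hx, -, hE⟩ := hE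
  obtain ⟨z, h1, -⟩ := S.exists_z hx hE
  refine ⟨S.comm_of_gen h1, (S.der_le (u := x⁻¹) (by rwa [inv_mem_iff]) h1).trans
    (sup_le inf_le_left (zpowers_le.mpr ?_))⟩
  rw [← commutatorElement_inv]
  exact inv_mem (hE z (h1 ▸ mem_sup_right (mem_zpowers z)))

omit hx in
theorem typeE_cases (hE : TypeE p V) {n : ℕ} (hG : Nat.card G = p ^ n) :
    (3 ≤ n ∧ ∃ x y z : G, closure ({x, y, z} : Set G) = ⊤ ∧ x ^ p = 1 ∧ y ^ p = 1 ∧
        z ^ p ^ (n - 2) = 1 ∧ x * z = z * x ∧ y * z = z * y ∧ x⁻¹ * y * x = y * z ^ p ^ (n - 3)) ∨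
    (4 ≤ n ∧ ∃ (s : ℕ) (x y z : G), (s = 1 ∨ ¬ IsSquare (s : ZMod p)) ∧
        closure ({x, y, z} : Set G) = ⊤ ∧ x ^ p = 1 ∧ y ^ p = 1 ∧ z ^ p ^ (n - 2) = 1 ∧
        y * z = z * y ∧ x⁻¹ * y * x = y * z ^ (s * p ^ (n - 3)) ∧ x⁻¹ * z * x = y * z) := by
  obtain ⟨x, hx, hxp, hE⟩ := hE
  obtain ⟨z, h1, h2, h3, h4⟩ := S.exists_z hx hE
  have hzC : z ∈ CC V := h1 ▸ mem_sup_right (mem_zpowers z)
  obtain ⟨m, hm⟩ := (IsPGroup.iff_orderOf.mp S.hG) z
  have hm1 : 1 ≤ m := by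
    have := card_le_of_le h2
    rw [S.card_ZZ hx, Nat.card_zpowers, hm] at this
    exact (Nat.pow_le_pow_iff_right hp.out.one_lt).mp (by rwa [pow_one])
  obtain ⟨m, rfl⟩ : ∃ k, m = k + 1 := ⟨m - 1, by omega⟩
  obtain rfl : n = m + 3 := by
    rw [hG, hm, ← pow_add] at h3
    have := Nat.pow_right_injective hp.out.two_le h3
    omega
  have hz1 : z ^ p ^ (m + 3 - 2) = 1 := by rw [show m + 3 - 2 = m + 1 by omega, ← hm, pow_orderOf_eq_one]
  simp only [Nat.add_sub_cancel]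
  have hz0 : (z ^ p ^ m) ^ p = 1 := by rw [← pow_mul, ← pow_succ, ← hm, pow_orderOf_eq_one]
  have hz0' : z ^ p ^ m ≠ 1 := pow_ne_one_of_lt_orderOf (pow_pos hp.out.pos m).ne'
    (hm ▸ Nat.pow_lt_pow_right hp.out.one_lt (by omega))
  have hz0Z : z ^ p ^ m ∈ ZZ V := zpowers_le.mp (H48.le_of_card_prime_of_le_cyclic
    (C := zpowers z) inferInstance (S.hG.to_subgroup _) (by
      rw [Nat.card_zpowers]; exact orderOf_eq_prime hz0 hz0') (zpowers_le.mpr (npow_mem_zpowers _ _))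
    h2 fun h => by have := S.card_ZZ hx; rw [h, card_bot] at this; exact hp.out.one_lt.ne this)
  have cj : ∀ y ∈ V, x⁻¹ * y * x = y * ⁅x⁻¹, y⁆ := fun y hy => by
    rw [mem_center_iff.mp (S.comm_mem_ZZ' hy x⁻¹).2 y]; simp [commutatorElement_def]
  rcases h4 with h4 | h4
  · obtain ⟨y0, hy0, hy0'⟩ := S.exists_not_ZZ hx
    obtain ⟨k, hk⟩ := S.exists_pow_eq hx (S.comm_mem_ZZ' hy0 x⁻¹) (S.comm_ne_one hx hy0 hy0') hz0Z
    have e : x⁻¹ * y0 ^ k * x = y0 ^ k * z ^ p ^ m := by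
      have := conj_pow (i := k) (a := x⁻¹) (b := y0)
      rw [inv_inv] at this
      rw [← this, cj y0 hy0, ← hk]
      exact Commute.mul_pow (mem_center_iff.mp (S.comm_mem_ZZ' hy0 x⁻¹).2 y0) k
    refine Or.inl ⟨by omega, x, y0 ^ k, z, S.closure_eq hx (pow_mem hy0 k) (fun h => hz0' ?_) h1 h2,
      hxp, S.hV.2 _ (pow_mem hy0 k), hz1, ?_, (comm_of_mem_CC hzC (pow_mem hy0 k)).eq, e⟩
    · rw [mem_center_iff.mp h.2, inv_mul_cancel_right] at e
      simpa using e.symm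
    · rw [commutatorElement_eq_one_iff_commute] at h4
      exact (show Commute x z by simpa using h4).eq
  · right
    set y := ⁅x⁻¹, z⁆ with hy
    have hyV : y ∈ V := hE z hzC
    have e0 : x⁻¹ * z * x = y * z := by simp [hy, commutatorElement_def]
    have hm0 : 1 ≤ m := by
      by_contra h
      obtain rfl : m = 0 := by omega
      exact h4 (S.comm_mem_ZZ' (by simpa using hz0Z.1) _)
    have htZ := S.comm_mem_ZZ' hyV x⁻¹
    obtain ⟨s, hs⟩ := S.exists_pow_eq hx hz0Z hz0' htZ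
    have key : ∀ k r : ℕ, ¬ p ∣ k → (r = 1 ∨ ¬ IsSquare (r : ZMod p)) → s * (k * k) ≡ r [MOD p] →
        ∃ (s : ℕ) (x y z : G), (s = 1 ∨ ¬ IsSquare (s : ZMod p)) ∧
        closure ({x, y, z} : Set G) = ⊤ ∧ x ^ p = 1 ∧ y ^ p = 1 ∧ z ^ p ^ (m + 3 - 2) = 1 ∧
        y * z = z * y ∧ x⁻¹ * y * x = y * z ^ (s * p ^ m) ∧ x⁻¹ * z * x = y * z := by
      intro k r hk hr hmod
      obtain ⟨j, hj⟩ := conj_pow_eq2 e0 (cj y hyV) htZ.2 k
      have hV' : y ^ k * ⁅x⁻¹, y⁆ ^ j ∈ V := mul_mem (pow_mem hyV k) (pow_mem htZ.1 j)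
      have cop : ∀ {N : Subgroup G} {g : G}, g ^ k ∈ N → g ∈ N := fun {N g} h =>
        zpowers_le.mpr (show g ^ (k : ℤ) ∈ N by rwa [zpow_natCast])
          ((H19.zpowers_zpow_eq_of_not_dvd S.hG g (n := k) (by exact_mod_cast hk)).ge (mem_zpowers g))
      refine ⟨r, x ^ k, y ^ k * ⁅x⁻¹, y⁆ ^ j, z, hr, S.closure_eq (fun h => hx (cop h)) hV'
        (fun h => h4 (cop ((mul_mem_cancel_right (pow_mem htZ j)).mp h))) h1 h2,
        by rw [← pow_mul, mul_comm, pow_mul, hxp, one_pow], S.hV.2 _ hV', hz1,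
        (comm_of_mem_CC hzC hV').eq, ?_, hj⟩
      have c1 := conj_pow (i := k) (a := (x ^ k)⁻¹) (b := y)
      rw [inv_inv, conj_pow_eq (cj y hyV) htZ.2 k] at c1
      have c2 : Commute y ⁅x⁻¹, y⁆ := mem_center_iff.mp htZ.2 y
      have c3 : ⁅x⁻¹, y⁆ ^ (k * k) = z ^ (r * p ^ m) := by
        rw [← hs, ← pow_mul, mul_comm r, pow_mul z, pow_eq_pow_iff_modEq,
          orderOf_eq_prime hz0 hz0']
        exact hmod
      rw [← mul_assoc, mul_assoc _ _ (x ^ k), ← mem_center_iff.mp (pow_mem htZ.2 j) (x ^ k),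
        ← mul_assoc, ← c1, (c2.pow_right k).mul_pow, ← pow_mul, ← c3, mul_assoc, mul_assoc,
        ← pow_add, ← pow_add, add_comm]
    refine ⟨by omega, ?_⟩
    by_cases hsq : IsSquare (s : ZMod p)
    · obtain ⟨r, hr⟩ := hsq
      have hr0 : r ≠ 0 := by
        rintro rfl
        rw [mul_zero, ZMod.natCast_eq_zero_iff] at hr
        exact S.comm_ne_one hx hyV h4 (hs ▸ H48.pow_eq_one_of_dvd' hz0 hr)
      refine key (r⁻¹).val 1 ?_ (Or.inl rfl) ?_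
      · rw [← ZMod.natCast_eq_zero_iff, ZMod.natCast_zmod_val]; exact inv_ne_zero hr0
      · rw [← ZMod.natCast_eq_natCast_iff]
        push_cast
        rw [ZMod.natCast_zmod_val, hr]; field_simp
    · exact key 1 s (by simpa using hp.out.one_lt.ne') (Or.inr hsq) (by simpa using Nat.ModEq.rfl)

end St

theorem exists_St [Finite G] [Fact p.Prime] (hp2 : p ≠ 2) (hG : IsPGroup p G)
    (hr : PRankLE p 2 G) (hm : ¬ IsMetacyclic G) : ∃ V : Subgroup G, St p V := by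
  obtain ⟨V, h1, h2, h3⟩ := H48.exists_normal_elemAb_sq hp2 hG
    fun h => hm (isMetacyclic_of_isCyclic h)
  exact ⟨V, hp2, hG, hr, h1, h2, h3⟩

namespace St

variable [Finite G] [hp : Fact p.Prime] {V : Subgroup G} (S : St p V)
include S

theorem exists_not_CC (hm : ¬ IsMetacyclic G) : ∃ u, u ∉ CC V := by
  by_contra! h
  exact hm (H19.isMetacyclic_of_surjective S.meta_CC (CC V).subtype fun g => ⟨⟨g, h g⟩, rfl⟩)

theorem card_cent {u : G} (hu : u ∉ CC V) (h : Nat.card ↥(CC V ⊓ centralizer {u}) ≤ p) :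
    Nat.card (centralizer ({u} : Set G)) = p ^ 2 := by
  have := S.CC_normal
  refine le_antisymm ?_ (H9.sq_le_card_centralizer S.hG (S.hc ▸ card_le_card_group V) u)
  have h1 := H9.card_sup_mul_card_inf (centralizer ({u} : Set G)) (CC V)
  have h2 : centralizer ({u} : Set G) ⊔ CC V = ⊤ := by
    rw [eq_top_iff, ← S.sup_eq hu]
    exact sup_le le_sup_right (le_sup_of_le_left (zpowers_le.mpr
      (mem_centralizer_singleton_iff.mpr rfl)))
  rw [h2, card_top, ← (CC V).card_mul_index, S.index_CC hu, mul_assoc, mul_comm] at h1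
  rw [← Nat.eq_of_mul_eq_mul_right Nat.card_pos h1, sq]
  exact Nat.mul_le_mul_left _ h

/-- the structure theorem -/
theorem main (hm : ¬ IsMetacyclic G) : TypeE p V ∨
    (p = 3 ∧ ∀ u, u ∉ CC V → Nat.card (centralizer ({u} : Set G)) = p ^ 2) := by
  by_cases hE : TypeE p V
  · exact Or.inl hE
  refine Or.inr ⟨?_, fun u hu => S.card_cent hu (((S.tri hu).resolve_right fun h => h.elim hm hE))⟩
  by_contra h3
  have h2 := hp.out.two_le
  have := S.hp2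
  exact (S.big_case (by omega)).elim hm hE

end St

end H27.Bb
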