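import Cfsg.Agent.H27.E6F2
import Cfsg.Agent.S3363
import Cfsg.Agent.S3364
import Cfsg.Agent.H68.TwE6
import Cfsg.Agent.H78.XSMap
import Cfsg.Agent.H14.FStar

/-! PS3B, chapter E6, job F. -/

set_option autoImplicit false
set_option linter.unusedSectionVars false

namespace H27.E6F

open Cfsg Subgroup H98 H42.L3 H39.F22 H39.E6 H78.F22
open H56.L3 (Ce Nz)
open H28.PS (Zt SL3)

universe u

theorem quot_iso {Γ X : Type*} [Group Γ] [Group X] (N : Subgroup Γ) [N.Normal] (f : X →* Γ)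
    (h1 : ∀ x, f x ∈ N → x = 1) (h2 : ∀ γ, ∃ x, (f x)⁻¹ * γ ∈ N) : Nonempty (Γ ⧸ N ≃* X) :=
  ⟨(MulEquiv.ofBijective ((QuotientGroup.mk' N).comp f)
    ⟨(injective_iff_map_eq_one _).2 fun x hx => h1 x ((QuotientGroup.eq_one_iff _).1 hx), fun q => by
      obtain ⟨γ, rfl⟩ := QuotientGroup.mk_surjective q
      obtain ⟨x, hx⟩ := h2 γ
      exact ⟨x, QuotientGroup.eq.2 hx⟩⟩).symm⟩

theorem center_bot {H : Type*} [Group H] (hs : IsSimpleGroup H) (hn : ¬ IsMulCommutative H) : center H = ⊥ :=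
  (hs.eq_bot_or_eq_top_of_normal _ inferInstance).resolve_right fun e =>
    hn ⟨⟨fun a b => (mem_center_iff.1 (e.ge (mem_top b)) a)⟩⟩

theorem cn_bot {G H : Type*} [Group G] [Group H] {N : Subgroup G} (e : N ≃* H) (hs : IsSimpleGroup H)
    (hn : ¬ IsMulCommutative H) (h : cn N ≤ N) : cn N = ⊥ := eq_bot_iff.2 fun g hg => by
  have h1 : e ⟨g, h hg⟩ ∈ center H := mem_center_iff.2 fun y => by
    obtain ⟨y, rfl⟩ := e.surjective y
    rw [← map_mul, ← map_mul]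
    exact congrArg e (Subtype.ext (hg y y.2))
  rw [center_bot hs hn, mem_bot, map_eq_one_iff _ e.injective] at h1
  exact congrArg Subtype.val h1

theorem jobF : H39.E6.JobF.{u} := fun G _ _ E e0 nj rf yf sf hY hK => by
  have H := e0.hj
  have co := core yf sf hY hK
  have o2 : orderOf (E.r 0) = 2 := orderOf_eq_prime ((pow_two _).trans (H.rsq 0)) fun c => neg_ne (by
    rw [← H.rm 0, c, mQ e0.h3 (one_mem _)])
  have fs : generalizedFittingSubgroup E.K = pCore 2 E.K := H14.fstar_eq_pCore_iff_centralizer.2 fun g hg => by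
    rw [co] at hg ⊢
    exact cenS e0 rf yf sf hY hK ⟨g.2, fun s hs => congrArg Subtype.val (hg ⟨s, sf.le hs⟩ hs)⟩
  have ex : IsExtraspecial 2 (pCore 2 E.K) :=
    co ▸ H78.isExtraspecial_of_equiv (subgroupOfEquivOfLe sf.le).symm sf.ex
  have cd : Nat.card (pCore 2 E.K) = 2 ^ 21 := by
    rw [co, Nat.card_congr (subgroupOfEquivOfLe sf.le).toEquiv, sf.card]
  have nw : ∃ g : G, g * E.r 0 * g⁻¹ ∈ (pCore 2 E.K).map E.K.subtype ∧ g * E.r 0 * g⁻¹ ≠ E.r 0 := by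
    rw [co, subgroupOf_map_subtype, inf_eq_left.2 sf.le]
    exact nwc e0 nj rf yf sf hY hK
  obtain ⟨F, _, _, hF, ⟨e⟩⟩ := yf.iso
  obtain ⟨si, nc⟩ := H68.simple_E6 (K := F) (q := 2) Nat.prime_two.isPrimePow hF
  obtain ⟨k, k1, k2⟩ := zreal e0.h3 e0.hv H
  have XK : E.X ≤ E.K := H61.E6.X_le.trans inf_le_right
  have XS : E.X ≤ nr E.Sg := H61.E6.X_le.trans hY
  by_cases hX : E.Y ≤ E.X
  · obtain ⟨e1⟩ := quot_iso (pCore 2 E.K) (inclusion XK)
      (fun x hx => Subtype.ext (one_of yf sf hY (by rwa [co] at hx) (H61.E6.X_le x.2))) fun γ => by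
        obtain ⟨y, hy, s, hs, e⟩ := (mem_sup_left_norm hY).1 (sup_comm E.Sg E.Y ▸ hK γ.2)
        refine ⟨⟨y, hX hy⟩, ?_⟩
        rw [co, mem_subgroupOf]
        show y⁻¹ * (γ : G) ∈ _
        rwa [e, inv_mul_cancel_left]
    obtain ⟨e2⟩ := Cfsg.Agent.S3363.result (E.r 0) o2 E.K rfl fs ex cd F hF (e1.trans e) nw
    exact ⟨⊤, inferInstance, ⟨F, _, _, hF, ⟨topEquiv.trans e2⟩⟩, cn_bot (topEquiv.trans e2) si nc le_top,
      by simp, fun s => (yf.sw s hX).elim, k, mem_top k, k2⟩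
  · obtain ⟨y0, y1, y2⟩ := SetLike.not_le_iff_exists.1 hX
    have key : ∀ s ∈ E.Sg, ∀ y ∈ E.Y, s * y ∈ E.Sg ⊔ E.X ↔ y ∈ E.X := fun s hs y hy =>
      ⟨fun h => by
        obtain ⟨s', hs', x, hx, e⟩ := (mem_sup_right_norm XS).1 h
        have := one_of yf sf hY (mul_mem (inv_mem hs) hs') (by
          rw [show s⁻¹ * s' = y * x⁻¹ by rw [inv_mul_eq_iff_eq_mul, ← mul_assoc, e, mul_inv_cancel_right]]
          exact mul_mem hy (inv_mem (H61.E6.X_le hx)))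
        rw [inv_mul_eq_one.1 this, mul_right_inj] at e
        exact e ▸ hx, mul_mem_sup hs⟩
    have i2 : ((E.Sg ⊔ E.X).subgroupOf E.K).index = 2 := index_eq_two_iff.2 ⟨⟨y0, y1.2⟩, fun b => by
      obtain ⟨s, hs, y, hy, e⟩ := dec hY hK b.2
      simp only [mem_subgroupOf, coe_mul, e, mul_assoc, key s hs y hy, key s hs _ (mul_mem hy y1)]
      by_cases c : y ∈ E.X
      · exact .inr ⟨c, fun c' => y2 ((mul_mem_cancel_left c).1 c')⟩
      · exact .inl ⟨yf.two y hy y0 y1 c y2, c⟩⟩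
    have le : pCore 2 E.K ≤ (E.Sg ⊔ E.X).subgroupOf E.K := co ▸ fun g hg => mem_sup_left (mem_subgroupOf.1 hg)
    obtain ⟨e1⟩ := quot_iso ((pCore 2 E.K).subgroupOf ((E.Sg ⊔ E.X).subgroupOf E.K))
      ((inclusion XK).codRestrict _ fun x => mem_sup_right x.2)
      (fun x hx => Subtype.ext (one_of yf sf hY (by rwa [co] at hx) (H61.E6.X_le x.2))) fun γ => by
        obtain ⟨y, hy, s, hs, e⟩ := (mem_sup_left_norm XS).1
          ((sup_comm E.Sg E.X).le (mem_subgroupOf.1 γ.2) : ((γ : E.K) : G) ∈ _)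
        refine ⟨⟨y, hy⟩, ?_⟩
        rw [mem_subgroupOf, co, mem_subgroupOf]
        show y⁻¹ * (γ : G) ∈ _
        rwa [e, inv_mul_cancel_left]
    obtain ⟨i3, ⟨e2⟩⟩ := Cfsg.Agent.S3364.result (E.r 0) o2 E.K rfl fs ex cd _ i2 le F hF (e1.trans e) nw
    refine ⟨_, inferInstance, ⟨F, _, _, hF, ⟨e2⟩⟩, cn_bot e2 si nc H14.centralizer_fstar_le, i3 ▸ dvd_rfl,
      fun _ => i3, k, (closure_le _).2 (fun a ha => ?_) k1, k2⟩
    have := sq_mem_of_index_two i3 (a * a)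
    rwa [show (a * a) ^ 2 = a ^ 3 * a by rw [← sq, ← pow_mul, ← pow_succ], ha.2, one_mul] at this

end H27.E6F
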