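import Cfsg.Agent.H61.E6L1
import Cfsg.Agent.H59.U6G

/-! PS3B, chapter E6, job F, part 1: `K = Σ Y`. -/

set_option autoImplicit false
set_option linter.unusedSectionVars false

namespace H27.E6F

open Cfsg Subgroup H98 H42.L3 H39.F22 H39.E6 H78.F22
open H56.L3 (Ce Nz)
open H28.PS (Zt SL3)

universe u

variable {G : Type u} [Group G] [Finite G] {E : Dat G} {N : Subgroup G} {g s s' w y y' : G}

theorem nj' (hg : g ∈ nr N) (hx : y ∈ N) : g * y * g⁻¹ ∈ N := conj_mem_of_mem_normalizer hg hx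

theorem nr_X : E.Y ≤ nr E.X := fun g hg => mem_normalizer_of_cj_le (by
  rintro _ ⟨x, hx, rfl⟩; exact H61.E6.X_conj hg hx)

theorem X_simple (yf : YF E) : IsSimpleGroup E.X := by
  obtain ⟨F, _, _, hF, ⟨e⟩⟩ := yf.iso
  have := H59.isSimpleGroup_PSU (q := 2) (F := F) hF (n := 6) (by decide) (by decide)
  exact e.isSimpleGroup

theorem X_card (yf : YF E) : Nat.card E.X = 9196830720 := by
  obtain ⟨F, _, _, hF, ⟨e⟩⟩ := yf.iso
  rw [Nat.card_congr e.toEquiv, H59.U6.card_PSU6 hF]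

/-- a subgroup normalized by `Y` meets `Y` trivially or contains `X` -/
theorem triv_or (yf : YF E) (h : E.Y ≤ nr N) : N ⊓ E.Y = ⊥ ∨ E.X ≤ N := by
  have := X_simple yf
  have hn : (N.subgroupOf E.X).Normal := ⟨fun n hn g => nj' (N := N) (h (H61.E6.X_le g.2)) hn⟩
  refine (hn.eq_bot_or_eq_top).imp (fun e => eq_bot_iff.2 fun n hn => yf.cen.le ⟨hn.2, fun x hx => ?_⟩)
    subgroupOf_eq_top.1
  have h1 : x * n * x⁻¹ * n⁻¹ ∈ N := mul_mem (nj' (h (H61.E6.X_le hx)) hn.1) (N.inv_mem hn.1)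
  have h2 : x * n * x⁻¹ * n⁻¹ ∈ E.X := by
    rw [show x * n * x⁻¹ * n⁻¹ = x * (n * x⁻¹ * n⁻¹) by group]
    exact mul_mem hx (nj' (nr_X hn.2) (inv_mem hx))
  have h3 := mem_bot.1 ((disjoint_iff.1 (subgroupOf_eq_bot.1 e)).le ⟨h1, h2⟩)
  rwa [mul_inv_eq_one, mul_inv_eq_iff_eq_mul] at h3

theorem two_triv (yf : YF E) (h2 : IsPGroup 2 N) (h : E.Y ≤ nr N) : N ⊓ E.Y = ⊥ :=
  (triv_or yf h).resolve_right fun e => by
    obtain ⟨n, hn⟩ := IsPGroup.iff_card.1 (h2.to_le e)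
    rw [X_card yf] at hn
    have : 3 ∣ 2 ^ n := hn ▸ by norm_num
    exact absurd (Nat.prime_three.dvd_of_dvd_pow this) (by norm_num)

theorem cn_of (h : N ≤ Ce y) : y ∈ cn N := fun _ hx => mem_Ce.1 (h hx)

theorem cn_sup {a b : G} (h1 : y ∈ Ce a) (h2 : y ∈ Ce b) : y ∈ cn (zpowers a ⊔ zpowers b) :=
  cn_of (sup_le (zpowers_le.2 (Ce_symm h1)) (zpowers_le.2 (Ce_symm h2)))

theorem Sg_two (sf : SF E) : IsPGroup 2 E.Sg := IsPGroup.of_card sf.card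

variable (e0 : E0 E) (nj : NJ E) (rf : RF E) (yf : YF E) (sf : SF E) (hY : E.Y ≤ nr E.Sg)
  (hK : E.K ≤ E.Sg ⊔ E.Y)

include hY hK in
theorem K_nr : E.K ≤ nr E.Sg := hK.trans (sup_le le_normalizer hY)

include hY hK in
theorem dec (hg : g ∈ E.K) : ∃ s ∈ E.Sg, ∃ y ∈ E.Y, g = s * y := (mem_sup_right_norm hY).1 (hK hg)

include yf sf hY in
theorem one_of (h1 : s ∈ E.Sg) (h2 : s ∈ E.Y) : s = 1 := mem_bot.1 ((two_triv yf (Sg_two sf) hY).le ⟨h1, h2⟩)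

include yf sf hY in
/-- an element of `Y` centralizing `s y` centralizes `y` -/
theorem part (hs : s ∈ E.Sg) (hy : y ∈ E.Y) (hg : g ∈ E.Y) (c : g ∈ Ce (s * y)) : y ∈ Ce g := by
  have h1 := mem_Ce'.1 c
  have h2 : s⁻¹ * (g * s * g⁻¹) = y * (g * y * g⁻¹)⁻¹ := by
    rw [eq_mul_inv_iff_mul_eq, mul_assoc s⁻¹, inv_mul_eq_iff_eq_mul, ← h1]; group
  have h3 := one_of yf sf hY (mul_mem (inv_mem hs) (nj' (hY hg) hs))
    (h2 ▸ mul_mem hy (inv_mem (mul_mem (mul_mem hg hy) (inv_mem hg))))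
  rw [h2, mul_inv_eq_one] at h3
  exact Ce_symm (mem_Ce'.2 h3.symm)

include rf in
theorem Q1Y : E.Q 1 ≤ E.Y := (le_sup_of_le_left le_sup_left).trans rf.SY

include rf in
theorem Q2Y : E.Q 2 ≤ E.Y := (le_sup_of_le_left le_sup_right).trans rf.SY

include rf in
theorem tY : E.t ∈ E.Y := rf.SY (mem_sup_right (mem_zpowers _))

include e0 rf in
theorem zY : E.z ∈ E.Y := Q1Y rf (e0.h3.sd 1).zmem

include e0 in
theorem rc {i j : Fin 3} (h : j ≠ i) : E.r i ∈ Ce (E.c j) := mem_Ce.2 (e0.hj.rc i j h _ (e0.hj.cQ j)).symm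

include e0 in
theorem r2Y : E.r 2 ∈ E.Y := ⟨rc e0 (by decide), mem_Ce.2 (e0.hj.rr 2 0)⟩

include yf sf hY hK in
theorem core : pCore 2 E.K = E.Sg.subgroupOf E.K := by
  have h1 : pCoreOf 2 E.K = E.Sg := by
    have h2 : E.Sg ≤ pCoreOf 2 E.K := le_pCoreOf (Sg_two sf) sf.le (K_nr hY hK)
    refine le_antisymm (fun g hg => ?_) h2
    obtain ⟨s, hs, y, hy, rfl⟩ := dec hY hK (pCoreOf_le _ hg)
    have := (two_triv yf (isPGroup_pCoreOf E.K) (le_normalizer_pCoreOf_of_le inf_le_right)).le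
      ⟨(mul_mem_cancel_left (h2 hs)).1 hg, hy⟩
    rwa [mem_bot.1 this, mul_one]
  rw [← h1]
  exact (comap_map_eq_self_of_injective E.K.subtype_injective _).symm

include e0 rf yf sf hY hK in
theorem cenS : E.K ⊓ cn E.Sg ≤ E.Sg := fun g hg => by
  have h1 : E.Y ≤ nr (E.Sg ⊔ cn E.Sg) := le_normalizer_sup hY (le_normalizer_centralizer hY)
  rcases triv_or yf h1 with e | e
  · obtain ⟨s, hs, y, hy, rfl⟩ := dec hY hK hg.1
    have := e.le ⟨(mul_mem_cancel_left (mem_sup_left hs)).1 (mem_sup_right hg.2), hy⟩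
    rwa [mem_bot.1 this, mul_one]
  · obtain ⟨s, hs, c, hc, e1⟩ := (mem_sup_left_norm (normalizer_le_normalizer_centralizer _ |>.trans'
      le_normalizer)).1 (e (subset_closure ⟨zY e0 rf, (e0.h3.sd 1).cube _ (e0.h3.sd 1).zmem⟩))
    obtain ⟨s', hs', h2⟩ := sf.fz
    refine (h2 ?_).elim
    have := sf.cm s hs s' hs'
    rwa [show E.z = s * c from e1, mul_assoc s c, ← hc s' hs', mul_inv_rev, ← mul_assoc, ← mul_assoc,
      mul_inv_cancel_right]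

include nj in
theorem φ0 : E.φ 0 = 1 := mul_eq_left.1 ((nj.add 0 0).symm.trans (by rw [add_zero]))

include nj in
theorem φ_neg (v : V5) : E.φ (-v) = (E.φ v)⁻¹ :=
  eq_inv_of_mul_eq_one_left (by rw [← nj.add, neg_add_cancel, φ0 nj])

include nj in
theorem φ_inj {u v : V5} (h : E.φ u = E.φ v) : u = v :=
  sub_eq_zero.1 (nj.inj _ (by rw [sub_eq_add_neg, nj.add, φ_neg nj, h, mul_inv_cancel]))

/-- `φ` as a homomorphism -/
def φH : Multiplicative V5 →* G := MonoidHom.mk' (fun v => E.φ v.toAdd) fun _ _ => nj.add _ _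

theorem v_t : E.φ ![1, 0, 0, 0, 0] = E.t := by simp [Dat.φ, el, ZMod.val_one]
theorem v_z : E.φ ![0, 1, 0, 0, 0] = E.z := by simp [Dat.φ, el, ZMod.val_one]
theorem v_c1 : E.φ ![0, 0, 0, 1, 0] = E.c 1 := by simp [Dat.φ, el, ZMod.val_one]
theorem v_c2 : E.φ ![0, 0, 0, 0, 1] = E.c 2 := by simp [Dat.φ, el, ZMod.val_one]

include nj in
theorem zp_φ {u v : V5} (h : E.φ u ∈ zpowers (E.φ v)) : ∃ a : ZMod 3, u = a • v := by
  obtain ⟨k, e⟩ := h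
  refine ⟨k, φ_inj nj (e.symm.trans ?_)⟩
  rw [Int.cast_smul_eq_zsmul]
  exact (map_zpow (φH nj) (Multiplicative.ofAdd v) k).symm

include nj in
/-- the plane `⟨t z, c 1⟩` -/
theorem plane : ∃ P : Subgroup G, P ≤ E.I ∧ Nat.card P = 9 ∧ (∀ e ∈ P, ¬ Zt E.z e) ∧
    P ≤ zpowers (E.t * E.z) ⊔ zpowers (E.c 1) := by
  let f : Multiplicative (ZMod 3 × ZMod 3) →* G := MonoidHom.mk'
    (fun a => E.φ ![a.toAdd.1, a.toAdd.1, 0, a.toAdd.2, 0]) fun a b => by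
      rw [← nj.add]; congr 1; ext i; fin_cases i <;> simp
  have fi : Function.Injective f := fun a b e => by
    have := φ_inj nj e
    exact Multiplicative.toAdd.injective (Prod.ext (congrFun this 0) (congrFun this 3))
  refine ⟨f.range, ?_, by rw [← Nat.card_congr (MonoidHom.ofInjective fi).toEquiv]; simp, ?_, ?_⟩
  · rintro _ ⟨a, rfl⟩
    exact (nj.memI _).2 ⟨_, rfl, rfl⟩
  · rintro _ ⟨a, rfl⟩ h
    exact (by decide : ∀ a b : ZMod 3, q5 ![a, a, 0, b, 0] = 0 → (![a, a, 0, b, 0] : V5) = 0) _ _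
      ((nj.zset _).1 h).2 |> ((nj.zset _).1 h).1
  · rintro _ ⟨a, rfl⟩
    have e : (![a.toAdd.1, a.toAdd.1, 0, a.toAdd.2, 0] : V5) = a.toAdd.1.val • (![1, 0, 0, 0, 0] + ![0, 1, 0, 0, 0]) +
        a.toAdd.2.val • ![0, 0, 0, 1, 0] := by ext i; fin_cases i <;> simp
    have p : ∀ (n : ℕ) (v : V5), E.φ (n • v) = E.φ v ^ n := fun n v =>
      map_pow (φH nj) (Multiplicative.ofAdd v) n
    show E.φ _ ∈ _
    rw [e, nj.add, p, p, nj.add, v_t, v_z, v_c1]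
    exact mul_mem_sup (pow_mem (mem_zpowers _) _) (pow_mem (mem_zpowers _) _)

include e0 nj rf yf sf hY hK in
theorem fac {S : Subgroup G} (h2 : IsPGroup 2 S) (hS : S ≤ Ce (E.r 2)) (hz : E.z ∈ nr S) (hc : E.c 1 ∈ nr S)
    (hw : w ∈ S) (wK : w ∈ E.K) (w1 : w ∈ Ce (E.t * E.z)) (w2 : w ∈ Ce (E.c 1)) :
    w ∈ E.Sg ∨ w * E.r 2 ∈ E.Sg := by
  have zy := zY e0 rf
  have cy : E.c 1 ∈ E.Y := Q1Y rf (e0.hj.cQ 1)
  have ry := r2Y e0
  have nΘ : ∀ g ∈ E.Y, g ∈ nr S → g ∈ nr ((E.Sg ⊔ S ⊓ E.K) ⊓ E.Y) := fun g h1 h2 =>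
    zpowers_le.1 (le_normalizer_inf (le_normalizer_sup (zpowers_le.2 (hY h1))
      (le_normalizer_inf (zpowers_le.2 h2) (le_normalizer_of_le (zpowers_le.2 h1.2))))
      (le_normalizer_of_le (zpowers_le.2 h1)))
  have nS : S ⊓ E.K ≤ nr E.Sg := inf_le_right.trans (K_nr hY hK)
  have p2 : IsPGroup 2 ↥((E.Sg ⊔ S ⊓ E.K) ⊓ E.Y) :=
    (IsPGroup.to_sup_of_normal_left' (Sg_two sf) (h2.to_le inf_le_left) nS).to_le inf_le_left
  have inv : Inv (E.Y ⊓ Ce (E.r 2)) E.z (E.c 1) ((E.Sg ⊔ S ⊓ E.K) ⊓ E.Y) := by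
    refine ⟨fun y hy => ⟨hy.2, ?_⟩, ?_, nΘ _ zy hz, nΘ _ cy hc⟩
    · obtain ⟨s, hs, a, ha, e⟩ := (mem_sup_right_norm nS).1 hy.1
      exact part yf sf hY (inv_mem hs) hy.2 ry (by rw [e, inv_mul_cancel_left]; exact Ce_symm (hS ha.1))
    · obtain ⟨n, hn⟩ := IsPGroup.iff_card.1 p2
      rw [hn]; exact Nat.Coprime.pow_left n (by norm_num)
  obtain ⟨P, p1, p9, pz, pl⟩ := plane nj
  obtain ⟨s, hs, y, hy, rfl⟩ := dec hY hK wK
  have tz : E.t * E.z ∈ E.Y := mul_mem (tY rf) zy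
  have pC : zpowers (E.t * E.z) ⊔ zpowers (E.c 1) ≤ E.Y ⊓ Ce (E.r 2) :=
    sup_le (zpowers_le.2 ⟨tz, mul_mem (mem_Ce.2 (e0.hj.tr 2)) (Ce_symm (Bz (e0.hj.rB 2)))⟩)
      (zpowers_le.2 ⟨cy, Ce_symm (rc e0 (by decide))⟩)
  have h3 := yf.hr.ext _ P inv (le_inf p1 (pl.trans pC)) p9 pz
    (mem_inf.2 ⟨mem_inf.2 ⟨(mul_mem_cancel_left (mem_sup_left hs)).1 (mem_sup_right ⟨hw, wK⟩), hy⟩,
      centralizer_anti pl
      (cn_sup (part yf sf hY hs hy tz (Ce_symm w1)) (part yf sf hY hs hy cy (Ce_symm w2)))⟩)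
  obtain ⟨k, rfl⟩ := h3
  have r2 : E.r 2 ^ (2 : ℤ) = 1 := (zpow_two _).trans (e0.hj.rsq 2)
  rcases Int.even_or_odd' k with ⟨m, rfl | rfl⟩
  · left; simpa [zpow_mul, r2] using hs
  · right; simpa [zpow_add, zpow_mul, r2, mul_assoc, e0.hj.rsq 2] using hs

end H27.E6F
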