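import Cfsg.Agent.H27.E6F1

/-! PS3B, chapter E6, job F, part 2: a conjugate of `r 0` in `Σ`. -/

set_option autoImplicit false
set_option linter.unusedSectionVars false

namespace H27.E6F

open Cfsg Subgroup H98 H42.L3 H39.F22 H39.E6 H78.F22
open H56.L3 (Ce Nz)
open H28.PS (Zt SL3)

universe u

variable {G : Type u} [Group G] [Finite G] {E : Dat G} {N : Subgroup G} {g s s' w y y' : G}

variable (e0 : E0 E) (nj : NJ E) (rf : RF E) (yf : YF E) (sf : SF E) (hY : E.Y ≤ nr E.Sg)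
  (hK : E.K ≤ E.Sg ⊔ E.Y)

theorem polar (u v : V5) : b5 u v = q5 (u + v) - q5 u - q5 v := by
  simp only [b5, q5, Pi.add_apply]
  have h3 : (3 : ZMod 3) = 0 := rfl
  linear_combination (-(u 2 * v 2) - u 3 * v 3 - u 4 * v 4) * h3

include e0 rf in
theorem φ_cn {v : V5} (h0 : v 0 = 0) (h2 : v 2 = 0) : E.φ v ∈ cn (E.R 0) := by
  have k : ∀ j, j ≠ 0 → E.Q j ≤ cn (E.R 0) := fun j hj =>
    le_centralizer_iff.1 fun p hp => ((rf.memR 0 p).1 hp).2.1 j hj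
  have z := k 1 (by decide) (e0.h3.sd 1).zmem
  have c1 := k 1 (by decide) (e0.hj.cQ 1)
  have c2 := k 2 (by decide) (e0.hj.cQ 2)
  simpa [Dat.φ, el, h0, h2] using mul_mem (pow_mem z (v 1).val)
    (mul_mem (pow_mem c1 (v 3).val) (pow_mem c2 (v 4).val))

include e0 nj rf in
theorem pt : ∃ g ∈ E.K ⊓ nr E.I, g * E.z * g⁻¹ = E.φ ![1, 2, 0, 1, 0] ∧
    cj g (E.R 0) ≤ Ce (E.t * E.z) ⊓ Ce (E.c 2) := by
  have zt : Zt E.z (E.φ ![1, 2, 0, 1, 0]) := (nj.zset _).2 (by decide)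
  obtain ⟨g, hg, e⟩ := nj.typ _ ((nj.memI _).2 ⟨![1, 2, 0, 1, 0], rfl, rfl⟩)
    fun e => absurd (nj.inj _ e) (by decide)
  have zt' := Zt_cj (D := E.D) zt g
  have e1 : g * E.φ ![1, 2, 0, 1, 0] * g⁻¹ = E.z := by
    rcases e with e | e | e
    · exact e
    · rw [e, ← v_c1] at zt'
      exact absurd ((nj.zset _).1 zt').2 (by decide)
    · rw [e, Dat.b, ← v_c1, ← v_c2, ← nj.add] at zt'
      exact absurd ((nj.zset _).1 zt').2 (by decide)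
  obtain ⟨f, f1, f2, f3⟩ := nj.iso g (rf.nI hg.2)
  have f4 : f ![1, 2, 0, 1, 0] = ![0, 1, 0, 0, 0] := φ_inj nj (by rw [← f1, e1, v_z])
  have key : ∀ v : V5, v 2 = 0 → b5 ![1, 2, 0, 1, 0] v = 0 → cj g⁻¹ (E.R 0) ≤ Ce (E.φ v) := fun v h2 h => by
    obtain ⟨v', h3, h4⟩ := (nj.memI _).1 (nj' hg.2 ((nj.memI _).2 ⟨v, h2, rfl⟩))
    rw [f1] at h4
    have h5 : b5 ![0, 1, 0, 0, 0] (f v) = 0 := by rw [← f4, polar, ← f2, f3, f3, f3, ← polar, h]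
    have h6 := φ_cn e0 rf (v := f v) (by simpa [b5] using h5) (φ_inj nj h4 ▸ h3)
    intro a ha
    have := conj_mem_Ce (mem_Ce.2 (h6 _ (mem_cj.1 ha))) g⁻¹
    rw [← f1] at this
    simpa [mul_assoc] using this
  refine ⟨g⁻¹, inv_mem (mem_inf.2 ⟨hg.1.2, hg.2⟩), by rw [← e1]; group, le_inf ?_ ?_⟩
  · rw [← v_t, ← v_z, ← nj.add]; exact key _ (by decide) (by decide)
  · rw [← v_c2]; exact key _ (by decide) (by decide)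

include e0 in
theorem r1_mem : E.r 1 ∈ E.K ⊓ nr E.I := by
  have H := e0.hj
  have h1 : E.r 1 ∈ E.K := mem_Ce.2 (H.rr 1 0)
  have h2 : E.r 1 ∈ nr (closure {E.z, E.c 0, E.c 1, E.c 2}) := mem_normalizer_of_cj_le (by
    rw [cj_le_iff, closure_le]
    rintro x (rfl | rfl | rfl | rfl) <;> refine mem_cj.2 ?_ <;> rw [inv_inv]
    · rw [mem_Ce'.1 (Bz (H.rB 1))]; exact subset_closure (by simp)
    · rw [mem_Ce'.1 (rc e0 (by decide))]; exact subset_closure (by simp)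
    · rw [H.rcr]; exact inv_mem (subset_closure (by simp))
    · rw [mem_Ce'.1 (rc e0 (by decide))]; exact subset_closure (by simp))
  refine ⟨h1, zpowers_le.1 (le_normalizer_inf (zpowers_le.2 ?_) (le_normalizer_of_le (zpowers_le.2 h1)))⟩
  rw [H.Jeq]
  exact normalizer_le_normalizer_centralizer _ h2

theorem cd (g a b : G) : g * (a * b) * g⁻¹ = g * a * g⁻¹ * (g * b * g⁻¹) := by group

include e0 nj in
theorem act_r (b c d : ZMod 3) : E.r 1 * E.φ (![1, 0, 0, 0, 0] + b.val • ![0, 1, 0, 0, 0] +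
    c.val • ![0, 0, 0, 1, 0] + d.val • ![0, 0, 0, 0, 1]) * (E.r 1)⁻¹ =
    E.φ (![1, 0, 0, 0, 0] + b.val • ![0, 1, 0, 0, 0] + c.val • (-![0, 0, 0, 1, 0]) + d.val • ![0, 0, 0, 0, 1]) := by
  have p : ∀ (n : ℕ) (v : V5), E.φ (n • v) = E.φ v ^ n := fun n v =>
    map_pow (φH nj) (Multiplicative.ofAdd v) n
  have H := e0.hj
  simp only [nj.add, p, φ_neg nj, v_t, v_z, v_c1, v_c2, cd, ← conj_pow]
  rw [mem_Ce'.1 (mem_Ce.2 (H.tr 1).symm), mem_Ce'.1 (Bz (H.rB 1)), H.rcr,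
    mem_Ce'.1 (rc e0 (i := 1) (j := 2) (by decide))]

include e0 nj in
theorem act_x : E.x 2 * E.φ ![1, 2, 0, 1, 0] * (E.x 2)⁻¹ = E.φ ![1, 1, 0, 1, 1] := by
  have H := e0.hj
  have h := e0.h3
  have e : E.x 2 * E.t * (E.x 2)⁻¹ = E.t * E.c 2 * (E.z * E.z) := by rw [H.xt, ← sq]; rfl
  rw [show (![1, 2, 0, 1, 0] : V5) = ![1, 0, 0, 0, 0] + ![0, 1, 0, 0, 0] + ![0, 1, 0, 0, 0] + ![0, 0, 0, 1, 0]
    by decide, show (![1, 1, 0, 1, 1] : V5) = ![1, 0, 0, 0, 0] + ![0, 0, 0, 0, 1] +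
      (![0, 1, 0, 0, 0] + ![0, 1, 0, 0, 0]) + ![0, 1, 0, 0, 0] + ![0, 1, 0, 0, 0] + ![0, 0, 0, 1, 0] by decide]
  simp only [nj.add, v_t, v_z, v_c1, v_c2, cd]
  rw [e, mem_Ce'.1 (Bz (QiB h 2 (H.xQ 2))), mem_Ce'.1 (mem_Ce.2 (QQc h (by decide) (H.xQ 2) (H.cQ 1)))]

include e0 nj rf sf in
theorem wit : ∃ w ∈ E.Sg, w ∈ Ce (E.r 1) ∧ w ∈ Ce (E.t * E.z) ∧ w ∈ Ce (E.c 2) ∧ w ≠ 1 ∧
    (∃ k, w * E.r 1 = k * E.r 1 * k⁻¹) ∧ w * (E.x 2 * w * (E.x 2)⁻¹) ≠ 1 ∧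
    ∃ k, w * (E.x 2 * w * (E.x 2)⁻¹) * E.r 1 = k * E.r 1 * k⁻¹ := by
  have H := e0.hj
  have h := e0.h3
  obtain ⟨A, B, a4, b4, a2, ab⟩ : ∃ A B : SL3, A ^ 4 = 1 ∧ B ^ 4 = 1 ∧ A * A = -1 ∧ A * B ≠ B * A := by
    decide +kernel
  obtain ⟨a, ha, rfl⟩ := rf.Ronto 0 A a4
  obtain ⟨b, hb, rfl⟩ := rf.Ronto 0 B b4
  have aB := rf.RB 0 ha
  have bB := rf.RB 0 hb
  have aa : a * a = E.r 0 := mul_inv_eq_one.1 (rf.Rinj 0 _ (mul_mem (mul_mem ha ha) (inv_mem (rf.rR 0))) (by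
    rw [m_mul h (mul_mem aB aB) (inv_mem (H.rB 0)), m_mul h aB aB, a2, m_inv h (H.rB 0), H.rm, mul_inv_cancel]))
  obtain ⟨g, hg, e1, hc⟩ := pt e0 nj rf
  have nc : g * a * g⁻¹ ∉ cn (cj g (E.R 0)) := fun c => ab (by
    have := c _ (conj_mem_cj hb)
    rw [← cd, ← cd, mul_left_inj, mul_right_inj] at this
    rw [← m_mul h aB bB, ← m_mul h bB aB, this])
  have hr := r1_mem e0
  have xS : E.x 2 ∈ E.S0 := mem_sup_left (mem_sup_right (H.xQ 2))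
  have hx : E.x 2 ∈ E.K ⊓ nr E.I := ⟨(rf.SY xS).2, rf.SI xS⟩
  have xr : E.x 2 * E.r 1 = E.r 1 * E.x 2 := H.rc 1 2 (by decide) _ (H.xQ 2)
  have cc : ∀ k g y : G, k * g * y * (k * g)⁻¹ = k * (g * y * g⁻¹) * k⁻¹ := fun k g y => by group
  have e2 : E.r 1 * g * E.z * (E.r 1 * g)⁻¹ = E.φ ![1, 2, 0, 2, 0] := by
    rw [cc, e1]; exact (act_r e0 nj 2 1 0).trans (congrArg _ (by decide))
  have e3 : E.x 2 * g * E.z * (E.x 2 * g)⁻¹ = E.φ ![1, 1, 0, 1, 1] := by rw [cc, e1, act_x e0 nj]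
  have e4 : E.r 1 * (E.x 2 * g) * E.z * (E.r 1 * (E.x 2 * g))⁻¹ = E.φ ![1, 1, 0, 2, 1] := by
    rw [cc, e3]; exact (act_r e0 nj 1 1 1).trans (congrArg _ (by decide))
  have cm : ∀ k ∈ E.K ⊓ nr E.I, ∀ k' ∈ E.K ⊓ nr E.I, ∀ u v : V5, k * E.z * k⁻¹ = E.φ u →
      k' * E.z * k'⁻¹ = E.φ v → (∀ n : ZMod 3, u ≠ n • v) → k * a * k⁻¹ ∈ cn (cj k' (E.R 0)) :=
    fun k hk k' hk' u v eu ev n => sf.comm k hk k' hk' (fun m => by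
      rw [eu, ev] at m
      obtain ⟨c, m⟩ := zp_φ nj m
      exact n c m) (conj_mem_cj ha)
  have g2 := mul_mem hr hg
  have g3 := mul_mem hx hg
  have g4 := mul_mem hr g3
  have c21 := cm _ g2 _ hg _ _ e2 e1 (by decide)
  have c31 := cm _ g3 _ hg _ _ e3 e1 (by decide)
  have c41 := cm _ g4 _ hg _ _ e4 e1 (by decide)
  have c32 := cm _ g3 _ g2 _ _ e3 e2 (by decide) _ (conj_mem_cj ha)
  have inS : ∀ k ∈ E.K ⊓ nr E.I, k * a * k⁻¹ ∈ E.Sg := fun k hk => subset_closure ⟨k, hk, conj_mem_cj ha⟩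
  have sq : ∀ k ∈ E.K ⊓ nr E.I, k * a * k⁻¹ * (k * a * k⁻¹) = E.r 0 := fun k hk => by
    rw [← cd, aa, mem_Ce'.1 hk.1]
  have s1 := inS _ hg
  have s2 := inS _ g2
  have q1 := sq _ hg
  have q2 := sq _ g2
  have d21 := c21 _ (conj_mem_cj ha)
  have d31 := c31 _ (conj_mem_cj ha)
  have hσ := hc (conj_mem_cj ha)
  simp only [cc] at c21 c31 c41 c32 s2 q2 d21 d31
  generalize g * a * g⁻¹ = σ at *
  have rr := H.rsq 1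
  have ri : (E.r 1)⁻¹ = E.r 1 := inv_eq_of_mul_eq_one_right rr
  have ex : E.x 2 * (σ⁻¹ * (E.r 1 * σ * (E.r 1)⁻¹)) * (E.x 2)⁻¹ =
      (E.x 2 * σ * (E.x 2)⁻¹)⁻¹ * (E.r 1 * (E.x 2 * σ * (E.x 2)⁻¹) * (E.r 1)⁻¹) := by
    rw [← cc (E.r 1), ← xr]; group
  have rC : ∀ y, E.r 1 ∈ Ce y → σ ∈ Ce y → σ⁻¹ * (E.r 1 * σ * (E.r 1)⁻¹) ∈ Ce y := fun y h1 h2 =>
    mul_mem (inv_mem h2) (mul_mem (mul_mem h1 h2) (inv_mem h1))
  refine ⟨σ⁻¹ * (E.r 1 * σ * (E.r 1)⁻¹), mul_mem (inv_mem s1) s2, Ce_symm (mem_Ce'.2 ?_),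
    rC _ (Ce_symm (mul_mem (mem_Ce.2 (H.tr 1)) (Ce_symm (Bz (H.rB 1))))) hσ.1,
    rC _ (rc e0 (by decide)) hσ.2, fun e => nc (inv_mul_eq_one.1 e ▸ c21), ⟨σ⁻¹, by group⟩,
    fun e => nc ?_, ⟨(σ * (E.x 2 * σ * (E.x 2)⁻¹))⁻¹, ?_⟩⟩
  · have e5 : E.r 1 * (E.r 1 * σ * (E.r 1)⁻¹) * (E.r 1)⁻¹ = σ := by rw [← cc, rr]; group
    rw [cd, e5, ← conj_inv]
    generalize E.r 1 * σ * (E.r 1)⁻¹ = σ' at *
    rw [inv_mul_eq_iff_eq_mul, ← mul_assoc, (Commute.inv_right d21.symm).eq, mul_assoc, q2, ← q1,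
      inv_mul_cancel_left]
  · rw [ex, mul_assoc, inv_mul_eq_one] at e
    rw [e]
    exact mul_mem c21 (mul_mem (inv_mem c31) c41)
  · rw [ex]
    generalize E.x 2 * σ * (E.x 2)⁻¹ = ρ at *
    have c : Commute (σ⁻¹ * (E.r 1 * σ * (E.r 1)⁻¹)) ρ⁻¹ :=
      ((Commute.inv_left d31).mul_left c32).inv_right
    rw [← mul_assoc, c.eq]; group

include e0 nj rf yf sf hY hK in
theorem nwc : ∃ g : G, g * E.r 0 * g⁻¹ ∈ E.Sg ∧ g * E.r 0 * g⁻¹ ≠ E.r 0 := by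
  have H := e0.hj
  obtain ⟨w, w1, w2, w3, w4, w5, ⟨k, w6⟩, w7, k', w8⟩ := wit e0 nj rf sf
  have bk : ∀ {g x y : G}, E.π * x * E.π⁻¹ = y → g ∈ Ce y → E.π⁻¹ * g * E.π ∈ Ce x := fun e a => by
    rwa [← e, ← H42.L3.cj_Ce, mem_cj] at a
  have nS : ∀ x y : G, E.π * x * E.π⁻¹ = y → y ∈ E.Y → x ∈ nr (cj E.π⁻¹ E.Sg) := fun x y e hy => by
    rw [nr, ← cj_normalizer, mem_cj, inv_inv, e]; exact hY hy
  have fin : ∀ v k : G, E.π⁻¹ * v * E.π ∈ E.Sg → v ≠ 1 → v * E.r 1 = k * E.r 1 * k⁻¹ →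
      ∃ g : G, g * E.r 0 * g⁻¹ ∈ E.Sg ∧ g * E.r 0 * g⁻¹ ≠ E.r 0 := fun v k h1 h2 h3 => by
    have e : E.π⁻¹ * k * E.π * E.r 0 * (E.π⁻¹ * k * E.π)⁻¹ = E.π⁻¹ * v * E.π * E.r 0 := by
      have := H.πr 0
      rw [zero_add] at this
      rw [show v = k * E.r 1 * k⁻¹ * (E.r 1)⁻¹ by rw [← h3]; group, ← this]; group
    exact ⟨_, e ▸ mul_mem h1 sf.rm, e ▸ fun c => h2 (by
      rw [mul_eq_right, mul_assoc, inv_mul_eq_one] at c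
      exact mul_eq_right.1 c.symm)⟩
  have tz : E.π * (E.t * E.z) * E.π⁻¹ = E.t * E.z := by rw [cd, mem_Ce'.1 H.πz, mem_Ce'.1 (mem_Ce.2 e0.πt)]
  rcases fac e0 nj rf yf sf hY hK (isPGroup_cj E.π⁻¹ (Sg_two sf))
    (fun a ha => by simpa [mul_assoc] using bk (H.πr 2) (sf.le (mem_cj.1 ha)))
    (nS _ _ (mem_Ce'.1 H.πz) (zY e0 rf)) (nS _ _ (e0.πc 1) (Q2Y rf (H.cQ 2)))
    (w := E.π⁻¹ * w * E.π) (mem_cj.2 (by simpa [mul_assoc] using w1)) (bk (H.πr 0) w2) (bk tz w3)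
    (bk (e0.πc 1) w4) with h | h
  · exact fin w k h w5 w6
  · refine fin _ k' ?_ w7 w8
    have x1 : E.π⁻¹ * E.x 2 * E.π ∈ E.Y :=
      ⟨bk (e0.πc 0) (mem_Ce.2 (QQc e0.h3 (by decide) (H.xQ 2) (H.cQ 1))),
        bk (H.πr 0) (mem_Ce.2 (H.rc 1 2 (by decide) _ (H.xQ 2)))⟩
    have x2 : E.π⁻¹ * E.x 2 * E.π ∈ Ce (E.r 2) := bk (H.πr 2) (Q2Y rf (H.xQ 2)).2
    have h1 := mul_mem h (nj' (hY (r2Y e0)) (nj' (hY x1) h))
    rw [cd (E.π⁻¹ * E.x 2 * E.π), mem_Ce'.1 x2, mul_assoc (E.r 2), mul_inv_cancel_right, mul_assoc,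
      ← mul_assoc (E.r 2), H.rsq, one_mul] at h1
    convert h1 using 1
    group

end H27.E6F
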