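/- Tower EA (S4546, S4577), slot N43: the case (k0, k1) = (4, 3) is impossible. -/
import Cfsg.Agent.H68.EaSpec

set_option autoImplicit false

namespace H27.EaN43

open H34 H68.EA Finset

universe u

/-- If `A * A = 8 A` and `w` is isotropic term by term, then `A w = 0`. -/
theorem ker_of_iso {ι : Type u} (s : Finset ι) (A : ι → ι → ℤ) (w : ι → ℤ)
    (hs : ∀ i ∈ s, ∀ j ∈ s, A i j = A j i)
    (h2 : ∀ i ∈ s, ∀ j ∈ s, ∑ k ∈ s, A i k * A k j = 8 * A i j)
    (hw : ∀ k ∈ s, w k * ∑ j ∈ s, A k j * w j = 0) : ∀ i ∈ s, ∑ j ∈ s, A i j * w j = 0 := by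
  have key : ∑ i ∈ s, (∑ j ∈ s, A i j * w j) ^ 2 = 8 * ∑ k ∈ s, w k * ∑ j ∈ s, A k j * w j := by
    calc ∑ i ∈ s, (∑ j ∈ s, A i j * w j) ^ 2
        = ∑ i ∈ s, ∑ k ∈ s, ∑ j ∈ s, w k * (A k i * A i j) * w j := by
          refine sum_congr rfl fun i hi => ?_
          rw [sq, sum_mul_sum]
          refine sum_congr rfl fun k hk => sum_congr rfl fun j _ => ?_
          rw [hs k hk i hi]; ring
      _ = ∑ k ∈ s, ∑ j ∈ s, ∑ i ∈ s, w k * (A k i * A i j) * w j := by
          rw [sum_comm]
          exact sum_congr rfl fun k _ => sum_comm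
      _ = ∑ k ∈ s, ∑ j ∈ s, w k * (8 * A k j) * w j := by
          refine sum_congr rfl fun k hk => sum_congr rfl fun j hj => ?_
          rw [← h2 k hk j hj, mul_sum, sum_mul]
      _ = 8 * ∑ k ∈ s, w k * ∑ j ∈ s, A k j * w j := by
          rw [mul_sum]
          refine sum_congr rfl fun k _ => ?_
          rw [mul_sum, mul_sum]
          exact sum_congr rfl fun j _ => by ring
  rw [sum_eq_zero hw, mul_zero] at key
  intro i hi
  exact pow_eq_zero_iff (two_ne_zero) |>.1
    ((sum_eq_zero_iff_of_nonneg fun _ _ => sq_nonneg _).1 key i hi)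

theorem jobN43 : JobN43.{u} := by
  classical
  intro ι s h A hA hs h2 hlt h3 htr hex hev
  obtain ⟨i, hi, hi0⟩ := hex
  have h4 : ∀ p ∈ s, h p ≠ 0 → A p p = 4 ∧ h p = 1 := by
    intro p hp hp0
    have hd := (hA.dvd_iff p hp p hp).2 hp0
    have hd4 : (4 : ℤ) ∣ A p p := by
      refine Dvd.dvd.trans ?_ hd
      obtain ⟨m, hm⟩ : ∃ m, h p = m + 1 := ⟨h p - 1, by omega⟩
      exact ⟨2 ^ m, by rw [hm]; ring⟩
    have hpos := hA.pos p hp
    have hl := hlt p hp
    have e4 : A p p = 4 := by omega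
    refine ⟨e4, ?_⟩
    by_contra hne
    have hd8 : (8 : ℤ) ∣ A p p := by
      refine Dvd.dvd.trans ?_ hd
      obtain ⟨m, hm⟩ : ∃ m, h p = m + 2 := ⟨h p - 2, by omega⟩
      exact ⟨2 ^ m, by rw [hm]; ring⟩
    omega
  set H0 := s.filter fun k => h k = 0 with hH0
  set H1 := s.filter fun k => ¬ h k = 0 with hH1
  have hcard : H0.card + H1.card = s.card := card_filter_add_card_filter_not _
  have hsum : ∀ f : ι → ℤ, ∑ k ∈ s, f k = ∑ k ∈ H0, f k + ∑ k ∈ H1, f k := fun f =>
    (sum_filter_add_sum_filter_not s _ f).symm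
  have hcount : 3 * (H0.card : ℤ) + 4 * H1.card = 24 := by
    rw [hsum, sum_congr rfl (g := fun _ => (3 : ℤ))
        (fun k hk => h3 k (mem_filter.1 hk).1 (mem_filter.1 hk).2),
      sum_congr rfl (s₁ := H1) (g := fun _ => (4 : ℤ))
        (fun k hk => (h4 k (mem_filter.1 hk).1 (mem_filter.1 hk).2).1)] at htr
    simp only [sum_const, nsmul_eq_mul] at htr
    linarith
  have hiH : i ∈ H0 := mem_filter.2 ⟨hi, hi0⟩
  have hpos : 0 < H0.card := card_pos.2 ⟨i, hiH⟩
  by_contra hne
  have c0 : H0.card = 4 := by omega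
  have c1 : H1.card = 3 := by omega
  -- the rows of positive height
  have hrow : ∀ p ∈ s, h p ≠ 0 → ∀ k ∈ s,
      (if h k = 0 then (4 : ℤ) else if k = p then 16 else 0) = A p k ^ 2 := by
    intro p hp hp0
    refine (sum_eq_sum_iff_of_le fun k hk => ?_).1 ?_
    · split_ifs with hk0 hkp
      · obtain ⟨c, hc, hc2⟩ := hA.exists_odd hk hp hk0
        rw [hs p hp k hk, hc2, (h4 p hp hp0).2]
        have : c ≠ 0 := by rintro rfl; exact absurd hc (by decide)
        have : 0 < c ^ 2 := by positivity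
        linarith
      · rw [hkp, (h4 p hp hp0).1]; norm_num
      · positivity
    · rw [hA.sq p hp, (h4 p hp hp0).1, hsum,
        sum_congr rfl (g := fun _ => (4 : ℤ)) (fun k hk => if_pos (mem_filter.1 hk).2),
        sum_congr rfl (s₁ := H1) (g := fun k => if k = p then (16 : ℤ) else 0)
          (fun k hk => if_neg (mem_filter.1 hk).2), sum_ite_eq',
        if_pos (mem_filter.2 ⟨hp, hp0⟩), sum_const, c0]
      norm_num
  have he : ∀ p ∈ H1, A i p = 2 ∨ A i p = -2 := by
    intro p hp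
    obtain ⟨hp, hp0⟩ := mem_filter.1 hp
    have := hrow p hp hp0 i hi
    rw [if_pos hi0, hs p hp i hi] at this
    exact sq_eq_sq_iff_eq_or_eq_neg.1 (by rw [← this]; norm_num)
  let w : ι → ℤ := fun k => if h k = 0 then (if k = i then 2 else 0) else -(A i k / 2)
  have hw : ∀ f : ι → ℤ, ∑ k ∈ s, f k * w k = f i * 2 + ∑ k ∈ H1, f k * -(A i k / 2) := by
    intro f
    rw [hsum, sum_congr rfl (g := fun k => if k = i then f k * 2 else 0)
        (fun k hk => by simp only [w, if_pos (mem_filter.1 hk).2]; split_ifs <;> simp),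
      sum_congr rfl (s₁ := H1) (g := fun k => f k * -(A i k / 2))
        (fun k hk => by simp only [w, if_neg (mem_filter.1 hk).2]), sum_ite_eq', if_pos hiH]
  have hker := ker_of_iso s A w hs h2 fun k hk => by
    by_cases hk0 : h k = 0
    · by_cases hki : k = i
      · rw [hw, hki, h3 i hi hi0, sum_congr rfl (g := fun _ => (-2 : ℤ))
          (fun p hp => by rcases he p hp with e | e <;> rw [e] <;> norm_num), sum_const, c1]
        norm_num
      · simp only [w, if_pos hk0, if_neg hki, zero_mul]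
    · have hkH : k ∈ H1 := mem_filter.2 ⟨hk, hk0⟩
      rw [hw, sum_eq_single_of_mem k hkH, (h4 k hk hk0).1, hs k hk i hi]
      · rcases he k hkH with e | e <;> rw [e] <;> norm_num
      · intro q hq hqk
        have := hrow k hk hk0 q (mem_filter.1 hq).1
        rw [if_neg (mem_filter.1 hq).2, if_neg hqk] at this
        rw [pow_eq_zero_iff two_ne_zero |>.1 this.symm, zero_mul]
  have hE := hev w hker
  have h1 := hw fun _ => 1
  simp only [one_mul] at h1
  rw [h1] at hE
  obtain ⟨a, b, c, hab, hac, hbc, habc⟩ := card_eq_three.1 c1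
  have ha := he a (by rw [habc]; simp)
  have hb := he b (by rw [habc]; simp)
  have hc := he c (by rw [habc]; simp)
  rw [habc, sum_insert (by simp [hab, hac]), sum_pair hbc, Int.even_iff] at hE
  omega

end H27.EaN43
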