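import Cfsg.Agent.H82.FSSpec3
import Cfsg.Agent.H98.Sylow

/-! Tower FS (blueprints/FS.md): jobs Conj and AN. -/

set_option autoImplicit false

namespace H27.FS

open Cfsg Subgroup H82.FS
open H98 (IsSyl)
open scoped commutatorElement

universe u

section
variable {G : Type u} [Group G] [Finite G] {p r : ℕ} {A N X : Subgroup G}

theorem blk_ne (h : Geo p r A N) (hX : Blk r A X) : X ≠ ⊥ := fun e =>
  h.not_normal (normalizer_eq_top_iff.1 (eq_top_iff.2 fun g _ => cj_eq_iff.1 (by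
    by_contra k
    exact h.lin.kl_ne_bot k ((hX.2 _ (h.lin.kl_sp g) (e ▸ bot_le)).trans e))))

theorem pts (h : Geo p r A N) (hX : Blk r A X) (g : G) (hg : cj g A ≤ normalizer (X : Set G)) :
    ∃ y ∈ X, cj g A = cj y A := by
  obtain ⟨R, h1, -, -, h4, h5⟩ := h.R (h.norm_ne_top hX.1.1 (blk_ne h hX)) hX.1.2.1
  exact hX.2 R h1 (h4 X hX.1 le_normalizer) ▸ h5 g hg

theorem pts' (h : Geo p r A N) (iso : Iso A) (hX : Blk r A X) (g : G)
    (hg : cj g A ≤ normalizer (X : Set G)) : ∃ y ∈ X, y⁻¹ * g ∈ centralizer (A : Set G) := by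
  obtain ⟨y, hy, e⟩ := pts h hX g hg
  exact ⟨y, hy, iso (cj_eq_iff.1 (by rw [cj_mul, e, cj_inv_cj]))⟩

theorem syl (h : Geo p r A N) (iso : Iso A) (hX : Blk r A X) : ∃ P, IsSyl r P ⊤ ∧ X ≤ P ∧
    A ≤ normalizer (P : Set G) ∧ normalizer (P : Set G) ≤ normalizer (X : Set G) ∧ ⁅P, A⁆ = X := by
  have := Fact.mk h.lin.hr
  obtain ⟨P, hP⟩ := H98.exists_isSyl r (centralizer (A : Set G) ⊓ normalizer (X : Set G))
  have Pn : P ≤ normalizer (X : Set G) := hP.le.trans inf_le_right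
  have pg : IsPGroup r ↥(X ⊔ P) := hX.1.1.to_sup_of_normal_left' hP.isPGroup Pn
  have An : A ≤ normalizer ((X ⊔ P : Subgroup G) : Set G) := le_norm_sup hX.1.2.1
    ((le_centralizer_iff.1 (hP.le.trans inf_le_left)).trans (centralizer_le_normalizer _))
  obtain ⟨n, m⟩ := hX.norm_of_le h (h.norm_ne_top pg fun e => blk_ne h hX (eq_bot_mono le_sup_left e))
    (le_sup_left.trans le_normalizer) An
  refine ⟨_, H98.isSyl_of_isSyl_normalizer ⟨le_inf le_top le_normalizer, pg, fun Q hQ h1 h2 =>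
    le_antisymm (fun q hq => ?_) h1⟩, le_sup_left, An, n, le_antisymm
      (m _ (sp_comm h.lin pg An) ((comm_le_left An).trans le_normalizer))
      (hX.1.2.2.ge.trans (commutator_mono le_sup_left le_rfl))⟩
  obtain ⟨y, hy, k⟩ := pts' h iso hX q (cj_le_of hX.1.2.1 (n (h2 hq).2))
  have e := hP.eq_of_le (hQ.to_inf_left (K := centralizer (A : Set G) ⊓ normalizer (X : Set G)))
    (le_inf (le_sup_right.trans h1) hP.le) inf_le_right
  rw [← mul_inv_cancel_left y q]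
  exact mul_mem (mem_sup_left hy) (mem_sup_right (e.le (mem_inf.2 ⟨mul_mem (inv_mem (h1 (mem_sup_left hy))) hq,
    mem_inf.2 ⟨k, mul_mem (inv_mem (le_normalizer hy)) (n (h2 hq).2)⟩⟩)))

end

theorem jobConj : JobConj.{u} := by
  intro G _ _ p r A N X h iso hX
  have := Fact.mk h.lin.hr
  obtain ⟨P, hP, XP, AP, nP, eP⟩ := syl h iso hX
  refine ⟨fun Y hY => ?_, ⟨hP.toSylowTop, XP, le_normalizer.trans nP⟩,
    fun m hm => pts' h iso hX m (cj_le_of hX.1.2.1 hm), fun z hz z1 => hX.cz h hz z1,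
    fun g z hz z1 hz' => ?_, blk_ne h hX, ?_⟩
  · obtain ⟨P', hP', -, AP', -, eP'⟩ := syl h iso hY
    obtain ⟨g, -, e⟩ := hP.exists_cj_eq hP'
    change cj g P = P' at e
    obtain ⟨y, hy, k⟩ := pts' h iso hX g⁻¹ (le_trans (by
      rw [← cj_inv_cj g P, e, ← cj_norm]; exact cj_mono _ AP') nP)
    have k' := inv_mem k
    rw [mul_inv_rev, inv_inv, inv_inv] at k'
    exact ⟨_, k', by rw [← eP', ← eP, cj_comm, cj_eq_of_cen k', cj_mul, cj_eq_iff.2 (le_normalizer (XP hy)), e]⟩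
  · obtain ⟨y, hy, k⟩ := pts' h iso hX g⁻¹ (le_trans (by
      rintro _ ⟨a, ha, rfl⟩
      have := h.Z_cen hX.1 hz' a ha
      refine mem_centralizer_singleton_iff.2 ?_
      change g⁻¹ * a * g⁻¹⁻¹ * z = z * (g⁻¹ * a * g⁻¹⁻¹)
      calc _ = g⁻¹ * (a * (g * z * g⁻¹)) * g := by group
        _ = _ := by rw [this]; group) (hX.cz h hz z1))
    have k' := inv_mem k
    rw [mul_inv_rev, inv_inv, inv_inv] at k'
    have e : X = cj (g * y) X := by
      by_contra ne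
      have m : g * z * g⁻¹ ∈ ⁅cj (g * y) X, cj (g * y) X⁆ := by
        rw [← cj_comm, cj_mul, cj_eq_iff.2 (left_le_norm_comm X X hy)]
        exact conj_mem_cj hz
      exact z1 (conj_eq_one_iff.1 ((hX.Z_inf h (hX.cj k') ne).le ⟨hz', m⟩))
    exact (Subgroup.mul_mem_cancel_right _ (le_normalizer hy)).1 (cj_eq_iff.1 e.symm)
  · by_contra k
    push Not at k
    refine h.norm_ne_top hX.1.1 (blk_ne h hX) (h.lin.top_of fun g => (h.lin.sub g).trans (sup_le ?_ hX.1.2.1))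
    obtain ⟨Y, hY, le⟩ := exists_blk (h.lin.kl_sp g)
    exact (k Y hY ▸ le).trans le_normalizer

theorem jobAN : JobAN.{u} := by
  intro G _ _ p A X hU an sp ⟨z1, z2, z3⟩ c cA cX cZ k
  induction k generalizing c with
  | zero => intro e; rw [pow_zero, pow_one] at e; exact e ▸ one_mem _
  | succ k ih =>
  intro e
  have c2 := ih (c ^ 2) (pow_mem cA 2) (pow_mem cX 2) (pow_mem cZ 2) (by rw [← pow_mul, ← pow_succ', e])
  have zc : ∀ a ∈ X, ∀ b ∈ X, ∀ d ∈ X, d * ⁅a, b⁆ = ⁅a, b⁆ * d := fun a ha b hb d hd =>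
    z2 (commutator_mem_commutator ha hb) d hd
  have bl : ∀ a ∈ X, ∀ b ∈ X, ∀ d ∈ X, ⁅a * b, d⁆ = ⁅a, d⁆ * ⁅b, d⁆ := fun a ha b hb d hd => by
    calc _ = a * ⁅b, d⁆ * a⁻¹ * ⁅a, d⁆ := by simp only [commutatorElement_def]; group
      _ = _ := by
        rw [zc b hb d hd a ha, mul_inv_cancel_right,
          zc b hb d hd _ (commutator_le_sup X X |>.trans (sup_idem X).le (commutator_mem_commutator ha hd))]
  have sq : ∀ a ∈ X, ∀ d ∈ X, ⁅a, d⁆ * ⁅a, d⁆ = 1 := fun a ha d hd => by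
    rw [← bl a ha a ha d hd, ← pow_two, commutatorElement_eq_one_iff_mul_comm]
    exact (z2 (z3 a ha) d hd).symm
  have sy : ∀ a ∈ X, ∀ d ∈ X, ⁅a, d⁆ = ⁅d, a⁆ := fun a ha d hd => by
    rw [← commutatorElement_inv d a]; exact (inv_eq_of_mul_eq_one_right (sq d hd a ha)).symm ▸ rfl
  have iv : ∀ a ∈ X, ∀ d ∈ X, ⁅a⁻¹, d⁆ = ⁅a, d⁆ := fun a ha d hd => by
    have := bl _ (inv_mem ha) a ha d hd
    rw [inv_mul_cancel, commutatorElement_one_left, ← sq a ha d hd] at this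
    exact (mul_right_cancel this).symm
  have cm : ∀ a ∈ X, c * a * c⁻¹ ∈ X := fun a ha => (mem_normalizer_iff.1 cX a).1 ha
  have cc : ∀ a ∈ X, ∀ d ∈ X, ⁅c * a * c⁻¹, c * d * c⁻¹⁆ = ⁅a, d⁆ := fun a ha d hd => by
    rw [← conjugate_commutatorElement, ← cZ _ (commutator_mem_commutator ha hd), mul_inv_cancel_right]
  have key : ∀ u ∈ X, ∀ v ∈ X, ⁅c, u⁆ * ⁅c, v⁆ = ⁅c, v⁆ * ⁅c, u⁆ := fun u hu v hv => by
    have e1 : ⁅c * u * c⁻¹, v⁆ = ⁅u, c * v * c⁻¹⁆ := by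
      rw [← cc _ (cm u hu) v hv, show c * (c * u * c⁻¹) * c⁻¹ = c ^ 2 * u * (c ^ 2)⁻¹ by
        rw [pow_two]; group, ← c2 u hu, mul_inv_cancel_right]
    have m := mul_mem (cm v hv) (inv_mem hv)
    rw [← commutatorElement_eq_one_iff_mul_comm, commutatorElement_def c u, commutatorElement_def c v,
      bl _ (cm u hu) _ (inv_mem hu) _ m, iv u hu _ m, sy _ (cm u hu) _ m, sy u hu _ m,
      bl _ (cm v hv) _ (inv_mem hv) _ (cm u hu), bl _ (cm v hv) _ (inv_mem hv) u hu, cc v hv u hu,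
      iv v hv _ (cm u hu), iv v hv u hu, sy v hv _ (cm u hu), e1, sy _ (cm v hv) u hu,
      mul_assoc, ← mul_assoc ⁅u, _⁆, sq u hu _ (cm v hv), one_mul, sq v hv u hu]
  let W := closure {w | ∃ u ∈ X, w = ⁅c, u⁆}
  have AW : A ≤ normalizer (W : Set G) := fun a ha => norm_of_cj_le (by
    rw [cj, MonoidHom.map_closure, closure_le]
    rintro _ ⟨_, ⟨u, hu, rfl⟩, rfl⟩
    refine subset_closure ⟨a * u * a⁻¹, (mem_normalizer_iff.1 (sp.2.1 ha) u).1 hu, ?_⟩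
    change a * ⁅c, u⁆ * a⁻¹ = _
    rw [conjugate_commutatorElement, cA a ha, mul_inv_cancel_right])
  have Wc : W ≤ centralizer (W : Set G) := by
    rw [centralizer_closure, closure_le]
    rintro _ ⟨u, hu, rfl⟩ _ ⟨v, hv, rfl⟩
    exact key v hv u hu
  have hZ : ∀ u ∈ X, ⁅u, c⁆ ∈ ⁅X, X⁆ := fun u hu => by
    have m : ⁅c, u⁆ ∈ W := subset_closure ⟨u, hu, rfl⟩
    have mX : ⁅c, u⁆ ∈ X := mul_mem (cm u hu) (inv_mem hu)
    rw [← commutatorElement_inv, inv_mem_iff, z1]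
    refine ⟨mX, hU.lin.norm_cen (hU.lin.cop sp.1) sp.2.1 mX (cj_eq_iff.1 ?_)⟩
    by_contra n
    have le := hU.lin.kl_le' AW m
    exact an _ n ⟨⟨fun a b => Subtype.ext (Wc (le b.2) _ (le a.2))⟩⟩
  intro x hx
  exact mem_centralizer_singleton_iff.1 (cen_comm cA hZ (z1.le.trans inf_le_right) z2 (sp.2.2.ge hx))

end H27.FS
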