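/- Tower FE (S1308), slot Y: involutions of the point groups fix one point. -/
import Cfsg.Agent.H14.FEKit

set_option autoImplicit false

namespace H27.FeY

open Cfsg Subgroup MulAction H14 H98 H1.Gold H31.S2 H14.GC H14.FE
open scoped commutatorElement Pointwise

universe u

theorem jobY : JobY.{u} := by
  intro X _ _ J Ω _ _ _ _ pt B β h hp hl hD a u hu h1 h2
  obtain ⟨P, hP, w, hw, e⟩ := hl a u hu ⟨1, by rw [pow_one, pow_two]; exact h2⟩
  refine hD u a ((sup_le (h.Yp_le_stab a) (ker_le_stab a) : _ ≤ stabilizer X a) hu) h1 h2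
    fun j hj => ?_
  have hR : IsSyl 2 (P ⊓ B j) (B j) := h.syl' hP hj
  have hW : Wp pt B P a ≤ (P ⊓ B j) ⊔ centralizer ((P ⊓ B j : Subgroup X) : Set X) :=
    iSup₂_le fun i hi => by
      by_cases ij : i = j
      · rw [ij]; exact le_sup_left
      · exact le_sup_of_le_right fun x hx => mem_centralizer_iff.2 fun y hy =>
          (h.f1 (hi.trans hj.symm) ij hP.isPGroup hx.2 hy.2 hx.1 hy.1).symm
  have hm : w ∈ ((P ⊓ B j : Subgroup X) : Set X) *
      (centralizer ((P ⊓ B j : Subgroup X) : Set X) : Set X) := by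
    rw [← coe_mul_of_left_le_normalizer_right _ _
      (le_normalizer.trans (normalizer_le_normalizer_centralizer _))]
    exact hW hw
  obtain ⟨x, hx, c, hc, rfl⟩ := hm
  refine (hp j _ inf_le_right hR.isPGroup ((h.big j).syl h.bt hR) x hx).mono fun g hg =>
    mem_inf.2 ⟨?_, hg.2.2⟩
  rw [← Cm_congr e]
  refine mem_Cm_of_comm ?_
  show g * (x * c) = x * c * g
  rw [← mul_assoc, mem_cen1.1 hg.1, mul_assoc, mem_centralizer_iff.1 hc g hg.2, mul_assoc]

end H27.FeY
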