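/- Tower FE (S1308), slot Z: involutions generated by the 2-central vertex involutions. -/
import Cfsg.Agent.H14.FESpec

set_option autoImplicit false

namespace H27.FeZ

open Cfsg Subgroup MulAction H14 H98 H1.Gold H31.S2 H14.GC H14.FE
open scoped commutatorElement

universe u

variable {X : Type u} [Group X] [Finite X] {J Ω : Type u} [MulAction X J] [MulAction X Ω]
  {pt : J → Ω} {B : J → Subgroup X} {β : Subgroup X → Prop}

theorem odd_of_ni {x : X} (h : ∀ k : ℕ, ¬ GC.Inv (x ^ k)) : Odd (orderOf x) := by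
  rw [← Nat.not_even_iff_odd]
  rintro ⟨k, hk⟩
  have hp := orderOf_pos x
  refine h k ⟨pow_ne_one_of_lt_orderOf (by omega) (by omega), ?_⟩
  rw [← pow_add, ← hk, pow_orderOf_eq_one]

omit [Finite X] in
theorem fixes (h : PG pt B β) {j : J} {d : X} (hd : d ∈ B j) : d • pt j = pt j := by
  rw [← h.pt_smul, mem_stabilizer_iff.1 (h.mn j j rfl hd)]

omit [Finite X] in
theorem nrm {i : J} (h : PG pt B β) {x : X} (hx : x • i = i) : x ∈ nor (B i) :=
  cj_eq_self_iff.1 (by rw [← h.B_smul, hx])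

omit [Finite X] in
theorem not_triv (h : PG pt B β) {j : J} {d : X} (hd : d ∈ B j) (hi : GC.Inv d) : ¬ Triv Ω d := by
  intro ht
  obtain ⟨a, b, hab⟩ := h.two
  exact hab ((h.fix j d hd hi a (ht a)).trans (h.fix j d hd hi b (ht b)).symm)

theorem f1 (h : PG pt B β) {i j : J} (hij : i ≠ j) (e : pt i = pt j) {x y : X} (hx : x ∈ B i)
    (hy : y ∈ B j) {P : Subgroup X} (hP : IsPGroup 2 P) (hxP : x ∈ P) (hyP : y ∈ P) :
    x * y = y * x := by
  have m1 : x * y * x⁻¹ * y⁻¹ ∈ B j :=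
    mul_mem (conj_mem_of_mem_normalizer (nrm h (h.mn i j e hx)) hy) (inv_mem hy)
  have m2 : x * y * x⁻¹ * y⁻¹ ∈ B i := by
    have := mul_mem hx (conj_mem_of_mem_normalizer (nrm h (h.mn j i e.symm hy)) (inv_mem hx))
    simpa only [mul_assoc] using this
  have m3 : x * y * x⁻¹ * y⁻¹ ∈ P := mul_mem (mul_mem (mul_mem hxP hyP) (inv_mem hxP)) (inv_mem hyP)
  have ho := odd_of_ni fun k => h.ti i j hij _ (pow_mem (mem_inf.2 ⟨m2, m1⟩) k)
  obtain ⟨k, hk⟩ := hP ⟨_, m3⟩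
  have hk' : (x * y * x⁻¹ * y⁻¹) ^ 2 ^ k = 1 := congrArg Subtype.val hk
  have h1 := orderOf_eq_one_iff.1 (((Nat.coprime_two_right.2 ho).pow_right k).eq_one_of_dvd
    (orderOf_dvd_of_pow_eq_one hk'))
  rwa [mul_inv_eq_one, mul_inv_eq_iff_eq_mul] at h1

omit [Finite X] in
theorem zz_conj (h : PG pt B β) {j : J} {z : X} (hb : Big β (cen1 z ⊓ B j)) (g : X) :
    Big β (cen1 (g * z * g⁻¹) ⊓ B (g • j)) := by
  obtain ⟨U, hU, h2, hβ⟩ := hb
  refine ⟨cj g U, fun x hx => mem_inf.2 ⟨mem_cen1.2 ?_, ?_⟩, isPGroup_cj g h2, h.bt.cj U g hβ⟩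
  · have := mem_cen1.1 (hU (mem_cj.1 hx)).1
    calc x * (g * z * g⁻¹) = g * (g⁻¹ * x * g * z) * g⁻¹ := by group
      _ = _ := by rw [this]; group
  · rw [h.B_smul]
    exact mem_cj.2 (hU (mem_cj.1 hx)).2

theorem key (h : PG pt B β) {a b j : J} (ea : pt j = pt a) (eb : pt j = pt b) {y z : X}
    (hy : y ∈ B a) (hz : z ∈ B b) (iy : GC.Inv y) (iz : GC.Inv z) (hc : y * z = z * y)
    {H : Subgroup X} (hH : H ≤ B j) (ny : y ∈ nor H) (nz : z ∈ nor H) (hb : Big β H)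
    (h1 : j = a → H ≤ cen1 y) (h2 : j = b → H ≤ cen1 z) : Big β (cen1 (y * z) ⊓ B j) := by
  have : Fact (Nat.Prime 2) := ⟨Nat.prime_two⟩
  have hE : IsPGroup 2 ↥(zpowers y ⊔ zpowers z) :=
    IsPGroup.to_sup_of_normal_right' iy.isPGroup iz.isPGroup (zpowers_le.2
      (centralizer_le_normalizer _ (mem_centralizer_iff.2 fun g hg => by
        obtain ⟨k, rfl⟩ := hg
        exact (Commute.zpow_left (hc.symm : Commute z y) k).eq)))
  obtain ⟨P, hP, hEP⟩ := exists_isSyl_le hE (le_sup_right : _ ≤ H ⊔ (zpowers y ⊔ zpowers z))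
  have hR : IsSyl 2 (P ⊓ H) H := hP.inf_of_le_normalizer le_sup_left
    (hP.le.trans (sup_le le_normalizer (sup_le (zpowers_le.2 ny) (zpowers_le.2 nz))))
  obtain ⟨U, hU, hU2, hβ⟩ := hb
  obtain ⟨g, -, hg⟩ := hR.exists_cj_le hU2 hU
  refine ⟨cj g U, fun x hx => mem_inf.2 ⟨mem_cen1.2 ?_, hH (hg hx).2⟩, isPGroup_cj g hU2,
    h.bt.cj U g hβ⟩
  have cy : x * y = y * x := by
    by_cases e : j = a
    · exact mem_cen1.1 (h1 e (hg hx).2)
    · exact f1 h e ea (hH (hg hx).2) hy hP.isPGroup (hg hx).1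
        (hEP (mem_sup_left (mem_zpowers y)))
  have cz : x * z = z * x := by
    by_cases e : j = b
    · exact mem_cen1.1 (h2 e (hg hx).2)
    · exact f1 h e eb (hH (hg hx).2) hz hP.isPGroup (hg hx).1
        (hEP (mem_sup_right (mem_zpowers z)))
  rw [← mul_assoc, cy, mul_assoc, cz, mul_assoc]

omit [Finite X] in
theorem nor_cen {x y : X} {K : Subgroup X} (hc : x * y = y * x) (hx : x ∈ nor K) :
    x ∈ nor (cen1 y ⊓ K) :=
  zpowers_le.1 (le_normalizer_inf (zpowers_le.2 (le_normalizer (mem_cen1.2 hc))) (zpowers_le.2 hx))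

theorem prod (h : PG pt B β) (hD : Dlt pt B β) {y z : X} (hy : y ∈ ZZ B β) (hz : z ∈ ZZ B β)
    (h1 : ¬ Triv Ω (y * z)) (h2 : Triv Ω (y * z * (y * z))) : Good Ω (y * z) := by
  obtain ⟨a, ya, iy, by'⟩ := hy
  obtain ⟨b, zb, iz, bz⟩ := hz
  have e : pt b = pt a := by
    refine h.fix a y ya iy _ (h.fix b z zb iz _ ?_)
    have := h2 (pt b)
    rw [mul_smul, mul_smul, mul_smul, fixes h zb] at this
    calc z • y • pt b = (y * y) • z • y • pt b := by rw [iy.2, one_smul]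
      _ = y • pt b := by rw [mul_smul, this]
  have yb : y • b = b := h.mn a b e.symm ya
  have za : z • a = a := h.mn b a e zb
  have zb' : z • b = b := h.mn b b rfl zb
  have wa : y * z * (y * z) ∈ B a := by
    have := mul_mem ya (conj_mem_of_mem_normalizer (nrm h za) ya)
    rw [iz.inv_eq] at this
    simpa only [mul_assoc] using this
  have tp : ∀ k : ℕ, Triv Ω ((y * z * (y * z)) ^ k) := fun k c =>
    (stabilizer X c).pow_mem (h2 c) k
  obtain ⟨k, hk⟩ := odd_of_ni fun k => fun i => not_triv h (pow_mem wa k) i (tp k)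
  have hu : ∀ c : Ω, ((y * z) ^ (2 * k + 1)) • c = (y * z) • c := fun c => by
    rw [pow_succ', pow_mul, pow_two, mul_smul, tp k c]
  have u2 : (y * z) ^ (2 * k + 1) * (y * z) ^ (2 * k + 1) = 1 := by
    rw [← (Commute.refl (y * z)).mul_pow, ← hk, pow_orderOf_eq_one]
  have iv : y * (y * z) ^ k = ((y * z) ^ k)⁻¹ * y := by
    have : y * (y * z) * y⁻¹ = (y * z)⁻¹ := by
      rw [mul_inv_rev, iz.inv_eq, ← mul_assoc, iy.2, one_mul]
    rw [← inv_pow, ← this, conj_pow, inv_mul_cancel_right]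
  set c := ((y * z) ^ k)⁻¹ with hc
  have eu : (y * z) ^ (2 * k + 1) = y * (c * z * c⁻¹) := by
    calc (y * z) ^ (2 * k + 1) = (y * y) * (y * z) ^ k * (y * z) * (y * z) ^ k := by
          rw [iy.2, one_mul, ← pow_succ, ← pow_add]; congr 1; ring
      _ = y * (y * (y * z) ^ k) * (y * z) * (y * z) ^ k := by group
      _ = y * (c * (y * y) * z * (y * z) ^ k) := by rw [iv]; group
      _ = _ := by rw [iy.2, mul_one, hc, inv_inv]
  have cb : c • b = b :=
    (stabilizer X b).inv_mem ((stabilizer X b).pow_mem ((stabilizer X b).mul_mem yb zb') k)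
  have z'b : c * z * c⁻¹ ∈ B b := conj_mem_of_mem_normalizer (nrm h cb) zb
  have iz' := iz.conj c
  have bz' := zz_conj h bz c
  rw [cb] at bz'
  rw [eu] at hu u2
  generalize c * z * c⁻¹ = z' at *
  have hcm : y * z' = z' * y := by
    rw [eq_inv_of_mul_eq_one_left u2, mul_inv_rev, iy.inv_eq, iz'.inv_eq]
  have nt : ¬ Triv Ω (y * z') := fun t => h1 fun c => by rw [← hu, t]
  suffices hg : Good Ω (y * z') from fun p q hp hq => hg p q (by rw [hu, hp]) (by rw [hu, hq])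
  by_cases hab : a = b
  · subst hab
    have iu : GC.Inv (y * z') := ⟨fun e => nt fun c => by rw [e, one_smul], u2⟩
    exact fun p q hp hq => (h.fix a _ (mul_mem ya z'b) iu p hp).trans
      (h.fix a _ (mul_mem ya z'b) iu q hq).symm
  refine hD (y * z') (pt a) (by rw [mul_smul, ← e, fixes h z'b, e, fixes h ya]) nt
    (fun c => by rw [u2, one_smul]) fun j hj => ?_
  have ny : y ∈ nor (B j) := nrm h (h.mn a j hj.symm ya)
  have nz : z' ∈ nor (B j) := nrm h (h.mn b j (e.trans hj.symm) z'b)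
  have : Big β (cen1 (y * z') ⊓ B j) := by
    by_cases ja : j = a
    · subst ja
      exact key h rfl e.symm ya z'b iy iz' hcm inf_le_right (nor_cen rfl ny) (nor_cen hcm.symm nz)
        by' (fun _ => inf_le_left) fun e' => absurd e' hab
    by_cases jb : j = b
    · subst jb
      exact key h e rfl ya z'b iy iz' hcm inf_le_right (nor_cen hcm ny) (nor_cen rfl nz)
        bz' (fun e' => absurd e' ja) fun _ => inf_le_left
    exact key h hj (hj.trans e.symm) ya z'b iy iz' hcm le_rfl ny nz (h.big j)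
      (fun e' => absurd e' ja) fun e' => absurd e' jb
  obtain ⟨U, hU, hU2, hβ⟩ := this
  refine ⟨U, fun x hx => mem_inf.2 ⟨mem_comap.2 (mem_cen1.2 ?_), (hU hx).2⟩, hU2, hβ⟩
  rw [← map_mul, ← map_mul, mem_cen1.1 (hU hx).1]

theorem nonempty (h : PG pt B β) : (ZZ B β).Nonempty := by
  obtain ⟨a, -, -⟩ := h.two
  obtain ⟨j, -⟩ := h.surj a
  obtain ⟨U, hU, h2, hβ⟩ := h.big j
  have : Fact (Nat.Prime 2) := ⟨Nat.prime_two⟩
  have : Nontrivial U := (nontrivial_iff_ne_bot U).2 fun e => h.bt.ne U hβ fun x hx => by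
    rw [e, mem_bot] at hx
    rw [hx, one_mul]
  have := h2.center_nontrivial
  obtain ⟨z, hz⟩ := exists_prime_orderOf_dvd_card' (G := center U) 2
    (((h2.to_subgroup (center U)).nontrivial_iff_card.1 this).elim fun n hn =>
      hn.2 ▸ dvd_pow_self 2 hn.1.ne')
  refine ⟨z.1.1, j, hU z.1.2, inv_iff.2 (by rw [orderOf_coe, orderOf_coe, hz]), U,
    fun x hx => mem_inf.2 ⟨mem_cen1.2 ?_, hU hx⟩, h2, hβ⟩
  exact congrArg Subtype.val (mem_center_iff.1 z.2 ⟨x, hx⟩)

theorem jobZ : JobZ.{u} := by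
  intro X _ _ J Ω _ _ _ _ pt B β h _ hD l hl h1 h2
  have : IsPretransitive X Ω := ⟨h.trans⟩
  refine zd_mod h.two (nonempty h) ?_ ?_ ?_ ?_ hl (not_forall.1 h1) h2
  · rintro z ⟨j, hz, iz, bz⟩ g
    exact ⟨g • j, by rw [h.B_smul]; exact conj_mem_cj hz, iz.conj g, zz_conj h bz g⟩
  · rintro z ⟨j, -, iz, -⟩ b
    rw [iz.2, one_smul]
  · rintro z ⟨j, hz, iz, -⟩
    exact ⟨pt j, fixes h hz, h.fix j z hz iz⟩
  · exact fun y hy z hz e1 e2 => prod h hD hy hz (not_forall.2 e1) e2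

end H27.FeZ
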