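import Cfsg.Agent.H63.KgvSpec

set_option autoImplicit false

namespace H27.KgvPW1

open Polynomial H63.Kgv

variable {F : Type} [Field F]

noncomputable def nn (R : F[X]) : PowerSeries F :=
  -(PowerSeries.X * ((derivative R : F[X]) : PowerSeries F)) * ((R : F[X]) : PowerSeries F)⁻¹

theorem pw_eq (r : ℕ) (f : F[X]) : pw r f = PowerSeries.coeff r (nn f.reverse) := rfl

theorem cc {f : F[X]} (hf : f.Monic) :
    PowerSeries.constantCoeff ((f.reverse : F[X]) : PowerSeries F) = 1 := by
  rw [Polynomial.constantCoeff_coe, coeff_zero_reverse, hf.leadingCoeff]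

theorem inv_c {f : F[X]} (hf : f.Monic) :
    ((f.reverse : F[X]) : PowerSeries F) * ((f.reverse : F[X]) : PowerSeries F)⁻¹ = 1 :=
  PowerSeries.mul_inv_cancel _ (by rw [cc hf]; exact one_ne_zero)

theorem cn (R : F[X]) : PowerSeries.constantCoeff (nn R) = 0 := by simp [nn]

theorem p1 (r : ℕ) (f g : F[X]) (hf : f.Monic) (hg : g.Monic) : pw r (f * g) = pw r f + pw r g := by
  rw [pw_eq, pw_eq, pw_eq, ← map_add]
  congr 1
  have h1 := inv_c hf
  have h2 := inv_c hg
  simp only [nn, reverse_mul_of_domain, derivative_mul, Polynomial.coe_mul, Polynomial.coe_add,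
    PowerSeries.mul_inv_rev]
  linear_combination
    (-(PowerSeries.X * ((derivative f.reverse : F[X]) : PowerSeries F)) *
      ((f.reverse : F[X]) : PowerSeries F)⁻¹) * h2 +
    (-(PowerSeries.X * ((derivative g.reverse : F[X]) : PowerSeries F)) *
      ((g.reverse : F[X]) : PowerSeries F)⁻¹) * h1

theorem pw_one (r : ℕ) : pw r (1 : F[X]) = 0 := by
  have := p1 r (1 : F[X]) 1 monic_one monic_one
  rw [mul_one] at this
  simpa using this

theorem p2 (ψ : AddChar F ℂ) (χ : MulChar F ℂ) (r : ℕ) : Mu (lam ψ χ r) := by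
  refine ⟨by simp [lam, pw_one], fun f g hf hg => ?_⟩
  simp only [lam]
  rw [p1 r f g hf hg, AddChar.map_add_eq_mul, hf.natDegree_mul hg, mul_coeff_zero, pow_add,
    mul_mul_mul_comm ((-1 : F) ^ _), map_mul χ]
  ring

theorem p3 (r : ℕ) (f : F[X]) (c : F) (hr : 0 < r) (hf : f.Monic) (hd : f.natDegree = r) :
    pw r (f + C c) = pw r f - r * c := by
  have hf' : (f + C c).Monic := hf.add_of_left (degree_C_le.trans_lt
    (natDegree_pos_iff_degree_pos.1 (hd ▸ hr)))
  have h1 := inv_c hf
  have h2 := inv_c hf'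
  obtain ⟨s, rfl⟩ : ∃ s, r = s + 1 := ⟨r - 1, by omega⟩
  have key : nn (f + C c).reverse = nn f.reverse - PowerSeries.X ^ (s + 1) *
      ((PowerSeries.C c * nn (f + C c).reverse + PowerSeries.C (((s + 1 : ℕ) : F) * c)) *
        ((f.reverse : F[X]) : PowerSeries F)⁻¹) := by
    simp only [nn]
    generalize (((f + C c).reverse : F[X]) : PowerSeries F)⁻¹ = T at h2 ⊢
    rw [reverse_add_C, hd] at h2 ⊢
    simp only [derivative_add, derivative_mul, derivative_C, derivative_X_pow, zero_mul, zero_add,
      Polynomial.coe_add, Polynomial.coe_mul, Polynomial.coe_C, Polynomial.coe_pow,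
      Polynomial.coe_X, map_mul, Nat.add_sub_cancel] at h2 ⊢
    set D := ((derivative f.reverse : F[X]) : PowerSeries F)
    set R := ((f.reverse : F[X]) : PowerSeries F)
    set n := PowerSeries.C (R := F) (((s + 1 : ℕ) : F))
    set k := PowerSeries.C (R := F) c
    linear_combination (-(PowerSeries.X * (D + k * (n * PowerSeries.X ^ s))) * R⁻¹) * h2 +
      (PowerSeries.X * (D + k * (n * PowerSeries.X ^ s)) * T) * h1
  rw [pw_eq, pw_eq, key, map_sub]
  congr 1
  have := PowerSeries.coeff_X_pow_mul ((PowerSeries.C c * nn (f + C c).reverse +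
    PowerSeries.C (((s + 1 : ℕ) : F) * c)) * ((f.reverse : F[X]) : PowerSeries F)⁻¹) (s + 1) 0
  rw [zero_add] at this
  rw [this, PowerSeries.coeff_zero_eq_constantCoeff_apply, map_mul, PowerSeries.constantCoeff_inv,
    cc hf, map_add, map_mul, cn]
  simp

theorem p4 (f : F[X]) (hf : f.Monic) : pw 1 f = -f.nextCoeff := by
  rw [pw_eq, nn, neg_mul, mul_assoc, map_neg]
  have := PowerSeries.coeff_succ_X_mul 0 (((derivative f.reverse : F[X]) : PowerSeries F) *
    ((f.reverse : F[X]) : PowerSeries F)⁻¹)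
  rw [zero_add] at this
  rw [this, PowerSeries.coeff_zero_eq_constantCoeff_apply, map_mul, PowerSeries.constantCoeff_inv,
    cc hf, Polynomial.constantCoeff_coe, coeff_derivative, zero_add, coeff_one_reverse]
  simp

theorem p5 (r : ℕ) (a : F) (hr : 0 < r) : pw r (X - C a) = a ^ r := by
  have h2 := inv_c (monic_X_sub_C a)
  have e : (X - C a : F[X]).reverse = 1 - C a * X := by
    rw [sub_eq_add_neg, ← C_neg, reverse_add_C, natDegree_X, pow_one, C_neg]
    have : (X : F[X]).reverse = 1 := by
      have := reverse_mul_X (1 : F[X])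
      rw [one_mul] at this
      rw [this, ← C_1, reverse_C]
    rw [this]; ring
  have key : nn (X - C a : F[X]).reverse =
      PowerSeries.X * (PowerSeries.C a * (1 + nn (X - C a : F[X]).reverse)) := by
    simp only [nn]
    generalize (((X - C a : F[X]).reverse : F[X]) : PowerSeries F)⁻¹ = T at h2 ⊢
    rw [e] at h2 ⊢
    simp only [derivative_sub, derivative_mul, derivative_C, derivative_X, derivative_one, zero_mul,
      zero_add, mul_one, zero_sub, Polynomial.coe_sub, Polynomial.coe_neg, Polynomial.coe_mul,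
      Polynomial.coe_C, Polynomial.coe_X, Polynomial.coe_one] at h2 ⊢
    linear_combination (PowerSeries.X * PowerSeries.C a) * h2
  obtain ⟨s, rfl⟩ : ∃ s, r = s + 1 := ⟨r - 1, by omega⟩
  rw [pw_eq]
  clear hr
  induction s with
  | zero =>
    rw [key, PowerSeries.coeff_succ_X_mul, PowerSeries.coeff_zero_eq_constantCoeff_apply, map_mul,
      map_add, cn]
    simp
  | succ s ih =>
    rw [key, PowerSeries.coeff_succ_X_mul, PowerSeries.coeff_C_mul, map_add, ih,
      PowerSeries.coeff_one, if_neg (by omega)]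
    ring

theorem job : JPW1 := fun _ _ => ⟨p1, p2, p3, p4, p5⟩

end H27.KgvPW1
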