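import Cfsg.Agent.H63.KgvSpec
import Cfsg.Agent.H29.GalChar
import Cfsg.Agent.H28.CharBasic

set_option autoImplicit false

namespace H27.KgvVR

open Finset Cfsg ComplexConjugate H63.Kgv

universe u

theorem char_sum {E : Type u} [Group E] [Fintype E] {b : E → ℂ} (hb : IsCharacter E b) {p : ℕ}
    (hc : p.Coprime (Nat.card E)) {a : E → ℂ} (ha : IsCharacter E a) (n : ℕ) :
    IsCharacter E fun y => a y + ∑ i ∈ range n, b (y ^ p ^ (i + 1)) := by
  induction n with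
  | zero => simpa using ha
  | succ n ih =>
    have := H28.Cfsg.IsCharacter.add ih (H29.Cfsg.IsCharacter.comp_pow hb (m := p ^ (n + 1)) (Nat.Coprime.pow_left _ hc))
    convert this using 1
    ext y
    simp [sum_range_succ, add_assoc]

theorem job : JVR.{u} := by
  intro gc pd cn eg nl p _ M K _ _ θ a Hf hs E _ _ hE hnil β hβ hst hm
  classical
  have hp : p.Prime := Fact.out
  obtain ⟨N, rfl⟩ : ∃ N, M = N + 1 := ⟨M - 1, by have := hs.pos; omega⟩
  have hp1 : 1 ≤ p ^ (N + 1) := Nat.one_le_pow _ _ hp.pos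
  have hnd : ¬ p ∣ Nat.card E := fun h => by
    have h1 : p ∣ p ^ (N + 1) - 1 := h.trans hE
    have h2 : p ∣ p ^ (N + 1) := dvd_pow_self p (by omega)
    have h3 : p ∣ p ^ (N + 1) - (p ^ (N + 1) - 1) := Nat.dvd_sub h2 h1
    rw [Nat.sub_sub_self hp1] at h3
    exact hp.one_lt.ne' (Nat.dvd_one.1 h3)
  have hc : p.Coprime (Nat.card E) := (Nat.Prime.coprime_iff_not_dvd hp).2 hnd
  have hy1 : ∀ y : E, y ^ (p ^ (N + 1) - 1) = 1 := fun y => by
    obtain ⟨k, hk⟩ := hE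
    rw [hk, pow_mul, pow_card_eq_one', one_pow]
  have hyM : ∀ y : E, y ^ p ^ (N + 1) = y := fun y => by
    conv_lhs => rw [← Nat.sub_add_cancel hp1, pow_succ, hy1, one_mul]
  obtain ⟨χ, b, hχ, hb, rfl⟩ := hβ
  have h1 := char_sum hb hc hχ N
  have h2 := char_sum hb hc hb N
  set χ₁ : E → ℂ := fun y => χ y + ∑ i ∈ range N, b (y ^ p ^ (i + 1)) with hχ₁
  set χ₂ : E → ℂ := fun y => b y + ∑ i ∈ range N, b (y ^ p ^ (i + 1)) with hχ₂
  have e12 : ∀ y, χ₁ y = (χ - b) y + χ₂ y := fun y => by simp only [hχ₁, hχ₂, Pi.sub_apply]; ring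
  have s2 : ∀ y, χ₂ (y ^ p ^ 1) = χ₂ y := fun y => by
    have e1 := sum_range_succ' (fun i => b (y ^ p ^ (i + 1))) N
    have e2 := sum_range_succ (fun i => b (y ^ p ^ (i + 1))) N
    simp only [hχ₂, ← pow_mul, ← pow_add]
    rw [hyM] at e2
    simp only [zero_add] at e1
    have e3 : ∑ i ∈ range N, b (y ^ p ^ (1 + (i + 1))) = ∑ i ∈ range N, b (y ^ p ^ (i + 1 + 1)) :=
      sum_congr rfl fun i _ => by rw [add_comm 1 (i + 1)]
    rw [e3]
    linear_combination e2 - e1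
  have s1 : ∀ y, χ₁ (y ^ p ^ 1) = χ₁ y := fun y => by
    rw [e12, e12, s2, pow_one, hst]
  have g1 := nl p (N + 1) K θ a Hf hs E hE hnil 1 χ₁ (one_dvd _) h1 s1
  have g2 := nl p (N + 1) K θ a Hf hs E hE hnil 1 χ₂ (one_dvd _) h2 s2
  obtain ⟨eu, ex⟩ := eg K θ E hs.inj
  have em12 : ∀ y x, em θ χ₁ y x = em θ (χ - b) y x + em θ χ₂ y x := fun y x => by
    obtain ⟨m, hm⟩ := hm y
    have k2 := ex χ₂ y h2 (by rw [hs.card]; exact hy1 y)
    rw [eu _ y m hm, eu χ₁ y (fun x => m x + em θ χ₂ y x) fun j => ?_]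
    rw [e12, hm j, k2 j, ← sum_add_distrib]
    exact sum_congr rfl fun x _ => by push_cast; ring
  refine cn gc pd p E _ (gam θ Hf 1 χ₂) hnd (fun t ht y => ?_) g2 (fun y => ?_) ?_
  · exact IsIntegral.prod _ fun x _ => (hs.int t x ht).pow _
  · refine ⟨∑ x : Kˣ, if x = 1 then 0 else 1 * em θ χ₂ y x, fun t ht => ?_⟩
    simp only [gam]
    rw [map_prod, ← prod_mul_distrib, ← prod_pow_eq_pow_sum]
    refine prod_congr rfl fun x _ => ?_
    rw [map_pow, ← mul_pow]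
    split_ifs with hx
    · rw [hx, hs.one t ht]; simp
    · rw [hs.abs t x ht hx]
  · refine (gc p E).1 _ _ g1 fun t _ y => ?_
    simp only [gam]
    rw [← prod_mul_distrib]
    exact prod_congr rfl fun x _ => by rw [em12, mul_add, pow_add]

end H27.KgvVR
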