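/- Tower KU, slot M3: two rank three actions with three common orbits have the same degree. -/
import Cfsg.Agent.H53.KUSpec

set_option autoImplicit false

namespace H27.KU

open MulAction H53.KU

variable {G : Type} [Group G]

/-- The orbits of `K` on `G ⧸ P` are the orbits of `G` on pairs. -/
theorem card_orb (K P : Subgroup G) : Nat.card (orbitRel.Quotient K (G ⧸ P)) =
    Nat.card (orbitRel.Quotient G ((G ⧸ K) × (G ⧸ P))) := by
  let f : orbitRel.Quotient K (G ⧸ P) → orbitRel.Quotient G ((G ⧸ K) × (G ⧸ P)) :=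
    Quotient.map (fun y => (((1 : G) : G ⧸ K), y)) (by
      rintro y y' ⟨k, rfl⟩
      refine ⟨k.1, Prod.ext ?_ rfl⟩
      change ((k.1 * 1 : G) : G ⧸ K) = ((1 : G) : G ⧸ K)
      rw [QuotientGroup.eq]
      simp)
  refine Nat.card_congr (Equiv.ofBijective f ⟨?_, ?_⟩)
  · intro a b
    induction a using Quotient.inductionOn with | h y =>
    induction b using Quotient.inductionOn with | h y' =>
    intro h
    obtain ⟨g, hg⟩ := Quotient.exact h
    have h1 : ((g * 1 : G) : G ⧸ K) = ((1 : G) : G ⧸ K) := congrArg Prod.fst hg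
    rw [QuotientGroup.eq] at h1
    have h2 : g ∈ K := by simpa using h1
    exact Quotient.sound ⟨⟨g, h2⟩, congrArg Prod.snd hg⟩
  · intro a
    induction a using Quotient.inductionOn with | h z =>
    obtain ⟨x, y⟩ := z
    induction x using QuotientGroup.induction_on with | H g =>
    refine ⟨Quotient.mk _ (g⁻¹ • y), Quotient.sound ⟨g⁻¹, Prod.ext ?_ rfl⟩⟩
    change ((g⁻¹ * g : G) : G ⧸ K) = ((1 : G) : G ⧸ K)
    rw [inv_mul_cancel]

/-- The permutation character. -/
noncomputable def fx (K : Subgroup G) (g : G) : ℕ := Nat.card (fixedBy (G ⧸ K) g)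

theorem burn [Fintype G] (K P : Subgroup G) : ∑ g, fx K g * fx P g =
    Nat.card (orbitRel.Quotient K (G ⧸ P)) * Nat.card G := by
  classical
  have := Fintype.ofFinite (G ⧸ K)
  have := Fintype.ofFinite (G ⧸ P)
  have : ∀ g : G, Fintype (fixedBy ((G ⧸ K) × (G ⧸ P)) g) := fun g => Fintype.ofFinite _
  have := Fintype.ofFinite (orbitRel.Quotient G ((G ⧸ K) × (G ⧸ P)))
  rw [card_orb, Nat.card_eq_fintype_card, Nat.card_eq_fintype_card,
    ← sum_card_fixedBy_eq_card_orbits_mul_card_group]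
  refine Finset.sum_congr rfl fun g _ => ?_
  rw [← Nat.card_eq_fintype_card, fx, fx, ← Nat.card_prod]
  exact Nat.card_congr
    ⟨fun z => ⟨(z.1.1, z.2.1), Prod.ext z.1.2 z.2.2⟩,
      fun z => (⟨z.1.1, congrArg Prod.fst z.2⟩, ⟨z.1.2, congrArg Prod.snd z.2⟩),
      fun _ => rfl, fun _ => rfl⟩

theorem fx_one (K : Subgroup G) : fx K 1 = K.index := by
  rw [fx, fixedBy_one_eq_univ, Subgroup.index]
  exact Nat.card_congr (Equiv.Set.univ _)

theorem dc_of {K P : Subgroup G} {a b : G}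
    (h : (Quotient.mk _ (a : G ⧸ P) : orbitRel.Quotient K (G ⧸ P)) = Quotient.mk _ (b : G ⧸ P)) :
    DC K P a b := by
  obtain ⟨k, hk⟩ := Quotient.exact h.symm
  have h1 : ((k.1 * a : G) : G ⧸ P) = b := hk
  rw [QuotientGroup.eq] at h1
  exact ⟨k.1, k.2, _, h1, by group⟩

theorem jobM3 : JobM3 := by
  intro G _ _ K P hK hP a b c hab hac hbc
  classical
  have := Fintype.ofFinite G
  have h3 : 3 ≤ Nat.card (orbitRel.Quotient K (G ⧸ P)) := by
    have := Fintype.ofFinite (orbitRel.Quotient K (G ⧸ P))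
    rw [Nat.card_eq_fintype_card]
    exact Fintype.two_lt_card_iff.2 ⟨_, _, _, fun h => hab (dc_of h), fun h => hac (dc_of h),
      fun h => hbc (dc_of h)⟩
  have h1 := burn K K
  have h2 := burn P P
  have h4 := burn K P
  rw [show Nat.card (orbitRel.Quotient K (G ⧸ K)) = 3 from hK] at h1
  rw [show Nat.card (orbitRel.Quotient P (G ⧸ P)) = 3 from hP] at h2
  have h5 : 3 * Nat.card G ≤ ∑ g, fx K g * fx P g := h4 ▸ Nat.mul_le_mul_right _ h3
  have h6 : ∑ g, ((fx K g : ℤ) - fx P g) ^ 2 ≤ 0 := by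
    have e : ∑ g, ((fx K g : ℤ) - fx P g) ^ 2 = ((∑ g, fx K g * fx K g : ℕ) : ℤ) +
        ((∑ g, fx P g * fx P g : ℕ) : ℤ) - 2 * ((∑ g, fx K g * fx P g : ℕ) : ℤ) := by
      push_cast
      rw [Finset.mul_sum, ← Finset.sum_add_distrib, ← Finset.sum_sub_distrib]
      exact Finset.sum_congr rfl fun g _ => by ring
    rw [e, h1, h2]
    omega
  have h7 : ((fx K 1 : ℤ) - fx P 1) ^ 2 ≤ 0 :=
    (Finset.single_le_sum (f := fun g => ((fx K g : ℤ) - fx P g) ^ 2)
      (fun g _ => sq_nonneg _) (Finset.mem_univ 1)).trans h6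
  have h8 := pow_eq_zero_iff two_ne_zero |>.1 (le_antisymm h7 (sq_nonneg _))
  rw [fx_one, fx_one] at h8
  omega

end H27.KU
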