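import Cfsg.Agent.H14.NFSpec
import Cfsg.Agent.H18.PSolv
import Cfsg.Agent.H2.Fitting

/-! NF-LEN: Fitting height and `p`-length of the fixed points of a Frobenius complement. -/

set_option autoImplicit false

namespace H27.NFL

open Subgroup Cfsg H98 H26.FP H14.NF H18 SemidirectProduct

universe u v

theorem up_ker {X Y : Type*} [Group X] [Group Y] [Finite X] (π : Set ℕ) (φ : X →* Y) :
    up π φ.ker = (piCoreOf π φ.range).comap φ := by
  have : Finite φ.range := Finite.of_surjective _ φ.rangeRestrict_surjective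
  rw [up_congr (M := (⊥ : Subgroup φ.range).comap φ.rangeRestrict) (by
    rw [MonoidHom.comap_bot, MonoidHom.ker_rangeRestrict]),
    up_comap π _ φ.rangeRestrict_surjective, up_bot]
  ext x
  exact (mem_map_iff_mem (K := piCore π φ.range) (x := φ.rangeRestrict x)
    φ.range.subtype_injective).symm

/-- The upper Fitting series. -/
def fs (X : Type*) [Group X] : ℕ → {N : Subgroup X // N.Normal}
  | 0 => ⟨⊥, inferInstance⟩
  | n + 1 => haveI := (fs X n).2
    ⟨(fittingSubgroup (X ⧸ (fs X n).1)).comap (QuotientGroup.mk' _), inferInstance⟩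

instance (X : Type*) [Group X] (n : ℕ) : (fs X n).1.Normal := (fs X n).2

section
variable {X Y : Type*} [Group X] [Group Y] [Finite X]

theorem fs_succ (n : ℕ) : (fs X (n + 1)).1 = ⨆ p : Nat.Primes, up {(p : ℕ)} (fs X n).1 := by
  have e : (⨆ p : Nat.Primes, up {(p : ℕ)} (fs X n).1).map (QuotientGroup.mk' (fs X n).1) =
      fittingSubgroup (X ⧸ (fs X n).1) := by
    rw [Subgroup.map_iSup, H2.fitting_eq_iSup_pCore]
    exact iSup_congr fun p => by
      have : Fact (p : ℕ).Prime := ⟨p.2⟩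
      rw [map_up, pCore_eq_piCore]
  change (fittingSubgroup _).comap _ = _
  rw [← e, comap_map_eq_self]
  rw [QuotientGroup.ker_mk']
  exact le_iSup_of_le ⟨2, Nat.prime_two⟩ (le_up_self _ _)

theorem fs_le_comap (f : X →* Y) (hf : Function.Surjective f) (n : ℕ) :
    (fs X n).1 ≤ (fs Y n).1.comap f := by
  have : Finite Y := Finite.of_surjective f hf
  induction n with
  | zero => exact bot_le
  | succ n ih =>
    rw [fs_succ, fs_succ]
    exact iSup_le fun p => (up_le_comap _ f hf ih).trans (comap_mono (le_iSup_of_le p le_rfl))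

/-- A nilpotent series of length `n`. -/
def Ch (X : Type*) [Group X] (n : ℕ) : Prop :=
  ∃ F : Fin (n + 1) → Subgroup X, F 0 = ⊥ ∧ F (Fin.last n) = ⊤ ∧ Monotone F ∧ (∀ i, (F i).Normal) ∧
    ∀ i : Fin n, ∃ k : ℕ, (F i.succ).lowerCentralSeries k ≤ F i.castSucc

omit [Finite X] in
theorem lcs_iff (K N : Subgroup X) [N.Normal] : (∃ k : ℕ, K.lowerCentralSeries k ≤ N) ↔
    Group.IsNilpotent (K.map (QuotientGroup.mk' N)) := by
  simp only [isNilpotent_iff_lowerCentralSeries, ← map_lowerCentralSeries, Subgroup.map_eq_bot_iff,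
    QuotientGroup.ker_mk']

theorem ch_iff {n : ℕ} : Ch X n ↔ (fs X n).1 = ⊤ := by
  refine ⟨fun ⟨F, h0, h1, _, h3, h4⟩ => ?_, fun h => ⟨fun i => (fs X i).1, rfl, h,
    Fin.monotone_iff_le_succ.2 fun i => ?_, fun i => inferInstance, fun i => ?_⟩⟩
  · have : ∀ i : Fin (n + 1), F i ≤ (fs X i).1 := fun i => by
      induction i using Fin.induction with
      | zero => exact h0.le.trans bot_le
      | succ i ih =>
        obtain ⟨k, e⟩ := h4 i
        have := (lcs_iff _ (fs X i).1).1 ⟨k, e.trans ih⟩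
        have := (h3 i.succ).map _ (QuotientGroup.mk'_surjective (fs X i).1)
        exact map_le_iff_le_comap.1 (H2.le_fitting _)
    exact top_le_iff.1 (h1.ge.trans (this (Fin.last n)))
  · rw [Fin.val_succ, fs_succ]
    exact le_iSup_of_le ⟨2, Nat.prime_two⟩ (le_up_self _ _)
  · refine (lcs_iff _ (fs X i).1).2 ?_
    change Group.IsNilpotent (map _ (comap _ _))
    rw [map_comap_eq_self_of_surjective (QuotientGroup.mk'_surjective _)]
    infer_instance

omit [Finite X] in
theorem Ch.sub {n : ℕ} (h : Ch X n) (C : Subgroup X) : Ch C n := by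
  obtain ⟨F, h0, h1, h2, h3, h4⟩ := h
  refine ⟨fun i => (F i).subgroupOf C, by simp [h0], by simp [h1], fun i j l => comap_mono (h2 l),
    fun i => (h3 i).subgroupOf C, fun i => (h4 i).imp fun k e => map_le_iff_le_comap.1 ?_⟩
  rw [map_lowerCentralSeries]
  exact (lowerCentralSeries_mono k (map_comap_le _ _)).trans e

end

section
variable {G : Type u} {A : Type v} [Group G] [Finite G] [Group A] [Finite A]
  [MulDistribMulAction A G] {Fk Hc : Subgroup A} {C : Subgroup G}
  (fr : Fr ((⊤ : Subgroup G).map (inl : G →* SD G A)) (Fk.map inr) (Hc.map inr))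
  (hC : ∀ g : G, g ∈ C ↔ ∀ h ∈ Hc, h • g = g)
include fr hC

theorem eq_top_of_le (card : JobCard.{max u v}) {K : Subgroup G}
    (k : ∀ (a : A), ∀ x ∈ K, a • x ∈ K) (l : C ≤ K) : K = ⊤ := by
  have a := card _ _ _ _ fr
  have b := card _ _ _ _ (fr.mono (map_mono (le_top : K ≤ ⊤)) (sd_nor.2 fun a _ => k a)
    (sd_nor.2 fun a _ => k a))
  rw [sd_fix hC] at a b
  rw [inf_eq_right.2 l, ← top_inf_eq C, ← a, card_map_of_injective inl_injective,
    card_map_of_injective inl_injective, card_top] at b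
  exact eq_top_of_card_eq _ b

theorem up_le (h1 : JobH1.{max u v}) (core : JobCore.{max u v}) (π : Set ℕ) {N : Subgroup G}
    [N.Normal] (k : ∀ (a : A), ∀ x ∈ N, a • x ∈ N) {N' : Subgroup C} [N'.Normal]
    (l : N' ≤ N.comap C.subtype) : up π N' ≤ (up π N).comap C.subtype := by
  have : (N.map (inl : G →* SD G A)).Normal := ⟨by
    rintro _ ⟨x, hx, rfl⟩ g
    rw [← inl_left_mul_inr_right g, mul_inv_rev, ← mul_assoc, mul_assoc (inl _), mul_assoc (inl _),
      sd_conj, ← map_inv, ← map_mul, ← map_mul]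
    exact mem_map_of_mem _ (Normal.conj_mem ‹_› _ (k _ x hx) _)⟩
  let f := QuotientGroup.mk' (N.map (inl : G →* SD G A))
  have kf : (f.comp inl).ker = N := by
    rw [← MonoidHom.comap_ker, QuotientGroup.ker_mk', comap_map_eq_self_of_injective inl_injective]
  have c := core _ _ _ _ π (fr.map f (by
    rw [QuotientGroup.ker_mk']; exact inf_le_left.trans (map_mono le_top)))
  have e : ((⊤ : Subgroup G).map inl).map f ⊓ C[(Hc.map inr).map f] =
      ((f.comp inl).comp C.subtype).range := by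
    refine le_antisymm ?_ ?_
    · rintro _ ⟨⟨_, ⟨g, -, rfl⟩, rfl⟩, h⟩
      obtain ⟨_, ⟨n, hn, rfl⟩, e⟩ := h1 _ _ _ _ (inl g) (fr.mono (map_mono (le_top : N ≤ ⊤))
        (sd_nor.2 fun a _ => k a) (sd_nor.2 fun a _ => k a)) fun y hy => by
          rw [← QuotientGroup.eq_one_iff]
          change f _ = 1
          rw [map_mul, map_mul, map_mul, ← h _ (mem_map_of_mem f hy)]; simp
      rw [← map_mul] at e
      refine ⟨⟨n * g, (hC _).2 (sd_cent.1 e)⟩, ?_⟩
      change (f.comp inl) (n * g) = (f.comp inl) g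
      rw [map_mul, (kf.ge hn : (f.comp inl) n = 1), one_mul]
    · rintro _ ⟨x, rfl⟩
      refine ⟨⟨_, ⟨x, trivial, rfl⟩, rfl⟩, ?_⟩
      rintro _ ⟨y, hy, rfl⟩
      change f y * f (inl x) = f (inl x) * f y
      rw [← map_mul, ← map_mul, sd_cent.2 ((hC _).1 x.2) y hy]
  rw [e, map_map, ← MonoidHom.range_eq_map] at c
  refine (up_mono π (N' := ((f.comp inl).comp C.subtype).ker) (by
    rwa [← MonoidHom.comap_ker, kf])).trans ?_
  rw [up_ker, up_congr kf.symm, up_ker, comap_comap]
  exact comap_mono c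

end

variable {G : Type u} {A : Type v} [Group G] [Finite G] [Group A] [Finite A]
  [MulDistribMulAction A G]

theorem row4391 (thm : H14.NF.Thm.{max u v}) (h1 : JobH1.{max u v}) (card : JobCard.{max u v})
    (core : JobCore.{max u v}) (Fk Hc : Subgroup A) [Fk.Normal] (hHc : IsFrobeniusComplement Hc)
    (hker : frobeniusKernel Hc = (Fk : Set A)) (hCF : ∀ g : G, (∀ f ∈ Fk, f • g = g) → g = 1)
    (C : Subgroup G) (hC : ∀ g : G, g ∈ C ↔ ∀ h ∈ Hc, h • g = g) (p : ℕ) [Fact p.Prime] (k : ℕ) :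
    PLengthLE p k G ↔ PLengthLE p k C := by
  have fr := sd_fr (thm _) hHc hker (K := (⊤ : Subgroup G)) (fun _ _ _ => trivial) fun g _ => hCF g
  have inv : ∀ n (a : A), ∀ x ∈ ups p G n, a • x ∈ ups p G n := fun n a =>
    ups_le_comap_of_surjective (MulDistribMulAction.toMonoidHom G a) (MulAction.surjective a) n
  have : ∀ n, ups p C n ≤ (ups p G n).comap C.subtype := fun n => by
    induction n with
    | zero => exact bot_le
    | succ n ih => rw [ups_succ, ups_succ]; exact up_le fr hC h1 core _ (inv n) ih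
  refine ⟨fun h => top_le_iff.1 (le_trans ?_ (comap_ups_le_of_injective C.subtype
    C.subtype_injective _)), fun h => eq_top_of_le fr hC card (inv _) fun x hx => ?_⟩
  · exact fun x _ => h.ge trivial
  · exact this _ (h.ge trivial : (⟨x, hx⟩ : C) ∈ _)

theorem row4362 (thm : H14.NF.Thm.{max u v}) (h1 : JobH1.{max u v}) (card : JobCard.{max u v})
    (core : JobCore.{max u v}) (Fk Hc : Subgroup A) [Fk.Normal] (hHc : IsFrobeniusComplement Hc)
    (hker : frobeniusKernel Hc = (Fk : Set A)) (hCF : ∀ g : G, (∀ f ∈ Fk, f • g = g) → g = 1)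
    (C : Subgroup G) (hC : ∀ g : G, g ∈ C ↔ ∀ h ∈ Hc, h • g = g) (n : ℕ) : Ch G n ↔ Ch C n := by
  have fr := sd_fr (thm _) hHc hker (K := (⊤ : Subgroup G)) (fun _ _ _ => trivial) fun g _ => hCF g
  have inv : ∀ n (a : A), ∀ x ∈ (fs G n).1, a • x ∈ (fs G n).1 := fun n a =>
    fs_le_comap (MulDistribMulAction.toMonoidHom G a) (MulAction.surjective a) n
  have : ∀ n, (fs C n).1 ≤ (fs G n).1.comap C.subtype := fun n => by
    induction n with
    | zero => exact bot_le
    | succ n ih =>
      rw [fs_succ, fs_succ]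
      exact iSup_le fun p => (up_le fr hC h1 core _ (inv n) ih).trans
        (comap_mono (le_iSup_of_le p le_rfl))
  exact ⟨fun h => h.sub C, fun h => ch_iff.2 (eq_top_of_le fr hC card (inv _) fun x hx =>
    this _ ((ch_iff.1 h).ge trivial : (⟨x, hx⟩ : C) ∈ _))⟩

end H27.NFL
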