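import Cfsg.Agent.H54.NFSpec
import Cfsg.Agent.H3.DSQ

/-! Tower NF (S1308): a non-full edge with `T` of order 2 has dihedral `R`. -/

set_option autoImplicit false

namespace H27.NfC2

open Cfsg Subgroup MulAction H14 H98 H1.Gold H31.S2 H14.GC H14.FE H54.NF

universe u

variable {G : Type u} [Group G]

theorem zp2 {x y : G} (hx : x * x = 1) (hy : y ∈ zpowers x) : y = 1 ∨ y = x := by
  obtain ⟨k, rfl⟩ := mem_zpowers_iff.1 hy
  have h2 : x ^ (2 : ℤ) = 1 := by rw [zpow_two, hx]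
  rcases Int.even_or_odd' k with ⟨j, rfl | rfl⟩
  · left; rw [zpow_mul, h2, one_zpow]
  · right; rw [zpow_add, zpow_mul, h2, one_zpow, one_mul, zpow_one]

theorem dh_of {m : ℕ} {a b : G} (h : H3.DSQ m a b) {R : Subgroup G} (hR : R.index = 2)
    {s t : G} (hs : s ∈ R) (ht : t ∈ R) (s1 : s ≠ 1) (s2 : s * s = 1) (t1 : t ≠ 1)
    (t2 : t * t = 1) (hst : s ≠ t) : Dh R (a ^ 2) := by
  have uq : ∀ x ∈ zpowers a, x ≠ 1 → x * x = 1 → x = a ^ 2 ^ m := fun x hx x1 x2 =>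
    ((zp2 x2 (h.z_mem_zpowers hx x1)).resolve_left h.z_ne_one).symm
  obtain ⟨x0, h0, n0, q0⟩ : ∃ x0 ∈ R, x0 ∉ zpowers a ∧ x0 * x0 = 1 := by
    by_cases c1 : s ∈ zpowers a
    · exact ⟨t, ht, fun c2 => hst ((uq s c1 s1 s2).trans (uq t c2 t1 t2).symm), t2⟩
    · exact ⟨s, hs, c1, s2⟩
  have aR : a ∉ R := fun ha => by
    have hle : zpowers a ≤ R := zpowers_le.2 ha
    have : R = ⊤ := eq_top_iff.2 fun g _ => by
      by_cases c : g ∈ zpowers a
      · exact hle c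
      · exact (R.mul_mem_cancel_right h0).1 (hle (h.mul_mem_of_notMem c n0))
    rw [this, index_top] at hR
    omega
  have a2 : a ^ 2 ∈ R := sq_mem_of_index_two hR a
  have key : ∀ y ∈ R, y ∈ zpowers (a ^ 2) ↔ y ∈ zpowers a := by
    intro y hy
    refine ⟨fun c => (zpowers_le.2 (pow_mem (mem_zpowers a) 2)) c, fun c => ?_⟩
    obtain ⟨k, rfl⟩ := mem_zpowers_iff.1 c
    have e : ∀ j : ℤ, a ^ (2 * j) = (a ^ 2) ^ j := fun j => by
      rw [zpow_mul, zpow_two, pow_two]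
    rcases Int.even_or_odd' k with ⟨j, rfl | rfl⟩
    · rw [e]; exact zpow_mem_zpowers _ _
    · rw [zpow_add, e, zpow_one] at hy
      exact absurd ((R.mul_mem_cancel_left (zpow_mem a2 j)).1 hy) aR
  refine ⟨a2, fun e => ?_, ?_, fun x hx nx => ?_⟩
  · have := h.orderOf_sq
    rw [e, orderOf_one] at this
    have h1 := h.one_le
    have : 2 ^ 1 ≤ 2 ^ m := Nat.pow_le_pow_right two_pos h1
    omega
  · refine relIndex_eq_two_iff.2 ⟨x0, h0, fun y hy => ?_⟩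
    rw [key _ (mul_mem hy h0), key _ hy, mul_mem_iff_of_index_two h.index]
    by_cases c : y ∈ zpowers a <;> simp [c, n0]
  · rw [key _ hx] at nx
    obtain ⟨k, hk⟩ := mem_zpowers_iff.1
      ((key _ (mul_mem hx h0)).2 (h.mul_mem_of_notMem nx n0))
    have e1 : x0 * (a ^ 2) ^ k * x0⁻¹ = ((a ^ 2) ^ k)⁻¹ := by
      rw [← conj_zpow, h.conj_sq n0, inv_zpow]
    have e2 : x = (a ^ 2) ^ k * x0 := by rw [hk, mul_assoc, q0, mul_one]
    rw [e2]
    calc (a ^ 2) ^ k * x0 * ((a ^ 2) ^ k * x0)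
        = (a ^ 2) ^ k * (x0 * (a ^ 2) ^ k * x0⁻¹) * (x0 * x0) := by group
      _ = 1 := by rw [e1, q0]; group

theorem jobX : H54.NF.JobC2.{u} := by
  intro G _ _ Q T R h hT hF
  obtain ⟨⟨t, ht⟩, t1, tu⟩ := (Nat.card_eq_two_iff' (1 : T)).1 hT
  have t1' : t ≠ 1 := fun e => t1 (Subtype.ext e)
  have hm : ∀ s ∈ T, s = 1 ∨ s = t := fun s hs => by
    by_cases c : s = 1
    · exact Or.inl c
    · exact Or.inr (congrArg Subtype.val (tu ⟨s, hs⟩ fun e => c (congrArg Subtype.val e)))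
  have t2 : t * t = 1 := (hm _ (mul_mem ht ht)).resolve_right fun e => t1' (by simpa using e)
  have tR : t ∉ R := fun c => t1' (h.dis t ht (h.sylR.le c))
  have xr : ∀ x ∈ R ⊔ T, Xor (x * t ∈ R) (x ∈ R) := by
    intro x hx
    obtain ⟨r, hr, s, hs, rfl⟩ := (mem_sup_right_norm h.norR).1 hx
    rcases hm s hs with rfl | rfl
    · rw [mul_one]
      exact Or.inr ⟨hr, fun c => tR ((R.mul_mem_cancel_left hr).1 c)⟩
    · refine Or.inl ⟨by rwa [mul_assoc, t2, mul_one], fun c => tR ((R.mul_mem_cancel_left hr).1 c)⟩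
  have tS : t ∈ R ⊔ T := mem_sup_right ht
  have idx : (R.subgroupOf (R ⊔ T)).index = 2 := relIndex_eq_two_iff.2 ⟨t, tS, xr⟩
  have p2 : IsPGroup 2 ↥(R ⊔ T) := by
    rw [sup_comm]; exact IsPGroup.to_sup_of_normal_right' h.two h.sylR.isPGroup h.norR
  have ct : cen T = cen1 t := by
    refine le_antisymm (centralizer_le (by simpa using ht)) fun x hx => ?_
    rw [mem_centralizer_iff]
    intro s hs
    rcases hm s hs with rfl | rfl
    · simp
    · exact (mem_centralizer_singleton_iff.1 hx).symm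
  have nab : ¬ IsMulCommutative ↥(R ⊔ T) := fun c => h.lt fun r hr => by
    rw [ct, mem_centralizer_singleton_iff]
    exact congrArg Subtype.val (c.is_comm.comm ⟨r, mem_sup_left hr⟩ ⟨t, tS⟩)
  have c2 : Nat.card ↥(R ⊓ cen1 t) = 2 := by
    obtain ⟨e⟩ := h.iso
    rw [← ct, Nat.card_congr e.toEquiv, hT]
  have tt : t ∈ cen1 t := mem_centralizer_singleton_iff.2 rfl
  have hle : R ⊓ cen1 t ≤ (R ⊔ T) ⊓ cen1 t := inf_le_inf_right _ le_sup_left
  have c4 : Nat.card ↥((R ⊔ T) ⊓ cen1 t) = 4 := by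
    have i2 : (R ⊓ cen1 t).relIndex ((R ⊔ T) ⊓ cen1 t) = 2 := by
      refine relIndex_eq_two_iff.2 ⟨t, ⟨tS, tt⟩, fun y hy => ?_⟩
      have := xr y hy.1
      have y1 : y ∈ cen1 t := hy.2
      have y2 : y * t ∈ cen1 t := mul_mem y1 tt
      rw [mem_inf, mem_inf, and_iff_left y1, and_iff_left y2]
      exact this
    have := ((R ⊓ cen1 t).subgroupOf ((R ⊔ T) ⊓ cen1 t)).card_mul_index
    rw [Nat.card_congr (subgroupOfEquivOfLe hle).toEquiv, c2] at this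
    rw [← this]
    change 2 * (R ⊓ cen1 t).relIndex ((R ⊔ T) ⊓ cen1 t) = 4
    rw [i2]
  have c4' : Nat.card (centralizer ({⟨t, tS⟩} : Set ↥(R ⊔ T))) = 4 := by
    have e : centralizer ({⟨t, tS⟩} : Set ↥(R ⊔ T)) = ((R ⊔ T) ⊓ cen1 t).subgroupOf (R ⊔ T) := by
      ext y
      rw [mem_centralizer_singleton_iff, mem_subgroupOf, mem_inf, mem_centralizer_singleton_iff,
        Subtype.ext_iff]
      simp
    rw [e, Nat.card_congr (subgroupOfEquivOfLe inf_le_left).toEquiv, c4]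
  obtain ⟨m, a, b, hd⟩ := H3.exists_dsq_of_card_centralizer p2 nab c4'
  obtain ⟨s, hs, s', hs', i1, i2, ne, -⟩ := hF
  have d := dh_of hd idx (s := ⟨s, mem_sup_left hs⟩) (t := ⟨s', mem_sup_left hs'⟩) hs hs'
    (fun e => i1.1 (congrArg Subtype.val e)) (Subtype.ext i1.2)
    (fun e => i2.1 (congrArg Subtype.val e)) (Subtype.ext i2.2)
    (fun e => ne (congrArg Subtype.val e))
  have zp : ∀ y : ↥(R ⊔ T), (y : G) ∈ zpowers ((a ^ 2 : ↥(R ⊔ T)) : G) ↔ y ∈ zpowers (a ^ 2) := by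
    intro y
    constructor
    · rintro ⟨k, hk⟩
      exact ⟨k, Subtype.ext (by simpa using hk)⟩
    · rintro ⟨k, rfl⟩
      exact ⟨k, by simp⟩
  refine ⟨((a ^ 2 : ↥(R ⊔ T)) : G), mem_subgroupOf.1 d.mem, fun e => d.ne (Subtype.ext e), ?_, fun x hx nx => ?_⟩
  · obtain ⟨x0, h0, hx⟩ := relIndex_eq_two_iff.1 d.idx
    refine relIndex_eq_two_iff.2 ⟨x0, h0, fun y hy => ?_⟩
    have := hx ⟨y, mem_sup_left hy⟩ hy
    rwa [← zp, ← zp] at this
  · exact congrArg Subtype.val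
      (d.inv ⟨x, mem_sup_left hx⟩ hx fun c => nx ((zp ⟨x, mem_sup_left hx⟩).2 c))

end H27.NfC2
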