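/- S3275, chapter U2I, slot F0: a fixed point free element of order 3. -/
import Cfsg.Agent.H96.U2ISpec
import Cfsg.Agent.S3779

set_option autoImplicit false

namespace H27.U2F0

open Subgroup H48.DP H96.U2I
open scoped commutatorElement

universe u

/-- The polarised identity in a group of class at most two. -/
theorem polar {H : Type u} [Group H] (α : MulAut H) (h3 : ∀ a, α (α (α a)) = a)
    (hc : ∀ a b c : H, Commute ⁅a, b⁆ c) (h1 : ∀ a, ⁅a, α a⁆ = 1) (a b : H) :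
    ⁅a, α b⁆ = α (α ⁅a, b⁆) := by
  have l : ∀ a b c : H, ⁅a * b, c⁆ = ⁅b, c⁆ * ⁅a, c⁆ := fun a b c => by
    calc ⁅a * b, c⁆ = a * ⁅b, c⁆ * a⁻¹ * ⁅a, c⁆ := by
          simp only [commutatorElement_def]; group
      _ = _ := by rw [← (hc b c a).eq, mul_inv_cancel_right]
  have r : ∀ a b c : H, ⁅a, b * c⁆ = ⁅a, b⁆ * ⁅a, c⁆ := fun a b c => by
    calc ⁅a, b * c⁆ = ⁅a, b⁆ * (b * ⁅a, c⁆ * b⁻¹) := by
          simp only [commutatorElement_def]; group
      _ = _ := by rw [← (hc a c b).eq, mul_inv_cancel_right]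
  have p : ∀ a b : H, ⁅α a, b⁆ = ⁅a, α b⁆ := fun a b => by
    have := h1 (a * b)
    rw [map_mul, l, r, r, h1, h1, mul_one, one_mul, mul_eq_one_iff_inv_eq,
      commutatorElement_inv] at this
    exact this
  have q : ∀ a b : H, α ⁅a, b⁆ = ⁅a, α (α b)⁆ := fun a b => by
    rw [map_commutatorElement, p]
  rw [q, q, h3]

variable {G : Type u} [Group G] [Finite G] {R : Subgroup G}

theorem surj {s : G} (hs : s ∈ No R) (hf : ∀ w ∈ R, Commute s w → w = 1) :
    ∀ a ∈ R, ∃ w ∈ R, a = ⁅s, w⁆ := by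
  let f : R → R := fun w => ⟨⁅s, (w : G)⁆,
    mul_mem ((mem_normalizer_iff.1 hs w).1 w.2) (inv_mem w.2)⟩
  have hi : Function.Injective f := fun w v e => by
    have e' : s * w * s⁻¹ * (w : G)⁻¹ = s * v * s⁻¹ * (v : G)⁻¹ := congrArg Subtype.val e
    have := hf ((w : G)⁻¹ * v) (mul_mem (inv_mem w.2) v.2) (by
      show s * _ = _ * s
      calc s * ((w : G)⁻¹ * v)
          = (w : G)⁻¹ * (s * w * s⁻¹ * (w : G)⁻¹)⁻¹ * (s * v) := by group
        _ = _ := by rw [e']; group)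
    exact Subtype.ext (inv_mul_eq_one.1 this)
  intro a ha
  obtain ⟨w, hw⟩ := Finite.surjective_of_injective hi ⟨a, ha⟩
  exact ⟨w, w.2, (congrArg Subtype.val hw).symm⟩

theorem conj {s : G} (hs : s ∈ No R) (hf : ∀ w ∈ R, Commute s w → w = 1) {r : G} (hr : r ∈ R) :
    ∃ w ∈ R, r * s = w * s * w⁻¹ := by
  obtain ⟨w, hw, e⟩ := surj hs hf r⁻¹ (inv_mem hr)
  refine ⟨w, hw, ?_⟩
  rw [← inv_inv r, e, commutatorElement_def]
  group

theorem cube {s : G} (hs : s ∈ No R) (hf : ∀ w ∈ R, Commute s w → w = 1) (h3 : s ^ 3 = 1)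
    {r : G} (hr : r ∈ R) : r * (s * r * s⁻¹) * (s⁻¹ * r * s) = 1 := by
  obtain ⟨w, -, e⟩ := conj hs hf hr
  have e3 : (r * s) ^ 3 = 1 := by rw [e, conj_pow, h3]; group
  calc r * (s * r * s⁻¹) * (s⁻¹ * r * s) = r * s * r * (s ^ 3)⁻¹ * s * r * s := by group
    _ = (r * s) ^ 3 := by rw [h3, pow_succ, pow_succ, pow_one]; group
    _ = 1 := e3

theorem jobF0 : F0.{u} := by
  intro G _ _ R y _ hy hn hb
  have h3 : y ^ 3 = 1 := hy ▸ pow_orderOf_eq_one y
  have hf : ∀ w ∈ R, Commute y w → w = 1 := fun w hw hc =>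
    mem_bot.1 (hb ▸ mem_inf.2 ⟨hw, mem_centralizer_singleton_iff.2 hc.eq.symm⟩)
  have hfp : ∀ r ∈ R, ∀ w ∈ R, Commute (r * y) w → w = 1 := by
    intro r hr w hw hc
    obtain ⟨v, hv, e⟩ := conj hn hf hr
    have := hf (v⁻¹ * w * v) (mul_mem (mul_mem (inv_mem hv) hw) hv) (by
      show y * _ = _ * y
      calc y * (v⁻¹ * w * v) = v⁻¹ * (v * y * v⁻¹ * w) * v := by group
        _ = _ := by rw [← e, hc.eq, e]; group)
    calc w = v * (v⁻¹ * w * v) * v⁻¹ := by group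
      _ = 1 := by rw [this]; group
  refine ⟨fun r hr => cube hn hf h3 hr, fun a ha b hb' => ?_, hfp,
    fun r hr => surj (mul_mem (le_normalizer hr) hn) (hfp r hr)⟩
  let α : MulAut R := R.normalizerMonoidHom ⟨y, hn⟩
  have hα : ∀ w : R, (α w : G) = y * w * y⁻¹ := fun _ => rfl
  have yy : ∀ g : G, y * (y * g * y⁻¹) * y⁻¹ = y⁻¹ * g * y := fun g => by
    calc y * (y * g * y⁻¹) * y⁻¹ = y⁻¹ * y ^ 3 * g * (y ^ 3)⁻¹ * y := by
          rw [pow_succ, pow_succ, pow_one]; group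
      _ = _ := by rw [h3]; group
  have a3 : ∀ w : R, α (α (α w)) = w := fun w => Subtype.ext (by
    rw [hα, hα, hα, yy (y * w * y⁻¹)]; group)
  have afp : ∀ w : R, α w = w → w = 1 := fun w e => Subtype.ext (hf w w.2 (by
    have := congrArg Subtype.val e
    rw [hα, mul_inv_eq_iff_eq_mul] at this
    exact this))
  have hc : ∀ a b c : R, Commute ⁅a, b⁆ c := by
    intro a b c
    by_cases h1 : α = 1
    · rw [afp c (by rw [h1]; rfl)]
      exact Commute.one_right _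
    have : Fact (Nat.Prime 3) := ⟨Nat.prime_three⟩
    have ho : orderOf α = 3 := orderOf_eq_prime (by
      ext w
      rw [pow_succ, pow_succ, pow_one, MulAut.mul_apply, MulAut.mul_apply, a3]
      rfl) h1
    have h2 := (Cfsg.Agent.S3779.result Nat.prime_three α ho afp).2.1 rfl
    rw [← commutatorElement_eq_one_iff_commute, ← mem_bot, ← h2]
    exact commutator_mem_commutator (commutator_mem_commutator (mem_top a) (mem_top b)) (mem_top c)
  have h1 : ∀ w : R, ⁅w, α w⁆ = 1 := by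
    intro w
    rw [commutatorElement_eq_one_iff_mul_comm]
    have e1 := cube hn hf h3 w.2
    have e2 := cube (inv_mem hn) (fun w hw hc => hf w hw (Commute.inv_left_iff.1 hc))
      (by rw [inv_pow, h3, inv_one]) w.2
    rw [inv_inv] at e2
    apply Subtype.ext
    show (w : G) * (y * w * y⁻¹) = y * w * y⁻¹ * w
    calc (w : G) * (y * w * y⁻¹) = (y⁻¹ * w * y)⁻¹ := eq_inv_of_mul_eq_one_left e1
      _ = y * w * y⁻¹ * (w * (y⁻¹ * w * y) * (y * w * y⁻¹))⁻¹ * w := by group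
      _ = _ := by rw [e2]; group
  have := congrArg Subtype.val (polar α a3 hc h1 ⟨a, ha⟩ ⟨b, hb'⟩)
  rw [hα, hα, yy] at this
  exact this

end H27.U2F0
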