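import Cfsg.Agent.H27.QF4B2

/-! Job `JF4b` of `blueprints/QU.md`. -/

set_option autoImplicit false
set_option linter.unusedSectionVars false

namespace H27.QF4

open Subgroup Cfsg H98 H96.CG H97.QU
open H52 (zc)
open scoped commutatorElement

universe u

variable {G : Type u} [Group G] [Finite G] {M P K U D D' E X : Subgroup G} {a b c e f g j u w x y z₀ α r d : G} {n : ℕ}

theorem cc_gen (l : L4 P K z₀) (v4 : ∀ F ≤ P ⊓ K, V4 F → F = D ∨ F = D') (h0 : K ⊓ cen1 z₀ ≤ cen1 c)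
    (h : c ∈ cen (K ⊓ nor D)) (h' : c ∈ cen (K ⊓ nor D')) : c ∈ cen K :=
  mc fun x hx => (mem_cen1.1 (l.gen (cen1 c) h0 (fun F hF v t ht => by
    rcases v4 F hF v with rfl | rfl
    exacts [mem_cen1.2 (cm h ht).symm, mem_cen1.2 (cm h' ht).symm]) hx)).symm

theorem v4_of_mem (v : V4 D) (z : z₀ ∈ D) (he : e ∈ D) (v' : V4 (closure {z₀, e})) : closure {z₀, e} = D :=
  eq_of_le_of_card_ge (pair_le.2 ⟨z, he⟩) (by rw [v.2, v'.2])

theorem dih_pr (b : B4 M P K z₀) (l : L4 P K z₀) (t : Dih K (P ⊓ K) z₀ 2 r d) (e9 : E9 K) :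
    Pr P K z₀ (closure {z₀, d * r ^ (0 : ℤ)}) (closure {z₀, d * r ^ (1 : ℤ)}) := by
  have mem : ∀ k l : ℤ, 2 ∣ l - k → d * r ^ l ∈ closure {z₀, d * r ^ k} := fun k l h =>
    t.mem_v4.2 (by simpa using h)
  have nrm : ∀ k : ℤ, P ⊓ K ≤ nor (closure {z₀, d * r ^ k}) := fun k u hu => nor_pair
    (by rw [conj_fix (t.com hu)]; exact mem_pair_left _ _) (by
      obtain ⟨m, rfl | rfl⟩ := t.mem.1 hu
      · rw [t.conj_refl]; exact mem _ _ (by omega)
      · rw [t.conj_refl']; exact mem _ _ (by omega))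
  have u8 : P ⊓ K = closure {z₀, d * r ^ (0 : ℤ)} ⊔ closure {z₀, d * r ^ (1 : ℤ)} :=
    le_antisymm (t.gen'.le.trans (pair_le.2 ⟨mem_sup_left (by simpa using mem_pair_right z₀ d),
      mem_sup_right (by simpa using mem_pair_right z₀ (d * r))⟩)) (sup_le (t.v4_le 0) (t.v4_le 1))
  have v4 : ∀ F ≤ P ⊓ K, V4 F → F = closure {z₀, d * r ^ (0 : ℤ)} ∨ F = closure {z₀, d * r ^ (1 : ℤ)} :=
    fun F hF v => by
      obtain ⟨k, rfl⟩ := t.v4_cases hF v
      rcases Int.emod_two_eq_zero_or_one k with h | h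
      · exact .inl (v4_of_mem (t.v4 0) (mem_pair_left _ _) (mem _ _ (by omega)) v)
      · exact .inr (v4_of_mem (t.v4 1) (mem_pair_left _ _) (mem _ _ (by omega)) v)
  have nsd : ¬ IsSd K (P ⊓ K) z₀ := fun ⟨_, _, s⟩ => by have := s.card; rw [t.card] at this; omega
  exact
    { v := t.v4 0
      v' := t.v4 1
      le := t.v4_le 0
      le' := t.v4_le 1
      ne := fun e => by have := t.not_cj (one_mem _) ((cj_one _).trans e); omega
      inv := fun u hu uu => by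
        rcases t.inv_cases hu uu with rfl | rfl | ⟨k, rfl⟩
        · exact .inl (one_mem _)
        · exact .inl (mem_pair_left _ _)
        · rcases Int.emod_two_eq_zero_or_one k with h | h
          · exact .inl (mem _ _ (by omega))
          · exact .inr (mem _ _ (by omega))
      v4 := v4
      n1 := (t.v4_le 1).trans (nrm 0)
      n2 := (t.v4_le 0).trans (nrm 1)
      nU := fun u hu _ => u8 ▸ hu
      nU' := fun u hu _ => u8 ▸ hu
      e9 := e9
      cc := fun c _ h h' => cc_gen l v4 (fun u hu => mem_cen1.2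
        (cm h (le_inf inf_le_right (nrm 0) (t.cz.le hu))).symm) h h'
      u8 := fun _ => u8
      sd := fun s => (nsd s).elim
      sd' := fun s => (nsd s).elim }

theorem odd_fix (ho : (orderOf x).Coprime 2) (h : x * e * x⁻¹ = f * e) (c : Commute x f) {k : ℕ}
    (hf : f ^ 2 ^ k = 1) : Commute x e := by
  have key : ∀ m : ℕ, x ^ m * e * (x ^ m)⁻¹ = f ^ m * e := fun m => by
    induction m with
    | zero => simp
    | succ m ih => rw [pow_succ', conj_conj, ih, conj_dist, h, conj_fix (c.pow_right m), pow_succ, mul_assoc]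
  have h1 := key (orderOf x)
  rw [pow_orderOf_eq_one, one_mul, inv_one, mul_one, eq_comm, mul_eq_right] at h1
  have h2 : f = 1 := orderOf_eq_one_iff.1 (Nat.eq_one_of_dvd_coprimes (ho.pow_right k)
    (orderOf_dvd_of_pow_eq_one h1) (orderOf_dvd_of_pow_eq_one hf))
  exact comm_of_fix (by rw [h, h2, one_mul])

theorem sd_par (t : Sd K U z₀ r d) {k l : ℤ} (e : x * r ^ k * x⁻¹ = r ^ l) (m : ℤ) : 8 ∣ k * m ↔ 8 ∣ l * m := by
  rw [← t.pow_eq_one, ← t.pow_eq_one, zpow_mul, zpow_mul, ← e, conj_zpow]; simp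

/-- an element centralizing the semidihedral Sylow subgroup centralizes `C_K(z₀)` -/
theorem sd_cen (b : B4 M P K z₀) (t : Sd K (P ⊓ K) z₀ r d) (hc : c ∈ P) (h : c ∈ cen (P ⊓ K)) :
    K ⊓ cen1 z₀ ≤ cen1 c := by
  have s : IsSyl 2 (P ⊓ K) (K ⊓ cen1 z₀) :=
    b.syl.of_le (fun u hu => ⟨hu.2, mem_cen1.2 (t.com hu)⟩) inf_le_left
  rw [← s.sup_res]
  refine sup_le (fun u hu => mem_cen1.2 (cm h hu).symm) (res_le_of_forall fun x hx ho => mem_cen1.2 ?_)
  have QU := s.pCoreOf_le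
  have nQ := self_le_normalizer_pCoreOf (p := 2) (K ⊓ cen1 z₀)
  have ch := b.ch.le
  generalize pCoreOf 2 (K ⊓ cen1 z₀) = Q at QU nQ ch
  have nZ : K ⊓ cen1 z₀ ≤ nor (Q ⊓ cen Q) := le_normalizer_inf nQ (le_normalizer_centralizer nQ)
  have cyc : ∀ e ∈ Q ⊓ cen Q, ∃ k : ℤ, e = r ^ k := fun e he => by
    obtain ⟨k, rfl | rfl⟩ := t.mem.1 (QU he.1)
    · exact ⟨k, rfl⟩
    · have h1 := nj (nQ (s.le (zpow_mem t.rU 1))) he.1
      rw [t.conj_refl] at h1
      have := t.refl_comm.1 (cm he.2 h1)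
      omega
  have r8 : ∀ k : ℤ, (r ^ k) ^ 2 ^ 3 = 1 := fun k => by
    rw [← zpow_natCast, ← zpow_mul, t.pow_eq_one]; exact ⟨k, by push_cast; ring⟩
  have xz : Commute x z₀ := mem_cen1.1 hx.2
  have s1 : ∀ k : ℤ, 2 ∣ k → r ^ k ∈ Q ⊓ cen Q → Commute x (r ^ k) := fun k hk he => by
    obtain ⟨l, e⟩ := cyc _ (nj (nZ hx) he)
    have p1 := sd_par t e 2
    have p2 := sd_par t e 4
    refine odd_fix ho (f := r ^ (l - k)) (by rw [e, ← zpow_add, sub_add_cancel]) ?_ (r8 _)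
    rcases t.pow_z (k := l - k) (by omega) with e1 | e1 <;> rw [e1]
    exacts [Commute.one_right x, xz]
  have s2 : ∀ e ∈ Q ⊓ cen Q, Commute x e := fun e he => by
    obtain ⟨k, rfl⟩ := cyc e he
    have h1 := nj (nZ hx) he
    obtain ⟨l, e⟩ := cyc _ h1
    have p2 := sd_par t e 4
    refine odd_fix ho (f := r ^ (l - k)) (by rw [e, ← zpow_add, sub_add_cancel]) (s1 _ (by omega) ?_) (r8 _)
    rw [zpow_sub, ← e]
    exact mul_mem h1 (inv_mem he)
  have c1 : c ∈ cen Q := centralizer_anti QU h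
  have f1 : x * c * x⁻¹ * c⁻¹ ∈ cen Q := mul_mem (nj (nor_cen (nQ hx)) c1) (inv_mem c1)
  have f2 : x * c * x⁻¹ * c⁻¹ ∈ K ⊓ cen1 z₀ := by
    rw [show x * c * x⁻¹ * c⁻¹ = x * (c * x⁻¹ * c⁻¹) by group]
    refine mul_mem hx (mem_inf.2 ⟨nj (b.nK hc) (K.inv_mem hx.1), mem_cen1.2 ?_⟩)
    exact ((B4.zc' b hc).mul_left xz.inv_left).mul_left (B4.zc' b hc).inv_left
  have f3 : x * c * x⁻¹ * c⁻¹ ∈ Q ⊓ cen Q := ⟨ch ⟨f2, f1⟩, f1⟩
  obtain ⟨k, e⟩ := cyc _ f3
  exact odd_fix ho (by group) (s2 _ f3) (e ▸ r8 k)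

theorem sd_conj (t : Sd K U z₀ r d) (m k : ℤ) :
    d * r ^ m * (d * r ^ k) * (d * r ^ m)⁻¹ = d * r ^ (6 * m + 3 * k) := by
  rw [t.refl_mul, mul_inv_rev, inv_of_sq t.dd, ← zpow_neg, ← mul_assoc, ← zpow_add, t.pow_d]
  congr 2; ring

theorem sd_pr (b : B4 M P K z₀) (l : L4 P K z₀) (t : Sd K (P ⊓ K) z₀ r d) :
    Pr P K z₀ (closure {z₀, d * r ^ (0 : ℤ)}) (closure {z₀, d * r ^ (2 : ℤ)}) := by
  have v0 := t.v4 (k := 0) (dvd_zero 2)
  have v2 := t.v4 (k := 2) dvd_rfl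
  have nrm : ∀ k m : ℤ, 2 ∣ k → 2 ∣ m → closure {z₀, d * r ^ m} ≤ nor (closure {z₀, d * r ^ k}) :=
    fun k m hk hm => pair_le.2 ⟨le_normalizer (mem_pair_left _ _), nor_pair
      (by rw [conj_fix (t.com (mul_mem t.dU (zpow_mem t.rU m)))]; exact mem_pair_left _ _)
      (by rw [sd_conj t]; exact t.mem_v4 (by omega))⟩
  have d0 : d ∈ closure {z₀, d * r ^ (0 : ℤ)} ⊔ closure {z₀, d * r ^ (2 : ℤ)} :=
    mem_sup_left (by simpa using mem_pair_right z₀ d)
  have ev : ∀ m : ℤ, 2 ∣ m → r ^ m ∈ closure {z₀, d * r ^ (0 : ℤ)} ⊔ closure {z₀, d * r ^ (2 : ℤ)} := by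
    rintro _ ⟨m, rfl⟩
    rw [zpow_mul]
    exact zpow_mem ((mul_mem_cancel_left d0).1 (mem_sup_right (mem_pair_right _ _))) m
  have nU : ∀ k : ℤ, 2 ∣ k → ∀ u ∈ P ⊓ K, u ∈ nor (closure {z₀, d * r ^ k}) →
      u ∈ closure {z₀, d * r ^ (0 : ℤ)} ⊔ closure {z₀, d * r ^ (2 : ℤ)} := fun k hk u hu hn => by
    have h1 := ea_com (t.v4 hk).1 (nj hn (mem_pair_right _ _)) (mem_pair_right _ _)
    obtain ⟨m, rfl | rfl⟩ := t.mem.1 hu
    · rw [t.conj_refl, t.refl_comm] at h1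
      exact ev m (by omega)
    · rw [sd_conj t, t.refl_comm] at h1
      exact mul_mem d0 (ev m (by omega))
  have nr : ∀ k : ℤ, 2 ∣ k → r ^ (1 : ℤ) ∉ nor (closure {z₀, d * r ^ k}) := fun k hk hn => by
    have h1 := ea_com (t.v4 hk).1 (nj hn (mem_pair_right _ _)) (mem_pair_right _ _)
    rw [t.conj_refl, t.refl_comm] at h1
    omega
  have v4 : ∀ F ≤ P ⊓ K, V4 F → F = closure {z₀, d * r ^ (0 : ℤ)} ∨ F = closure {z₀, d * r ^ (2 : ℤ)} :=
    fun F hF v => by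
      obtain ⟨k, hk, rfl⟩ := t.v4_cases hF v
      by_cases h : 4 ∣ k
      · exact .inl (v4_of_mem v0 (mem_pair_left _ _) (t.mem_v4 (by omega)) v)
      · exact .inr (v4_of_mem v2 (mem_pair_left _ _) (t.mem_v4 (by omega)) v)
  exact
    { v := v0
      v' := v2
      le := t.v4_le 0
      le' := t.v4_le 2
      ne := fun e => by
        have := t.refl_comm.1 (ea_com v2.1 (e ▸ mem_pair_right _ _ : d * r ^ (0 : ℤ) ∈ _) (mem_pair_right _ _))
        omega
      inv := fun u hu uu => by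
        rcases t.inv_cases hu uu with rfl | rfl | ⟨k, hk, rfl⟩
        · exact .inl (one_mem _)
        · exact .inl (mem_pair_left _ _)
        · by_cases h : 4 ∣ k
          · exact .inl (t.mem_v4 (by omega))
          · exact .inr (t.mem_v4 (by omega))
      v4 := v4
      n1 := nrm 0 2 (dvd_zero 2) dvd_rfl
      n2 := nrm 2 0 dvd_rfl (dvd_zero 2)
      nU := nU 0 (dvd_zero 2)
      nU' := nU 2 dvd_rfl
      e9 := t.e9
      cc := fun c hc h h' => by
        have N := le_N (t.v4_le 0) (t.v4_le 2) (nrm 0 2 (dvd_zero 2) dvd_rfl)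
        have c2 := conj_fix (cm h (N (ev 2 dvd_rfl)))
        have cr : Commute c r := by
          obtain ⟨k, e | e⟩ := t.mem.1 (nj (b.nU hc) t.rU)
          · rw [← conj_zpow, e, ← zpow_mul, t.pow_eq] at c2
            have e1 : c * r * c⁻¹ = r ^ (k - 1) * r := by rw [e, zpow_sub_one, inv_mul_cancel_right]
            rcases t.pow_z (k := k - 1) (by omega) with e2 | e2 <;> rw [e2] at e1
            · exact comm_of_fix (by rwa [one_mul] at e1)
            · exfalso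
              have e3 : cj (r ^ (-1 : ℤ)) (closure {z₀, d * r ^ (2 : ℤ)}) = closure {z₀, d * r ^ (0 : ℤ)} := by
                rw [t.cj_v4]; norm_num
              have h1 := cj_cenN (le_normalizer (zpow_mem t.rU (-1)).2) e3 h'
              have e4 : r ^ (-1 : ℤ) * c * (r ^ (-1 : ℤ))⁻¹ = z₀ * c := by
                rw [zpow_neg_one, inv_inv, mul_assoc, eq_mul_of_mul_inv_eq e1, ← (t.com t.rU).eq]; group
              rw [e4, mul_mem_cancel_right h] at h1
              have hK := (t.v4_le 0).trans inf_le_right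
              obtain ⟨x, hx, h3⟩ := l.xD _ hK v0
              exact (v0.rot hx.2 h3 (not_cen3 l hK v0 hx.1 h3) (mem_pair_left _ _) b.z1).1
                (conj_fix (cm h1 hx).symm)
          · rw [← conj_zpow, e, zpow_two, t.refl_mul, t.pow_eq] at c2
            omega
        exact cc_gen l v4 (sd_cen b t hc (t.gen ▸ cen_pair cr (cm h (N d0)))) h h'
      u8 := fun ⟨n, r', d', s⟩ => by
        obtain ⟨m, e⟩ := t.v4_cj (s.v4_le 0) (s.v4 0) (s.v4_le 1) (s.v4 1)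
        have := s.not_cj (zpow_mem t.rU m) e
        omega
      sd := fun _ => ⟨_, zpow_mem t.rU 1, nr 0 (dvd_zero 2)⟩
      sd' := fun _ => ⟨_, zpow_mem t.rU 1, nr 2 dvd_rfl⟩ }

theorem jobF4b : JF4b.{u} := fun G _ _ M P K z₀ b l H => by
  refine Or.imp_left (n4_of b l H) ?_
  rcases l.typ with ⟨n, r, d, t⟩ | ⟨r, d, t⟩
  · rcases H n r d t with ⟨rfl, e9⟩ | p
    · exact (dih_pr b l t e9).alt b l
    · exact .inl (pg_nn b l p)
  · exact (sd_pr b l t).alt b l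

end H27.QF4
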