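import Cfsg.Agent.H27.QF4C

/-! Job `JF4b` of `blueprints/QU.md`, part 1: consequences of `nn`. -/

set_option autoImplicit false
set_option linter.unusedSectionVars false

namespace H27.QF4

open Subgroup Cfsg H98 H96.CG H97.QU
open H52 (zc)
open scoped commutatorElement

universe u

variable {G : Type u} [Group G] [Finite G] {M P K U D D' E X : Subgroup G} {a b c e g j u w x y z₀ α r d : G} {n : ℕ}

/-- only inner automorphisms normalize a four-group -/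
def NN (P K : Subgroup G) : Prop := ∀ D ≤ P ⊓ K, V4 D → P ⊓ nor D ≤ P ⊓ K ⊔ cen K

theorem z_mem (l : L4 P K z₀) (h : D ≤ P ⊓ K) (v : V4 D) : z₀ ∈ D := by
  rcases l.typ with ⟨n, r, d, t⟩ | ⟨r, d, t⟩
  · obtain ⟨k, rfl⟩ := t.v4_cases h v; exact mem_pair_left _ _
  · obtain ⟨k, -, rfl⟩ := t.v4_cases h v; exact mem_pair_left _ _

theorem cenU (l : L4 P K z₀) (hu : u ∈ P ⊓ K) (h : u ∈ cen (P ⊓ K)) : u = 1 ∨ u = z₀ := by
  rcases l.typ with ⟨n, r, d, t⟩ | ⟨r, d, t⟩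
  · exact t.cent hu (cm h t.rU) (cm h t.dU)
  · exact t.cent hu (cm h t.rU) (cm h t.dU)

theorem v4z (b : B4 M P K z₀) (hu : u ∈ P ⊓ K) (uu : u * u = 1) (h1 : u ≠ 1) (h2 : u ≠ z₀) :
    V4 (closure {z₀, u}) ∧ closure {z₀, u} ≤ P ⊓ K :=
  ⟨v4_pair b.z2 uu (B4.zc' b hu.1).symm b.z1 h1 h2.symm, pair_le.2 ⟨b.zU, hu⟩⟩

theorem cen_pair (h1 : Commute c a) (h2 : Commute c b) : c ∈ cen (closure {a, b}) :=
  cen_symm (X := closure {a, b}) (Y := zpowers c) (pair_le.2 ⟨mc fun _ ⟨k, e⟩ => e ▸ h1.symm.zpow_right k,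
    mc fun _ ⟨k, e⟩ => e ▸ h2.symm.zpow_right k⟩) (mem_zpowers c)

theorem nsc (b : B4 M P K z₀) (l : L4 P K z₀) (hu : u ∈ P ⊓ K) (uu : u * u = 1)
    (h : ∀ y ∈ P, Commute (y * u * y⁻¹) u) : u = 1 ∨ u = z₀ := by
  by_contra hn
  rw [not_or] at hn
  obtain ⟨v, le⟩ := v4z b hu uu hn.1 hn.2
  refine l.nnD _ le v fun y hy => nor_pair ?_ ?_
  · rw [conj_fix (B4.zc' b hy)]; exact mem_pair_left _ _
  · have h1 := nj (b.nU hy) hu
    exact l.cD _ (le.trans inf_le_right) v ⟨h1.2, cen_pair (B4.zc' b h1.1) (h y hy)⟩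

/-- the `K`-parts of commuting elements commute -/
theorem part_comm (b : B4 M P K z₀) (hg : g ∈ nor K) (hu : u ∈ K) (hc : c ∈ cen K) (h : Commute g (u * c)) :
    Commute g u := by
  have h1 := conj_fix h
  rw [conj_dist] at h1
  have h2 : u⁻¹ * (g * u * g⁻¹) = c * (g * c * g⁻¹)⁻¹ := by
    rw [eq_mul_inv_iff_mul_eq, mul_assoc, h1, inv_mul_cancel_left]
  have h3 := b.eq_one (mul_mem (inv_mem hu) (nj hg hu)) (h2 ▸ mul_mem hc (inv_mem (nj (nor_cen hg) hc)))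
  exact comm_of_fix (inv_mul_eq_one.1 h3).symm

theorem part_sq (b : B4 M P K z₀) (hu : u ∈ K) (hc : c ∈ cen K) {m : ℕ} (h : (u * c) ^ m = 1) : u ^ m = 1 := by
  rw [(cm hc hu).symm.mul_pow] at h
  exact b.eq_one (pow_mem hu m) (eq_inv_of_mul_eq_one_left h ▸ inv_mem (pow_mem hc m))

theorem part_sq' (b : B4 M P K z₀) (hu : u ∈ K) (hc : c ∈ cen K) (h : u * c * (u * c) = 1) : u * u = 1 := by
  rw [← sq] at h ⊢; exact part_sq b hu hc h

theorem fin_c (b : B4 M P K z₀) (hc : c ∈ cen K) (h : u = 1 ∨ u = z₀) : u * c ∈ cen K ∨ u * c * z₀ ∈ cen K := by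
  rcases h with rfl | rfl
  · exact .inl (by rwa [one_mul])
  · exact .inr (by rwa [← (cm hc b.zK).eq, mul_assoc, b.z2, mul_one])

theorem nn_c1 (b : B4 M P K z₀) (l : L4 P K z₀) (m : NN P K) (hc : c ∈ P ⊓ cen (P ⊓ K)) :
    c ∈ cen K ∨ c * z₀ ∈ cen K := by
  obtain ⟨D, hD, v⟩ := l.exists_v4
  have c2 : c ∈ cen (P ⊓ K) := hc.2
  obtain ⟨u, hu, c', hc', rfl⟩ := b.mem_sup.1 (m D hD v ⟨hc.1, cen_nor (centralizer_anti hD c2)⟩)
  exact fin_c b hc' (cenU l hu ((mul_mem_cancel_right (centralizer_anti inf_le_right hc')).1 c2))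

theorem nn_nea (b : B4 M P K z₀) (l : L4 P K z₀) (m : NN P K) (hE : E ≤ P) (ea : IsElementaryAbelian 2 E)
    (hn : P ≤ nor E) (hw : w ∈ E) : w ∈ cen K ∨ w * z₀ ∈ cen K := by
  obtain ⟨D, hD, v⟩ := l.exists_v4
  have h1 : w ∈ nor D := nor_of fun x hx => by
    have e1 : w * (x * w⁻¹ * x⁻¹) ∈ E := mul_mem hw (nj (hn (hD hx).1) (inv_mem hw))
    have e2 : w * (x * w⁻¹ * x⁻¹) ∈ P ⊓ K := by
      rw [show w * (x * w⁻¹ * x⁻¹) = w * x * w⁻¹ * x⁻¹ by group]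
      exact mul_mem (nj (b.nU (hE hw)) (hD hx)) (inv_mem (hD hx))
    rw [show w * x * w⁻¹ = w * (x * w⁻¹ * x⁻¹) * x by group]
    rcases nsc b l e2 (ea_sq ea e1) fun y hy => ea_com ea (nj (hn hy) e1) e1 with e | e <;> rw [e]
    · rwa [one_mul]
    · exact mul_mem (z_mem l hD v) hx
  obtain ⟨u, hu, c, hc, rfl⟩ := b.mem_sup.1 (m D hD v ⟨hE hw, h1⟩)
  refine fin_c b hc (nsc b l hu (part_sq' b hu.2 hc (ea_sq ea hw)) fun y hy => ?_)
  have h2 := nj (hn hy) hw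
  have h3 := (part_comm b (b.nK (hE h2)) hu.2 hc (ea_com ea h2 hw)).symm
  rw [conj_dist] at h3
  exact (part_comm b (le_normalizer hu.2) (nj (b.nK hy) hu.2) (nj (nor_cen (b.nK hy)) hc) h3).symm

theorem sd_le (b : B4 M P K z₀) (m : NN P K) (t : Sd K (P ⊓ K) z₀ r d) (hy : y ∈ P) : y ∈ P ⊓ K ⊔ cen K := by
  have v := t.v4 (k := 0) (dvd_zero 2)
  obtain ⟨k, e⟩ := t.v4_cj (cj_le_of_le (t.v4_le 0) (b.nU hy)) (v.cj y) (t.v4_le 0) v
  rw [cj_cj] at e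
  have h1 : r ^ k ∈ P ⊓ K := zpow_mem t.rU k
  exact (mul_mem_cancel_left (mem_sup_left h1)).1 (m _ (t.v4_le 0) v ⟨mul_mem h1.1 hy, cj_eq_self_iff.1 e⟩)

theorem dih_even (b : B4 M P K z₀) (m : NN P K) (t : Dih K (P ⊓ K) z₀ n r d) (hy : y ∈ P) {k : ℤ}
    (e : y * d * y⁻¹ = d * r ^ k) (hk : Even k) : y ∈ P ⊓ K ⊔ cen K := by
  obtain ⟨s, rfl⟩ := hk
  have h1 : r ^ s ∈ P ⊓ K := zpow_mem t.rU s
  refine (mul_mem_cancel_left (mem_sup_left h1)).1 (m _ (t.v4_le 0) (t.v4 0) ⟨mul_mem h1.1 hy, nor_pair ?_ ?_⟩)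
  · rw [conj_fix (B4.zc' b (mul_mem h1.1 hy))]; exact mem_pair_left _ _
  · rw [conj_conj, zpow_zero, mul_one, e, t.conj_refl, show s + s - 2 * s = 0 by ring, zpow_zero, mul_one]
    exact mem_pair_right _ _

theorem nn_idx (b : B4 M P K z₀) (l : L4 P K z₀) (m : NN P K) (hx : x ∈ P) (hy : y ∈ P)
    (h1 : x ∉ P ⊓ K ⊔ cen K) (h2 : y ∉ P ⊓ K ⊔ cen K) : x * y ∈ P ⊓ K ⊔ cen K := by
  rcases l.typ with ⟨n, r, d, t⟩ | ⟨r, d, t⟩
  · obtain ⟨a, ea⟩ := t.conj_r (b.nU hx)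
    obtain ⟨k, ek⟩ := t.conj_d' (b.nU hx) 0
    obtain ⟨k', ek'⟩ := t.conj_d' (b.nU hy) 0
    rw [zpow_zero, mul_one] at ek ek'
    have o1 : Odd k := Int.not_even_iff_odd.1 fun h => h1 (dih_even b m t hx ek h)
    have o2 : Odd k' := Int.not_even_iff_odd.1 fun h => h2 (dih_even b m t hy ek' h)
    exact dih_even b m t (mul_mem hx hy) (by rw [conj_conj, ek', conj_dr ea ek])
      (o1.add_odd ((odd_a t ea).mul o2))
  · exact (h1 (sd_le b m t hx)).elim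

theorem rel4 (s : Fin 4 → G) (h : ∀ e ∈ E, ∃ i, s i * e ∈ X) : X.relIndex E ≤ 4 := by
  choose f hf using h
  have : Function.Injective fun q : E ⧸ X.subgroupOf E => f q.out q.out.2 := fun q q' e => by
    rw [← q.out_eq', ← q'.out_eq', QuotientGroup.eq, mem_subgroupOf]
    have h1 := hf _ q.out.2
    have h2 := hf _ q'.out.2
    simp only at e
    rw [e] at h1
    simpa [mul_assoc] using mul_mem (inv_mem h1) h2
  exact (Nat.card_le_card_of_injective _ this).trans (by simp)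

theorem nn_rk2 (b : B4 M P K z₀) (l : L4 P K z₀) (m : NN P K) (hE : E ≤ P) (ea : IsElementaryAbelian 2 E) :
    (cen K).relIndex E ≤ 4 := by
  have back : ∀ u ∈ K, ∀ c ∈ cen K, u * c ∈ E → u * (u * c) ∈ cen K := fun u hu c hc h => by
    rwa [← mul_assoc, part_sq' b hu hc (ea_sq ea h), one_mul]
  by_cases h : ∃ u ∈ P ⊓ K, ∃ c ∈ cen K, u * c ∈ E ∧ u ≠ 1 ∧ u ≠ z₀
  · obtain ⟨u, hu, c, hc, h, h1, h2⟩ := h
    have uu := part_sq' b hu.2 hc (ea_sq ea h)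
    obtain ⟨v, le⟩ := v4z b hu uu h1 h2
    refine rel4 ![1, z₀, u, z₀ * u] fun e he => ?_
    have c1 : e ∈ cen (closure {z₀, u}) :=
      cen_pair (B4.zc' b (hE he)) (part_comm b (b.nK (hE he)) hu.2 hc (ea_com ea he h))
    obtain ⟨u', hu', c', hc', rfl⟩ := b.mem_sup.1 (m _ le v ⟨hE he, cen_nor c1⟩)
    have hK := le.trans inf_le_right
    have h3 := back u' hu'.2 c' hc' he
    rcases (mem_pair b.z2 uu (B4.zc' b hu.1).symm).1
      (l.cD _ hK v ⟨hu'.2, (mul_mem_cancel_right (centralizer_anti hK hc')).1 c1⟩) with e | e | e | e <;>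
      nth_rewrite 1 [e] at h3
    exacts [⟨0, h3⟩, ⟨1, h3⟩, ⟨2, h3⟩, ⟨3, h3⟩]
  · have key : ∀ e ∈ E, e ∈ P ⊓ K ⊔ cen K → 1 * e ∈ cen K ∨ z₀ * e ∈ cen K := fun e he h1 => by
      obtain ⟨u, hu, c, hc, rfl⟩ := b.mem_sup.1 h1
      have h3 := back u hu.2 c hc he
      by_cases e1 : u = 1
      · left; nth_rewrite 1 [e1] at h3; exact h3
      · right
        have e2 : u = z₀ := by_contra fun e2 => h ⟨u, hu, c, hc, he, e1, e2⟩
        nth_rewrite 1 [e2] at h3; exact h3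
    by_cases h0 : E ≤ P ⊓ K ⊔ cen K
    · exact rel4 ![1, z₀, 1, 1] fun e he => (key e he (h0 he)).elim (fun h => ⟨0, h⟩) fun h => ⟨1, h⟩
    · obtain ⟨e₀, h1, h2⟩ := SetLike.not_le_iff_exists.1 h0
      refine rel4 ![1, z₀, 1 * e₀, z₀ * e₀] fun e he => ?_
      by_cases h3 : e ∈ P ⊓ K ⊔ cen K
      · exact (key e he h3).elim (fun h => ⟨0, h⟩) fun h => ⟨1, h⟩
      · exact (key _ (mul_mem h1 he) (nn_idx b l m (hE h1) (hE he) h2 h3)).elim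
          (fun h => ⟨2, by rwa [← mul_assoc] at h⟩) fun h => ⟨3, by rwa [← mul_assoc] at h⟩

theorem mem_UC (b : B4 M P K z₀) (hy : y ∈ P) (h : y ∈ K ⊔ cen K) : y ∈ P ⊓ K ⊔ cen K := by
  obtain ⟨k, hk, c, hc, rfl⟩ := (mem_sup_cen le_normalizer).1 h
  obtain ⟨s, hs⟩ := isPGroup_iff_forall.1 b.two _ hy
  have h1 : k ∈ nor (P ⊓ K) :=
    (mul_mem_cancel_right (cen_nor (centralizer_anti inf_le_right hc))).1 (b.nU hy)
  exact mul_mem_sup (b.syl.le_of_le_normalizer' (isPGroup_zpowers (part_sq b hk hc hs)) (zpowers_le.2 hk)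
    (zpowers_le.2 h1) (mem_zpowers k)) hc

theorem pg_oi (b : B4 M P K z₀) (p : PG K) (hy : y ∈ P) (h : y ∉ P ⊓ K ⊔ cen K) :
    ∃ j ∈ P, j ∉ P ⊓ K ⊔ cen K ∧ j * j ∈ cen K := by
  have h0 : y ∉ K ⊔ cen K := fun e => h (mem_UC b hy e)
  obtain ⟨k, hk, e⟩ := p.2 y (b.nK hy) h0
  obtain ⟨s, m, hm, em⟩ := Nat.exists_eq_two_pow_mul_odd (orderOf_pos (y * k)).ne'
  obtain ⟨m, rfl⟩ := hm
  have t1 : (y * k) ^ (2 * m + 1) ∈ P ⊔ K := pow_mem (mul_mem_sup hy hk) _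
  have t2 : ((y * k) ^ (2 * m + 1)) ^ 2 ^ s = 1 := by rw [← pow_mul, mul_comm, ← em, pow_orderOf_eq_one]
  have t3 : (y * k) ^ (2 * m + 1) * (y * k) ^ (2 * m + 1) ∈ cen K := by
    rw [← (Commute.refl _).mul_pow]; exact pow_mem e _
  have t4 : (y * k) ^ (2 * m + 1) ∉ K ⊔ cen K := fun e' => h0 (by
    rw [pow_succ', pow_mul, sq] at e'
    exact (mul_mem_cancel_right (mem_sup_left hk)).1
      ((mul_mem_cancel_right (mem_sup_right (pow_mem e m))).1 e'))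
  generalize (y * k) ^ (2 * m + 1) = t at t1 t2 t3 t4
  obtain ⟨g, hg, h1⟩ := (syl_sup b.two b.nK b.syl).exists_cj_le (isPGroup_zpowers t2) (zpowers_le.2 t1)
  have gK : g ∈ nor K := sup_le b.nK le_normalizer hg
  refine ⟨g * t * g⁻¹, h1 (conj_mem_cj (mem_zpowers t)), fun e' => t4 ?_, conj_dist g t t ▸ nj (nor_cen gK) t3⟩
  have h2 : g ∈ nor (K ⊔ cen K) :=
    le_normalizer_sup (H := nor K) le_rfl (normalizer_le_normalizer_centralizer K) gK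
  have h3 : P ⊓ K ⊔ cen K ≤ K ⊔ cen K := sup_le_sup_right inf_le_right _
  simpa [mul_assoc] using conj_mem_of_mem_normalizer' h2 (h3 e')

theorem n4_of (b : B4 M P K z₀) (l : L4 P K z₀)
    (H : ∀ n r d, Dih K (P ⊓ K) z₀ n r d → (n = 2 ∧ E9 K) ∨ PG K) (m : NN P K) : N4 P K z₀ where
  nn := m
  c1 := fun _ hc => nn_c1 b l m hc
  nea := fun _ h1 h2 h3 _ hw => nn_nea b l m h1 h2 h3 hw
  idx := fun _ hx _ hy h1 h2 => nn_idx b l m hx hy h1 h2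
  rk2 := fun _ h1 h2 => nn_rk2 b l m h1 h2
  oi := fun y hy h h16 => by
    rcases l.typ with ⟨n, r, d, t⟩ | ⟨r, d, t⟩
    · rcases H n r d t with ⟨rfl, -⟩ | p
      · rw [t.card] at h16; norm_num at h16
      · exact pg_oi b p hy h
    · exact (h (sd_le b m t hy)).elim

end H27.QF4
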