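import Cfsg.Agent.H27.QF4B1

/-! Job `JF4b` of `blueprints/QU.md`, part 2: automorphisms normalizing a four-group. -/

set_option autoImplicit false
set_option linter.unusedSectionVars false

namespace H27.QF4

open Subgroup Cfsg H98 H96.CG H97.QU
open H52 (zc)
open scoped commutatorElement

universe u

variable {G : Type u} [Group G] [Finite G] {M P K U D D' E X : Subgroup G} {a b c e g j u w x x' y z₀ α r d : G} {n : ℕ}

theorem swap (b : B4 M P K z₀) (l : L4 P K z₀) (h : D ≤ P ⊓ K) (v : V4 D) : ∃ τ ∈ P ⊓ K, τ ∈ nor D ∧ τ ∉ D := by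
  have h1 : D < P ⊓ K := lt_of_le_of_ne h fun e => l.nnD D h v (e ▸ b.nU)
  obtain ⟨τ, h2, h3⟩ := SetLike.exists_of_lt (lt_inf_normalizer b.syl.isPGroup h1)
  exact ⟨τ, h2.1, h2.2, h3⟩

theorem fixD (b : B4 M P K z₀) (l : L4 P K z₀) (h : D ≤ P ⊓ K) (v : V4 D) (hy : y ∈ P) (hn : y ∈ nor D) :
    ∃ u ∈ P ⊓ K, u ∈ nor D ∧ y * u ∈ cen D := by
  obtain ⟨τ, t1, t2, t3⟩ := swap b l h v
  obtain ⟨e, he, e1, e2⟩ := v.exists_ne z₀
  have z := z_mem l h v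
  have eD := v.eq_pair z he b.z1 e1 e2.symm
  have key : ∀ g ∈ P, g ∈ nor D → g ∈ cen D ∨ g * e * g⁻¹ = z₀ * e := fun g hg hn => by
    rcases v.cases z he b.z1 e1 e2.symm (nj hn he) with e3 | e3 | e3 | e3
    · exact (conj_ne g e1 e3).elim
    · exact (e2 (by simpa using e3.trans (conj_fix (B4.zc' b hg)).symm)).elim
    · exact .inl (eD ▸ cen_pair (B4.zc' b hg) (comm_of_fix e3))
    · exact .inr e3
  rcases key y hy hn with e3 | e3
  · exact ⟨1, one_mem _, one_mem _, by rwa [mul_one]⟩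
  · have e4 := (key τ t1.1 t2).resolve_left fun e4 => t3 (l.cD D (h.trans inf_le_right) v ⟨t1.2, e4⟩)
    refine ⟨τ, t1, t2, eD ▸ cen_pair (B4.zc' b (mul_mem hy t1.1)) (comm_of_fix ?_)⟩
    rw [conj_conj, e4, conj_dist, e3, conj_fix (B4.zc' b hy), ← mul_assoc, b.z2, one_mul]

theorem pg_nn (b : B4 M P K z₀) (l : L4 P K z₀) (p : PG K) : NN P K := fun D h v y hy => by
  obtain ⟨u, u1, -, u3⟩ := fixD b l h v hy.1 hy.2
  have h1 : D ⊔ cen K ≤ P ⊓ K ⊔ cen K := sup_le_sup_right h _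
  exact (mul_mem_cancel_right (mem_sup_left u1)).1
    (h1 (p.1 _ (b.nK (mul_mem hy.1 u1.1)) D (h.trans inf_le_right) v u3))

theorem not_cen3 (l : L4 P K z₀) (h : D ≤ K) (v : V4 D) (hx : x ∈ K) (h3 : orderOf x = 3) : x ∉ cen D := fun e => by
  have := orderOf_dvd_of_pow_eq_one ((sq x).trans (v.sq (l.cD D h v ⟨hx, e⟩)))
  rw [h3] at this; omega

theorem two3 (v : V4 D) (hx : x ∈ nor D) (h3 : orderOf x = 3) (hc : x ∉ cen D) (hx' : x' ∈ nor D)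
    (h3' : orderOf x' = 3) (hc' : x' ∉ cen D) : x⁻¹ * x' ∈ cen D ∨ x * x' ∈ cen D := by
  obtain ⟨a, ha, a1, -⟩ := v.exists_ne 1
  obtain ⟨r1, r2⟩ := v.rot hx h3 hc ha a1
  obtain ⟨s1, s2⟩ := v.rot hx' h3' hc' ha a1
  have hb := nj hx ha
  have b1 := conj_ne x a1
  have eD := v.eq_pair ha hb a1 b1 r1.symm
  have aa := v.sq ha
  have bb := v.sq hb
  have ab : Commute a (x * a * x⁻¹) := ea_com v.1 ha hb
  rcases v.cases ha hb a1 b1 r1.symm (nj hx' ha) with e | e | e | e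
  · exact (conj_ne x' a1 e).elim
  · exact (s1 e).elim
  · left
    rw [e, ← r2] at s2
    refine eD ▸ cen_pair (comm_of_fix ?_) (comm_of_fix ?_)
    · rw [conj_conj, e]; group
    · rw [conj_conj, s2]; group
  · right
    rw [e, conj_dist, e] at s2
    generalize hb' : x * a * x⁻¹ = b at *
    have s3 : x' * b * x'⁻¹ = a := mul_left_cancel s2
    refine eD ▸ cen_pair (comm_of_fix ?_) (comm_of_fix ?_)
    · rw [conj_conj, e, conj_dist, hb', r2, ← mul_assoc, bb, one_mul]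
    · rw [conj_conj, s3, hb']

theorem cocy (l : L4 P K z₀) (h : D ≤ K) (v : V4 D) (hw : w ∈ nor K) (hc : w ∈ cen D) (hx : x ∈ K ⊓ nor D) :
    w * x * w⁻¹ * x⁻¹ ∈ D := by
  have k1 : w * x * w⁻¹ * x⁻¹ ∈ K := mul_mem (nj hw hx.1) (K.inv_mem hx.1)
  refine l.cD D h v (mem_inf.2 ⟨k1, ?_⟩)
  rw [show w * x * w⁻¹ * x⁻¹ = w * (x * w⁻¹ * x⁻¹) by group]
  exact mul_mem hc (nj (nor_cen hx.2) (inv_mem hc))

theorem act0 (l : L4 P K z₀) (h : D ≤ K) (v : V4 D) (hw : w ∈ nor K) (hc : w ∈ cen D) :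
    ∃ δ ∈ D, w * δ ∈ cen (K ⊓ nor D) := by
  obtain ⟨x, hx, h3⟩ := l.xD D h v
  have xc := not_cen3 l h v hx.1 h3
  obtain ⟨δ, hδ, e⟩ : ∃ δ ∈ D, Commute (w * δ) x := by
    have c1 := cocy l h v hw hc hx
    by_cases e : w * x * w⁻¹ * x⁻¹ = 1
    · exact ⟨1, one_mem _, by rw [mul_one]; exact comm_of_fix (mul_inv_eq_one.1 e)⟩
    · have r2 := (v.rot hx.2 h3 xc c1 e).2
      have d1 := nj hx.2 c1
      refine ⟨_, d1, comm_of_fix ?_⟩
      rw [(cm hc d1).eq, conj_conj]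
      generalize hc' : w * x * w⁻¹ * x⁻¹ = c at *
      rw [show w * x * w⁻¹ = c * x by rw [← hc']; group]
      generalize x * c * x⁻¹ = δ at *
      rw [← mul_assoc, ← r2]; group
  refine ⟨δ, hδ, mc fun t ht => ?_⟩
  have w1 : w * δ ∈ nor K := mul_mem hw (le_normalizer (h hδ))
  have w2 : w * δ ∈ cen D := mul_mem hc (v.le_cen hδ)
  generalize w * δ = w' at *
  have x1 : t * x * t⁻¹ ∈ K ⊓ nor D := mul_mem (mul_mem ht hx) (inv_mem ht)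
  have x3 : orderOf (t * x * t⁻¹) = 3 := by rw [← h3]; exact (MulAut.conj t).orderOf_eq x
  have xc' := not_cen3 l h v x1.1 x3
  have hxK : x ∈ K := hx.1
  have c2 : Commute w' (t * x * t⁻¹) := by
    rcases two3 v hx.2 h3 xc x1.2 x3 xc' with e1 | e1
    · have := e.mul_right (cm w2 (l.cD D h v ⟨K.mul_mem (K.inv_mem hxK) x1.1, e1⟩))
      rwa [mul_inv_cancel_left] at this
    · have := e.inv_right.mul_right (cm w2 (l.cD D h v ⟨mul_mem hxK x1.1, e1⟩))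
      rwa [inv_mul_cancel_left] at this
  have c1 := cocy l h v w1 w2 ht
  by_contra hn
  refine (v.rot x1.2 x3 xc' c1 fun e1 => hn (comm_of_fix (mul_inv_eq_one.1 e1))).1 (conj_fix ?_)
  have c3 : Commute (t * x * t⁻¹) (w' * t * w'⁻¹ * t⁻¹) := by
    have e1 : w' * t * w'⁻¹ * t⁻¹ * (t * x * t⁻¹) * (w' * t * w'⁻¹ * t⁻¹)⁻¹ =
        w' * t * (w'⁻¹ * x * w'⁻¹⁻¹) * t⁻¹ * w'⁻¹ := by group
    rw [conj_fix e.inv_left, show w' * t * x * t⁻¹ * w'⁻¹ = w' * (t * x * t⁻¹) * w'⁻¹ by group,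
      conj_fix c2] at e1
    exact (comm_of_fix e1).symm
  exact c3

theorem act (b : B4 M P K z₀) (l : L4 P K z₀) (h : D ≤ P ⊓ K) (v : V4 D) (hy : y ∈ P) (hn : y ∈ nor D) :
    ∃ u ∈ P ⊓ K, u ∈ nor D ∧ y * u ∈ cen (K ⊓ nor D) := by
  obtain ⟨u, u1, u2, u3⟩ := fixD b l h v hy hn
  obtain ⟨δ, d1, d2⟩ := act0 l (h.trans inf_le_right) v (b.nK (mul_mem hy u1.1)) u3
  exact ⟨u * δ, mul_mem u1 (h d1), mul_mem u2 (le_normalizer d1), by rwa [← mul_assoc]⟩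

/-- `P ⊓ K` has exactly two four-groups -/
structure Pr (P K : Subgroup G) (z₀ : G) (D D' : Subgroup G) : Prop where
  v : V4 D
  v' : V4 D'
  le : D ≤ P ⊓ K
  le' : D' ≤ P ⊓ K
  ne : D ≠ D'
  inv : ∀ u ∈ P ⊓ K, u * u = 1 → u ∈ D ∨ u ∈ D'
  v4 : ∀ F ≤ P ⊓ K, V4 F → F = D ∨ F = D'
  n1 : D' ≤ nor D
  n2 : D ≤ nor D'
  nU : ∀ u ∈ P ⊓ K, u ∈ nor D → u ∈ D ⊔ D'
  nU' : ∀ u ∈ P ⊓ K, u ∈ nor D' → u ∈ D ⊔ D'
  e9 : E9 K
  cc : ∀ c ∈ P, c ∈ cen (K ⊓ nor D) → c ∈ cen (K ⊓ nor D') → c ∈ cen K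
  u8 : IsDih K (P ⊓ K) z₀ → P ⊓ K = D ⊔ D'
  sd : IsSd K (P ⊓ K) z₀ → ∃ u ∈ P ⊓ K, u ∉ nor D
  sd' : IsSd K (P ⊓ K) z₀ → ∃ u ∈ P ⊓ K, u ∉ nor D'

theorem Pr.symm (p : Pr P K z₀ D D') : Pr P K z₀ D' D where
  v := p.v'
  v' := p.v
  le := p.le'
  le' := p.le
  ne := p.ne.symm
  inv := fun u h e => (p.inv u h e).symm
  v4 := fun F h e => (p.v4 F h e).symm
  n1 := p.n2
  n2 := p.n1
  nU := fun u h e => sup_comm D D' ▸ p.nU' u h e
  nU' := fun u h e => sup_comm D D' ▸ p.nU u h e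
  e9 := p.e9
  cc := fun c h e e' => p.cc c h e' e
  u8 := fun e => (p.u8 e).trans (sup_comm _ _)
  sd := p.sd'
  sd' := p.sd

theorem Pr.other (b : B4 M P K z₀) (l : L4 P K z₀) (p : Pr P K z₀ D D') (hc : c ∈ P) (h : c ∈ cen (K ⊓ nor D)) :
    c ∈ cen K ∨ c * z₀ ∈ cen (K ⊓ nor D') := by
  have N := le_N p.le p.le' p.n1
  have N' := le_N p.le' p.le p.n2
  obtain ⟨u, u1, -, u3⟩ := act b l p.le' p.v' hc (cen_nor (centralizer_anti (le_sup_right.trans N) h))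
  have k1 : u ∈ D := l.cD D (p.le.trans inf_le_right) p.v ⟨u1.2, (mul_mem_cancel_left
    (centralizer_anti (le_sup_left.trans N) h)).1 (centralizer_anti (le_sup_right.trans N') u3)⟩
  have k2 : u ∈ D' := l.cD D' (p.le'.trans inf_le_right) p.v' ⟨u1.2, (mul_mem_cancel_left
    (centralizer_anti (le_sup_right.trans N) h)).1 (centralizer_anti (le_sup_left.trans N') u3)⟩
  rcases v4_inf p.v p.v' p.ne (z_mem l p.le p.v) (z_mem l p.le' p.v') b.z1 k1 k2 with rfl | rfl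
  · exact .inl (p.cc c hc h (by rwa [mul_one] at u3))
  · exact .inr u3

theorem Pr.m4 (b : B4 M P K z₀) (l : L4 P K z₀) (p : Pr P K z₀ D D') (hy : y ∈ P) (hn : y ∈ nor D)
    (h : y ∉ P ⊓ K ⊔ cen K) : ∃ α, M4 P K z₀ D D' α := by
  obtain ⟨u, u1, -, a1⟩ := act b l p.le p.v hy hn
  have aP : y * u ∈ P := mul_mem hy u1.1
  have a2 := (p.other b l aP a1).resolve_left fun e =>
    h ((mul_mem_cancel_right (mem_sup_left u1)).1 (mem_sup_right e))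
  generalize y * u = α at a1 aP a2
  have mz : ∀ β ∈ P, β * z₀ * (α * z₀) = β * α := fun β hβ => by
    rw [(B4.zc' b hβ).symm.symm.eq, mul_assoc, ← mul_assoc β, (B4.zc' b (mul_mem hβ aP)).eq, ← mul_assoc, b.z2,
      one_mul]
  refine ⟨α, { p with
    zD := z_mem l p.le p.v
    zD' := z_mem l p.le' p.v'
    aP := aP
    a1 := a1
    a2 := a2
    aa := p.cc _ (mul_mem aP aP) (mul_mem a1 a1) (mz α aP ▸ mul_mem a2 a2)
    nD := fun y hy => ?_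
    sw := ?_ }⟩
  · obtain ⟨u, u1, u2, u3⟩ := act b l p.le p.v hy.1 hy.2
    have bP : y * u ∈ P := mul_mem hy.1 u1.1
    exact ⟨u, p.nU u u1 u2, (p.other b l bP u3).imp_right fun e =>
      p.cc _ (mul_mem bP aP) (mul_mem u3 a1) (mz _ bP ▸ mul_mem e a2)⟩
  · obtain ⟨y, hy, hn⟩ := SetLike.not_le_iff_exists.1 (l.nnD D p.le p.v)
    have e := (p.v4 _ (cj_le_of_le p.le (b.nU hy)) (p.v.cj y)).resolve_left fun e => hn (cj_eq_self_iff.1 e)
    exact ⟨y, hy, e, (p.v4 _ (cj_le_of_le p.le' (b.nU hy)) (p.v'.cj y)).resolve_right fun e' =>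
      p.ne (cj_inj.1 (e.trans e'.symm))⟩

theorem Pr.alt (b : B4 M P K z₀) (l : L4 P K z₀) (p : Pr P K z₀ D D') : NN P K ∨ ∃ D D' α, M4 P K z₀ D D' α := by
  by_cases h : NN P K
  · exact .inl h
  · right
    simp only [NN, not_forall] at h
    obtain ⟨F, hF, v, h⟩ := h
    obtain ⟨y, hy, hn⟩ := SetLike.not_le_iff_exists.1 h
    rcases p.v4 F hF v with rfl | rfl
    · exact ⟨_, _, p.m4 b l hy.1 hy.2 hn⟩
    · exact ⟨_, _, p.symm.m4 b l hy.1 hy.2 hn⟩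

end H27.QF4
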