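import Cfsg.Agent.H27.QF4K
import Cfsg.Agent.H97.QULib2

/-! Job `JF4c` of `blueprints/QU.md`. -/

set_option autoImplicit false
set_option linter.unusedSectionVars false

namespace H27.QF4

open Subgroup Cfsg H98 H96.CG H97.QU
open H52 (zc)
open scoped commutatorElement

universe u

variable {G : Type u} [Group G] [Finite G] {M P K U D D' X : Subgroup G} {a b c g j u x y z₀ α r d : G} {n : ℕ}

theorem dvd_odd {m : ℕ} {a k : ℤ} (ha : Odd a) (h : (2 : ℤ) ^ m ∣ k * a) : (2 : ℤ) ^ m ∣ k :=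
  (Int.isCoprime_two_left.2 ha).pow_left.dvd_of_dvd_mul_right h

theorem nt {m : ℕ} {a k : ℤ} (ha : Odd a) (h1 : 2 * (2 : ℤ) ^ m ∣ a * a - 1) (h2 : 2 * (2 : ℤ) ^ m ∣ k + a * k) :
    (∃ l, (2 : ℤ) ^ m ∣ k + a * l - l) ∨ (Odd k ∧ 2 * (2 : ℤ) ^ m ∣ a + 1) := by
  obtain ⟨b, rfl⟩ := ha
  rcases Int.even_or_odd' k with ⟨l, rfl | rfl⟩
  · left
    rcases Int.even_or_odd b with hb | hb
    · refine ⟨0, ?_⟩
      rw [show 2 * l + (2 * b + 1) * (2 * l) = 2 * (2 * l * (b + 1)) by ring,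
        mul_dvd_mul_iff_left two_ne_zero] at h2
      simpa using dvd_odd hb.add_one h2
    · refine ⟨l, ?_⟩
      rw [show (2 * b + 1) * (2 * b + 1) - 1 = 2 * ((2 * b + 2) * b) by ring,
        mul_dvd_mul_iff_left two_ne_zero] at h1
      rw [show 2 * l + (2 * b + 1) * l - l = (2 * b + 2) * l by ring]
      exact (dvd_odd hb h1).mul_right l
  · refine .inr ⟨⟨l, rfl⟩, ?_⟩
    rw [← pow_succ'] at h2 ⊢
    exact dvd_odd ⟨l, rfl⟩ (by rwa [show (2 * b + 1 + 1) * (2 * l + 1) =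
      2 * l + 1 + (2 * b + 1) * (2 * l + 1) by ring])

theorem two_dvd (h : Dih K U z₀ n r d) {k : ℤ} (e : (2 : ℤ) ^ n ∣ k) : 2 ∣ k :=
  (h.two_pow ▸ dvd_mul_right 2 _).trans e

theorem odd_a (h : Dih K U z₀ n r d) {a : ℤ} (e : y * r * y⁻¹ = r ^ a) : Odd a := by
  rcases Int.even_or_odd a with ⟨b, rfl⟩ | h1
  · refine (conj_ne y h.z1 ?_).elim
    rw [h.ez', ← conj_zpow, e, ← zpow_mul, h.pow_eq_one, h.two_pow]
    exact ⟨b, by ring⟩
  · exact h1

theorem conj_dr {a k : ℤ} (e : y * r * y⁻¹ = r ^ a) (e' : y * d * y⁻¹ = d * r ^ k) (l : ℤ) :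
    y * (d * r ^ l) * y⁻¹ = d * r ^ (k + a * l) := by
  rw [conj_dist, e', ← conj_zpow, e, ← zpow_mul, mul_assoc, ← zpow_add]

theorem out_cen (h : Dih K U z₀ n r d) {k : ℤ} (hk : Odd k) (e : j * r * j⁻¹ = r ^ (-1 : ℤ))
    (e' : j * d * j⁻¹ = d * r ^ k) (hu : u ∈ U) (c : Commute j u) : u = 1 ∨ u = z₀ := by
  obtain ⟨l, rfl | rfl⟩ := h.mem.1 hu
  · refine h.pow_inv ?_
    have := conj_fix c
    rw [← conj_zpow, e, ← zpow_mul] at this
    nth_rewrite 1 [← this]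
    rw [← zpow_add]; simp
  · have := conj_fix c
    rw [conj_dr e e', mul_right_inj, h.pow_eq] at this
    have := two_dvd h this
    obtain ⟨s, rfl⟩ := hk
    omega

theorem out_cen' (h : Dih K U z₀ n r d) {k : ℤ} (hk : Odd k) (jj : j * j = 1) (e : j * r * j⁻¹ = r ^ (-1 : ℤ))
    (e' : j * d * j⁻¹ = d * r ^ k) (hy : y ∈ U) (yy : y * j * (y * j) = 1) (hu : u ∈ U) (c : Commute (y * j) u) :
    u = 1 ∨ u = z₀ := by
  obtain ⟨l, rfl | rfl⟩ := h.mem.1 hy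
  · refine out_cen h (k := k - 2 * l) (hk.sub_even (even_two_mul l)) ?_ ?_ hu c
    · rw [conj_conj, e]; group
    · rw [conj_conj, e', h.conj_refl]
  · have : d * r ^ l * j * (d * r ^ l * j) = d * r ^ l * (j * (d * r ^ l) * j⁻¹) := by
      rw [inv_of_sq jj]; group
    rw [this, conj_dr e e', mul_assoc, ← mul_assoc (r ^ l), h.pow_d, ← mul_assoc, ← mul_assoc, h.dd, one_mul,
      ← zpow_add, h.pow_eq_one] at yy
    have := two_dvd h yy
    obtain ⟨s, rfl⟩ := hk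
    omega

theorem out_cenK (b : B4 M P K z₀) (h : Dih K (P ⊓ K) z₀ n r d) {k : ℤ} (hk : Odd k) (hj : j ∈ P)
    (jj : j * j = 1) (hn : j ∉ K) (e : j * r * j⁻¹ = r ^ (-1 : ℤ)) (e' : j * d * j⁻¹ = d * r ^ k)
    (ch : CharP 2 (K ⊓ cen1 j)) (hx : x ∈ K) (cx : Commute x j) : x = 1 ∨ x = z₀ := by
  have le1 : P ⊓ K ⊔ zpowers j ≤ P := sup_le inf_le_left (zpowers_le.2 hj)
  have e1 : (P ⊓ K ⊔ zpowers j) ⊓ K = P ⊓ K :=
    le_antisymm (inf_le_inf_right K le1) (le_inf le_sup_left inf_le_right)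
  have s1 := syl_sup (b.two.to_le le1) (le1.trans b.nK) (e1.symm ▸ b.syl)
  have zH : z₀ ∈ K ⊓ cen1 j := ⟨b.zK, mem_cen1.2 (B4.zc' b hj).symm⟩
  obtain ⟨Q, hQ, hz⟩ := exists_isSyl_le (isPGroup_zpowers (p := 2) (k := 1) (by rw [pow_one, sq, b.z2]))
    (zpowers_le.2 zH)
  have jn : zpowers j ≤ nor Q := zpowers_le.2 (cen_nor (mc fun q hq => (mem_cen1.1 (hQ.le hq).2).symm))
  have two : IsPGroup 2 ↥(zpowers j ⊔ Q) :=
    IsPGroup.to_sup_of_normal_right' (isPGroup_zpowers (k := 1) (by rw [pow_one, sq, jj])) hQ.isPGroup jn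
  obtain ⟨g, hg, h1⟩ := s1.exists_cj_le two (sup_le (le_sup_right.trans le_sup_left)
    ((hQ.le.trans inf_le_left).trans le_sup_right))
  have gK : g ∈ nor K := sup_le (le1.trans b.nK) le_normalizer hg
  have j1 : g * j * g⁻¹ ∈ P ⊓ K ⊔ zpowers j := h1 (conj_mem_cj (mem_sup_left (mem_zpowers j)))
  have j2 : g * j * g⁻¹ * j ∈ P ⊓ K :=
    ((mem_sup_zp (b.nU hj) (jj ▸ one_mem _)).1 j1).resolve_left fun e2 => hn (by
      simpa [mul_assoc] using conj_mem_of_mem_normalizer' gK e2.2)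
  have j3 := conj_sq g jj
  have key : ∀ q ∈ Q, g * q * g⁻¹ = 1 ∨ g * q * g⁻¹ = z₀ := fun q hq => by
    have q1 : g * q * g⁻¹ ∈ P ⊓ K := ⟨le1 (h1 (conj_mem_cj (mem_sup_right hq))), nj gK (hQ.le hq).1⟩
    have q2 : Commute (g * j * g⁻¹) (g * q * g⁻¹) := (mem_cen1.1 (hQ.le hq).2).symm.map (MulAut.conj g)
    have q3 : g * j * g⁻¹ * j * j = g * j * g⁻¹ := by rw [mul_assoc _ j, jj, mul_one]
    exact out_cen' h hk jj e e' j2 (by rwa [q3]) q1 (by rwa [q3])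
  have z1 : g * z₀ * g⁻¹ = z₀ := (key _ (hz (mem_zpowers _))).resolve_left (conj_ne g b.z1)
  have key2 : ∀ q ∈ Q, q = 1 ∨ q = z₀ := fun q hq =>
    (key q hq).imp (fun e => by simpa using e) fun e => by simpa using e.trans z1.symm
  refine key2 x (hQ.pCoreOf_le (ch.le_pCoreOf le_rfl (fun t ht => mc fun q hq => ?_) ⟨hx, mem_cen1.2 cx⟩))
  rcases key2 q (hQ.pCoreOf_le hq) with rfl | rfl
  · exact Commute.one_right t
  · exact comm_of_fix ((key2 _ (hQ.pCoreOf_le (nj (self_le_normalizer_pCoreOf _ ht) hq))).resolve_left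
      (conj_ne t b.z1))

theorem out_false (b : B4 M P K z₀) (h : Dih K (P ⊓ K) z₀ n r d) {k : ℤ} (hk : Odd k) (hj : j ∈ P)
    (jj : j * j = 1) (e : j * r * j⁻¹ = r ^ (-1 : ℤ)) (e' : j * d * j⁻¹ = d * r ^ k)
    (ch : CharP 2 (K ⊓ cen1 j)) : False := by
  have hn : j ∉ K := fun hK => by
    have c : Commute j d := by
      rcases out_cen h hk e e' ⟨hj, hK⟩ (Commute.refl j) with e1 | e1 <;> rw [e1]
      · exact Commute.one_left d
      · exact (h.com h.dU).symm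
    have := conj_fix c
    rw [e', mul_eq_left, h.pow_eq_one] at this
    exact (Int.not_even_iff_odd.2 hk) (even_iff_two_dvd.2 (two_dvd h this))
  have key := fun x => out_cenK (x := x) b h hk hj jj hn e e' ch
  have kP : ∀ x ∈ K, Commute x j → x ∈ P := fun x hx c => by
    rcases key x hx c with e1 | e1 <;> rw [e1]
    exacts [one_mem P, b.zP.1]
  refine not_all b fun x hx xx => ?_
  obtain ⟨w, -, w1, c1, c2, hw | hw⟩ := trick (b.nK hj) hn jj hx xx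
  · obtain rfl := (key w hw c1).resolve_left w1
    exact (h.cz.le ⟨hx, mem_cen1.2 c2.symm⟩).1
  · rcases key _ hw ((Commute.refl j).mul_left c1) with e1 | e1
    · obtain rfl : j = w := by rw [← inv_of_sq jj]; exact inv_eq_of_mul_eq_one_right e1
      exact kP x hx c2.symm
    · have ρU : r ^ (2 : ℤ) ^ (n - 2) ∈ P ⊓ K := zpow_mem h.rU _
      have e2 : r ^ (2 : ℤ) ^ (n - 2) * j * (r ^ (2 : ℤ) ^ (n - 2))⁻¹ = w := by
        have : j * (r ^ (2 : ℤ) ^ (n - 2))⁻¹ * j⁻¹ = r ^ (2 : ℤ) ^ (n - 2) := by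
          rw [← zpow_neg, ← conj_zpow, e, ← zpow_mul]; simp
        rw [show w = j * z₀ by rw [← e1, ← mul_assoc, jj, one_mul], (B4.zc' b hj).eq, mul_assoc,
          eq_mul_of_mul_inv_eq this, ← mul_assoc, ← zpow_add, h.ez', h.two_pow', two_mul]
      generalize r ^ (2 : ℤ) ^ (n - 2) = ρ at ρU e2
      have r1 : ρ ∈ P := ρU.1
      have r2 : ρ ∈ K := ρU.2
      have := kP (ρ⁻¹ * x * ρ⁻¹⁻¹) (mul_mem (mul_mem (inv_mem r2) hx) (inv_mem (inv_mem r2))) (by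
        have := c2.symm.map (MulAut.conj ρ⁻¹)
        rw [← e2] at this
        simpa [mul_assoc] using this)
      exact (mul_mem_cancel_left (inv_mem r1)).1 ((mul_mem_cancel_right (inv_mem (inv_mem r1))).1 this)

theorem rr (b : B4 M P K z₀) (h : Dih K (P ⊓ K) z₀ n r d) (hj : j ∈ P) (jj : j * j = 1)
    (ch : CharP 2 (K ⊓ cen1 j)) : ∃ D ≤ P ⊓ K, V4 D ∧ j ∈ nor D := by
  obtain ⟨a, e⟩ := h.conj_r (b.nU hj)
  obtain ⟨k, e'⟩ := h.conj_d' (b.nU hj) 0
  rw [zpow_zero, mul_one] at e'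
  have h1 : (2 : ℤ) ^ n ∣ a * a - 1 := by
    rw [← h.pow_eq, zpow_mul, ← e, conj_zpow, ← e, ← conj_conj, jj]; simp
  have h2 : (2 : ℤ) ^ n ∣ k + a * k := by
    have := conj_dr e e' k
    rw [← e', ← conj_conj, jj] at this
    rw [← h.pow_eq_one]
    simpa using this.symm
  rw [h.two_pow] at h1 h2
  rcases nt (odd_a h e) h1 h2 with ⟨l, hl⟩ | ⟨hk, ha⟩
  · refine ⟨_, h.v4_le l, h.v4 l, nor_pair ?_ ?_⟩
    · rw [conj_fix (B4.zc' b hj)]; exact mem_pair_left _ _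
    · rw [conj_dr e e']; exact h.mem_v4.2 hl
  · refine (out_false b h hk hj jj (e.trans (h.pow_eq.2 ?_)) e' ch).elim
    rwa [h.two_pow, sub_neg_eq_add]

theorem jobF4c : JF4c.{u} := fun G _ _ M P K z₀ b l alt =>
  { b, l with
    alt := alt
    zC := fun c hc => by
      rcases alt with m | ⟨D, D', α, m⟩
      · exact m.c1 c ⟨hc.1, centralizer_anti inf_le_left hc.2⟩
      · obtain ⟨y, hy, e, e'⟩ := m.sw
        exact m4_cz b l m hc.1 (centralizer_anti ((sup_le m.le m.le').trans inf_le_left) hc.2) hy e e'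
          (zcom hc hy)
    lw := fun F hF v => by
      rcases alt with m | ⟨D, D', α, m⟩
      · exact lw_n b l m hF v
      · rcases m.v4 F hF v with rfl | rfl
        · exact lw_m l m
        · exact lw_m l (m.symm' b)
    rr := fun ⟨_, _, _, h⟩ j hj jj ch => rr b h hj jj ch
    c1s := fun s c hc => by
      rcases alt with m | ⟨D, D', α, m⟩
      · exact m.c1 c hc
      · obtain ⟨y, hy, hn⟩ := m.sd s
        obtain ⟨e, e'⟩ := (m.cj_or b.nK hy.1).resolve_left fun e => hn (cj_eq_self_iff.1 e.1)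
        exact m4_cz b l m hc.1 (centralizer_anti (sup_le m.le m.le') hc.2) hy.1 e e' (cm hc.2 hy).symm }

end H27.QF4
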