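import Cfsg.Agent.H97.QULib3

/-! Tools for the jobs `JF4b`, `JF4c` of `blueprints/QU.md`. -/

set_option autoImplicit false
set_option linter.unusedSectionVars false

namespace H27.QF4

open Subgroup Cfsg H98 H96.CG H97.QU
open H52 (zc)
open scoped commutatorElement

universe u

variable {G : Type u} [Group G] [Finite G] {M P K U D D' X : Subgroup G} {a b c g j u x y z₀ α : G}

theorem cm (h : c ∈ cen X) (hx : x ∈ X) : Commute c x := (h x hx).symm

theorem mc (h : ∀ x ∈ X, Commute c x) : c ∈ cen X := fun x hx => (h x hx).symm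

theorem nj (hg : g ∈ nor X) (hx : x ∈ X) : g * x * g⁻¹ ∈ X := conj_mem_of_mem_normalizer hg hx

theorem nor_of (h : ∀ x ∈ X, g * x * g⁻¹ ∈ X) : g ∈ nor X :=
  mem_normalizer_of_cj_le fun x hx => by
    have := h _ (mem_cj.1 hx)
    rwa [show g * (g⁻¹ * x * g) * g⁻¹ = x by group] at this

theorem cen_nor (h : c ∈ cen X) : c ∈ nor X := centralizer_le_normalizer _ h

theorem nor_cen (h : g ∈ nor X) : g ∈ nor (cen X) := normalizer_le_normalizer_centralizer X h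

theorem syl_sup (hP : IsPGroup 2 P) (hn : P ≤ nor K) (h : IsSyl 2 (P ⊓ K) K) : IsSyl 2 P (P ⊔ K) :=
  ⟨le_sup_left, hP, fun Q hQ h1 h2 => le_antisymm (fun q hq => by
    obtain ⟨p, hp, k, hk, rfl⟩ := (mem_sup_left_norm hn).1 (h2 hq)
    have e : Q ⊓ K = P ⊓ K := h.eq_of_le (hQ.to_le inf_le_left) (inf_le_inf_right K h1) inf_le_right
    have : k ∈ P ⊓ K := e ▸ ⟨(mul_mem_cancel_left (h1 hp)).1 hq, hk⟩
    exact mul_mem hp this.1) h1⟩

/-- two different four-groups over `z₀` meet in `⟨z₀⟩` -/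
theorem v4_inf (v : V4 D) (v' : V4 D') (ne : D ≠ D') (z : z₀ ∈ D) (z' : z₀ ∈ D') (z1 : z₀ ≠ 1) (h : u ∈ D)
    (h' : u ∈ D') : u = 1 ∨ u = z₀ := by
  by_contra hn
  rw [not_or] at hn
  exact ne ((v.eq_pair z h z1 hn.1 (Ne.symm hn.2)).trans (v'.eq_pair z' h' z1 hn.1 (Ne.symm hn.2)).symm)

theorem cj_cenN (hy : y ∈ nor K) (e : cj y D = D') (h : c ∈ cen (K ⊓ nor D)) :
    y * c * y⁻¹ ∈ cen (K ⊓ nor D') := by
  have := conj_mem_cj (g := y) h
  rwa [cj_cen, cj_inf, cj_eq_self hy, cj_nor, e] at this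

theorem B4.zc' (b : B4 M P K z₀) (h : x ∈ P) : Commute x z₀ := zcom b.zP h

theorem le_N (hD : D ≤ P ⊓ K) (hD' : D' ≤ P ⊓ K) (n1 : D' ≤ nor D) : D ⊔ D' ≤ K ⊓ nor D :=
  sup_le (le_inf (hD.trans inf_le_right) le_normalizer) (le_inf (hD'.trans inf_le_right) n1)

/-- an element centralizing `D D'` and a swap acts as `1` or `z₀` -/
theorem m4_cz (b : B4 M P K z₀) (l : L4 P K z₀) (m : M4 P K z₀ D D' α) (hc : c ∈ P) (h : c ∈ cen (D ⊔ D'))
    (hy : y ∈ P) (e : cj y D = D') (e' : cj y D' = D) (cy : Commute y c) : c ∈ cen K ∨ c * z₀ ∈ cen K := by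
  have N := le_N m.le m.le' m.n1
  have hK : D ⊔ D' ≤ K := N.trans inf_le_left
  have two : ∀ u ∈ D ⊔ D', u ∈ cen (D ⊔ D') → u = 1 ∨ u = z₀ := fun u hu hu' =>
    v4_inf m.v m.v' m.ne m.zD m.zD' b.z1
      (l.cD D (le_sup_left.trans hK) m.v ⟨hK hu, centralizer_anti le_sup_left hu'⟩)
      (l.cD D' (le_sup_right.trans hK) m.v' ⟨hK hu, centralizer_anti le_sup_right hu'⟩)
  obtain ⟨u, hu, h1 | h1⟩ := m.nD c ⟨hc, cen_nor (centralizer_anti le_sup_left h)⟩
  · rcases two u hu ((mul_mem_cancel_left h).1 (centralizer_anti hK h1)) with rfl | rfl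
    · exact .inl (by simpa using h1)
    · exact .inr h1
  · have h2 : c * u ∈ cen (D ⊔ D') :=
      (mul_mem_cancel_right (centralizer_anti N m.a1)).1 (centralizer_anti hK h1)
    left
    rcases two u hu ((mul_mem_cancel_left h).1 h2) with rfl | rfl
    · have h3 : c ∈ cen (K ⊓ nor D) := (mul_mem_cancel_right m.a1).1
        (centralizer_anti (inf_le_left : K ⊓ nor D ≤ K) (by rwa [mul_one] at h1))
      have h4 := cj_cenN (b.nK hy) e h3
      rw [conj_fix cy] at h4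
      exact m.cc c hc h3 h4
    · have h3 : c ∈ cen (K ⊓ nor D') := (mul_mem_cancel_right m.a2).1 (by
        rw [(B4.zc' b m.aP).eq, ← mul_assoc]
        exact centralizer_anti (inf_le_left : K ⊓ nor D' ≤ K) h1)
      have h4 := cj_cenN (b.nK hy) e' h3
      rw [conj_fix cy] at h4
      exact m.cc c hc h4 h3

theorem lw_aux (hn : x ∈ nor D) (hD : D ≤ P) (v : V4 D)
    (h : ∀ c ∈ P ⊓ cen D, ∃ u ∈ D, Commute x (c * u)) : x ∈ nor (P ⊓ cen D) :=
  nor_of fun c hc => by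
    obtain ⟨u, hu, e⟩ := h c hc
    have : x * c * x⁻¹ = c * u * (x * u⁻¹ * x⁻¹) := by
      rw [← conj_fix e]; group
    rw [this]
    have h1 := nj hn (inv_mem hu)
    exact mul_mem (mul_mem hc ⟨hD hu, v.le_cen hu⟩) ⟨hD h1, v.le_cen h1⟩

theorem lw_n (b : B4 M P K z₀) (l : L4 P K z₀) (n : N4 P K z₀) (hD : D ≤ P ⊓ K) (v : V4 D) :
    K ⊓ nor D ≤ nor (P ⊓ cen D) := fun x hx =>
  lw_aux hx.2 (hD.trans inf_le_left) v fun c hc => by
    obtain ⟨u, hu, c', hc', rfl⟩ := b.mem_sup.1 (n.nn D hD v ⟨hc.1, cen_nor hc.2⟩)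
    have hK : D ≤ K := hD.trans inf_le_right
    have h1 : u ∈ D := l.cD D hK v ⟨hu.2, (mul_mem_cancel_right (centralizer_anti hK hc')).1 hc.2⟩
    refine ⟨u⁻¹, inv_mem h1, ?_⟩
    rw [← (cm hc' hu.2).eq, mul_inv_cancel_right]
    exact (cm hc' hx.1).symm

theorem lw_m (l : L4 P K z₀) (m : M4 P K z₀ D D' α) : K ⊓ nor D ≤ nor (P ⊓ cen D) := fun x hx =>
  lw_aux hx.2 (m.le.trans inf_le_left) m.v fun c hc => by
    have N := le_N m.le m.le' m.n1
    have hK : D ≤ K := m.le.trans inf_le_right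
    have c2 : c ∈ cen D := hc.2
    obtain ⟨u, hu, h1 | h1⟩ := m.nD c ⟨hc.1, cen_nor hc.2⟩
    · exact ⟨u, l.cD D hK m.v ⟨(N hu).1, (mul_mem_cancel_left c2).1 (centralizer_anti hK h1)⟩,
        (cm h1 hx.1).symm⟩
    · have h2 : c * u ∈ cen (K ⊓ nor D) :=
        (mul_mem_cancel_right m.a1).1 (centralizer_anti (inf_le_left : K ⊓ nor D ≤ K) h1)
      exact ⟨u, l.cD D hK m.v ⟨(N hu).1, (mul_mem_cancel_left c2).1
        (centralizer_anti (le_sup_left.trans N) h2)⟩, (cm h2 hx).symm⟩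

/-- not all involutions of `K` lie in `P` -/
theorem not_all (b : B4 M P K z₀) (h : ∀ k ∈ K, k * k = 1 → k ∈ P) : False := by
  have h1 : closure {k | k ∈ K ∧ k * k = 1} ≤ K := (closure_le _).2 fun k hk => hk.1
  have h2 : closure {k | k ∈ K ∧ k * k = 1} ≤ P := (closure_le _).2 fun k hk => h k hk.1 hk.2
  have h3 : K ≤ nor (closure {k | k ∈ K ∧ k * k = 1}) := fun g hg => mem_normalizer_of_cj_le (by
    rw [cj_le_iff, closure_le]
    intro k hk
    have : g * k * g⁻¹ ∈ closure {k | k ∈ K ∧ k * k = 1} :=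
      subset_closure ⟨mul_mem (mul_mem hg hk.1) (inv_mem hg), conj_sq g hk.2⟩
    exact mem_cj.2 (by rwa [inv_inv]))
  rcases b.eq_or h1 h3 with e | e
  · exact b.z1 (mem_bot.1 (e ▸ subset_closure ⟨b.zK, b.z2⟩))
  · exact quasi_not_two b.quasi (b.two.to_le (e ▸ h2))

/-- the dihedral trick for an involution `j` outside `K` -/
theorem trick (hj : j ∈ nor K) (hn : j ∉ K) (jj : j * j = 1) (hx : x ∈ K) (xx : x * x = 1) :
    ∃ w, w * w = 1 ∧ w ≠ 1 ∧ Commute w j ∧ Commute w x ∧ (w ∈ K ∨ j * w ∈ K) := by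
  have pw : ∀ m : ℕ, ((j * x) ^ (2 * m) ∈ K) := fun m => by
    rw [pow_mul]
    refine pow_mem ?_ m
    have := mul_mem (nj hj hx) hx
    rwa [inv_of_sq jj, show j * x * j * x = (j * x) ^ 2 by rw [sq]; group] at this
  have od : ∀ m : ℕ, (j * (j * x) ^ (2 * m + 1) ∈ K) := fun m => by
    rw [pow_succ', ← mul_assoc, ← mul_assoc, jj, one_mul]
    exact mul_mem hx (pw m)
  have p0 : 0 < orderOf (j * x) := orderOf_pos _
  rcases Nat.even_or_odd' (orderOf (j * x)) with ⟨m, e | e⟩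
  · have w2 : (j * x) ^ m * (j * x) ^ m = 1 := by rw [← pow_add, ← two_mul, ← e, pow_orderOf_eq_one]
    have i1 : j * (j * x) * j⁻¹ = (j * x)⁻¹ := by
      rw [mul_inv_rev, inv_of_sq xx, ← mul_assoc, jj, one_mul]
    have i2 : x * (j * x) * x⁻¹ = (j * x)⁻¹ := by
      rw [mul_inv_rev, inv_of_sq jj, inv_of_sq xx, mul_assoc, mul_assoc, xx, mul_one]
    refine ⟨(j * x) ^ m, w2, pow_ne_one_of_lt_orderOf (by omega) (by omega), ?_, ?_, ?_⟩
    · exact (comm_of_fix (by rw [← conj_pow, i1, inv_pow, inv_of_sq w2])).symm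
    · exact (comm_of_fix (by rw [← conj_pow, i2, inv_pow, inv_of_sq w2])).symm
    · rcases Nat.even_or_odd' m with ⟨k, rfl | rfl⟩
      · exact .inl (pw k)
      · exact .inr (od k)
  · exact (hn (by simpa [← e] using od m)).elim

end H27.QF4
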