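/- Tower R5 (S3194), slot S3: the Sylow subgroup does not normalise `L`. -/
import Cfsg.Agent.H34.R5Spec

set_option autoImplicit false

namespace H27.R5

open Cfsg Subgroup H41.IT H34.R5 Finset

universe u

variable {G : Type*} [Group G]

theorem conj_mem_C {g h n : G} : n * h * n⁻¹ ∈ C (n * g * n⁻¹) ↔ h ∈ C g := by
  rw [mem_C, mem_C]
  exact ⟨fun e => by simpa [mul_assoc] using e.map (MulAut.conj n⁻¹),
    fun e => e.map (MulAut.conj n)⟩

/-- A group of odd order is not transitive on the subgroups of order `s` of `s × s`. -/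
theorem count [Finite G] {s : ℕ} (hs : s.Prime) (ho : Odd s) (M A : Subgroup G)
    (hM : Odd (Nat.card M)) (hA : Nat.card A = s) (Om : G → Prop)
    (hO : Nat.card {g // Om g} = s ^ 2) (h1 : Om 1)
    (h2 : ∀ n ∈ M, ∀ a ∈ A, Om (n⁻¹ * a * n))
    (h3 : ∀ g, Om g → g ≠ 1 → ∃ n ∈ M, n * g * n⁻¹ ∈ A) : False := by
  classical
  have := Fintype.ofFinite G
  have := Fact.mk hs
  have hgen : ∀ a ∈ A, a ≠ 1 → ∀ b ∈ A, ∃ k : ℤ, a ^ k = b := by
    intro a ha a1 b hb
    have e : a ^ s = 1 := by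
      rw [← hA]
      exact congrArg Subtype.val (pow_card_eq_one' (x := (⟨a, ha⟩ : A)))
    have e2 : zpowers a = A := eq_of_le_of_card_ge (zpowers_le.2 ha) (by
      rw [Nat.card_zpowers, orderOf_eq_prime e a1, hA])
    rw [← e2] at hb
    exact hb
  have c1 : ∀ (Q : G → Prop), Q 1 → #(univ.filter fun g => Q g ∧ g ≠ 1) + 1 =
      Nat.card {g // Q g} := fun Q hQ => by
    rw [Nat.card_eq_fintype_card, Fintype.card_subtype, ← card_erase_add_one
      (s := univ.filter Q) (a := 1) (by simpa using hQ)]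
    congr 2
    ext g
    simp [and_comm]
  have c2 := c1 Om h1
  have c3 := c1 (· ∈ A) (one_mem _)
  rw [hO] at c2
  rw [show Nat.card {g // g ∈ A} = s from hA] at c3
  obtain ⟨a0, ha0⟩ : (univ.filter fun g => g ∈ A ∧ g ≠ 1).Nonempty := by
    rw [← card_pos]
    have := hs.one_lt
    omega
  replace ha0 : a0 ∈ A ∧ a0 ≠ 1 := by simpa using ha0
  have key := card_mul_eq_card_mul (fun g n => n * g * n⁻¹ ∈ A)
    (s := univ.filter fun g => Om g ∧ g ≠ 1) (t := univ.filter (· ∈ M))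
    (m := #(univ.filter fun n => n ∈ M ∧ n * a0 * n⁻¹ ∈ A))
    (n := #(univ.filter fun g => g ∈ A ∧ g ≠ 1)) (fun g hg => by
      replace hg : Om g ∧ g ≠ 1 := by simpa using hg
      obtain ⟨m, hm, ha⟩ := h3 g hg.1 hg.2
      have a1 : m * g * m⁻¹ ≠ 1 := by simpa using hg.2
      obtain ⟨i, hi⟩ := hgen _ ha a1 _ ha0.1
      obtain ⟨j, hj⟩ := hgen _ ha0.1 ha0.2 _ ha
      refine card_equiv (Equiv.mulRight m⁻¹) fun n => ?_
      simp only [mem_bipartiteAbove, mem_filter, mem_univ, true_and, Equiv.coe_mulRight]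
      have e : n * g * n⁻¹ = n * m⁻¹ * (m * g * m⁻¹) * (n * m⁻¹)⁻¹ := by group
      refine and_congr (mul_mem_cancel_right (inv_mem hm)).symm ⟨fun h => ?_, fun h => ?_⟩
      · rw [← hi, ← conj_zpow, ← e]
        exact zpow_mem h i
      · rw [e, ← hj, ← conj_zpow]
        exact zpow_mem h j) fun n hn => by
      replace hn : n ∈ M := by simpa using hn
      refine card_equiv (MulAut.conj n).toEquiv fun g => ?_
      simp only [mem_bipartiteBelow, mem_filter, mem_univ, true_and]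
      change _ ↔ n * g * n⁻¹ ∈ A ∧ n * g * n⁻¹ ≠ 1
      refine ⟨fun h => ⟨h.2, by simpa using h.1.2⟩, fun h => ⟨⟨?_, by simpa using h.2⟩, h.1⟩⟩
      simpa [mul_assoc] using h2 n hn _ h.1
  have c4 : #(univ.filter (· ∈ M)) = Nat.card M := by
    rw [Nat.card_eq_fintype_card, Fintype.card_subtype]
  rw [c4] at key
  generalize #(univ.filter fun n => n ∈ M ∧ n * a0 * n⁻¹ ∈ A) = k at key
  generalize #(univ.filter fun g => g ∈ A ∧ g ≠ 1) = r at key c3
  generalize #(univ.filter fun g => Om g ∧ g ≠ 1) = w at key c2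
  have r0 : 0 < r := by have := hs.one_lt; omega
  subst c3
  have e : Nat.card M = (r + 2) * k := Nat.eq_of_mul_eq_mul_right r0 (by
    rw [← key, show w = r * (r + 2) by nlinarith]; ring)
  rw [e, Nat.odd_mul] at hM
  obtain ⟨a, ha⟩ := ho
  obtain ⟨b, hb⟩ := hM.1
  omega

theorem jobS3 : JobS3.{u} := by
  intro H G _ _ x y e s hs P M hB hT hG hM h1 h2 u hu hP
  obtain ⟨μ, hμ, hμ'⟩ := SetLike.not_le_iff_exists.1 (h1 u hu)
  have hn : ∀ n ∈ M, ∀ g ∈ (P : Subgroup G), n * g * n⁻¹ ∈ (P : Subgroup G) :=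
    fun n hn g hg => (mem_normalizer_iff.1 (h2 hn) g).1 hg
  obtain ⟨-, -, h3, h4⟩ := H G x y e s P hB hT hG u (μ * u * μ⁻¹) hu
    (orderOf_injective (MulAut.conj μ).toMonoidHom (MulAut.conj μ).injective u)
    (fun e => hμ' (mem_normalizer_iff.2 fun g => by
      rw [← conj_mem_C (n := μ), ← e])) hP fun p hp => mem_normalizer_iff.2 fun g => by
        have e := mem_normalizer_iff.1 (hP (hn _ (inv_mem hμ) p hp)) (μ⁻¹ * g * μ)
        change g ∈ C _ ↔ p * g * p⁻¹ ∈ C _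
        change _ ∈ C u ↔ _ ∈ C u at e
        have e2 := ((conj_mem_C (n := μ)).trans e).trans (conj_mem_C (n := μ)).symm
        convert e2 using 2 <;> group
  let T : Subgroup G :=
    { carrier := {g | g ∈ C u ∧ g ^ s = 1}
      mul_mem' := fun ha hb => ⟨mul_mem ha.1 hb.1, by
        rw [(hG.ab u hu _ ha.1 _ hb.1).mul_pow, ha.2, hb.2, one_mul]⟩
      one_mem' := ⟨one_mem _, one_pow _⟩
      inv_mem' := fun ha => ⟨inv_mem ha.1, by rw [inv_pow, ha.2, inv_one]⟩ }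
  have hT1 : IsPGroup s T := fun a => ⟨1, Subtype.ext (by simpa using a.2.2)⟩
  have hT2 : (P : Subgroup G) ≤ normalizer (T : Set G) := fun p hp =>
    mem_normalizer_iff.2 fun g => and_congr (mem_normalizer_iff.1 (hP hp) g) (by
      rw [conj_pow]; simp)
  have hT3 : T ≤ (P : Subgroup G) :=
    le_sup_right.trans (P.is_maximal' (P.isPGroup'.to_sup_of_normal_right' hT1 hT2) le_sup_left).le
  have hsy : s ∣ c y := hG.sd.trans hB.dvd
  refine count hs.1 (Odd.of_dvd_nat hB.odd hsy) M T hM.odd (h3 ▸ Nat.card_congr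
    (Equiv.subtypeEquivRight fun g => ⟨fun h => ⟨⟨hT3 h, h.1⟩, h.2⟩, fun h => ⟨h.1.2, h.2⟩⟩))
    (fun g => g ∈ (P : Subgroup G) ∧ g ^ s = 1) h4 ⟨one_mem _, one_pow _⟩
    (fun n hn' a ha => ?_) fun g hg g1 => ?_
  · have := hn _ (inv_mem hn') a (hT3 ha)
    rw [inv_inv] at this
    refine ⟨this, ?_⟩
    have e : (n⁻¹ * a * n⁻¹⁻¹) ^ s = 1 := by rw [conj_pow, ha.2]; simp
    rwa [inv_inv] at e
  · obtain ⟨u', hu', hc⟩ := hG.ex g g1 (hB.bdvd g1 hs.1 hsy
      (orderOf_eq_prime hg.2 g1 ▸ ord_dvd_c (mem_C.2 (Commute.refl g))))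
    obtain ⟨h, hh⟩ := hG.cj u' u hu' hu
    have h5 : h * g * h⁻¹ ∈ T := ⟨hh ▸ conj_mem_C.2 (mem_C.2 hc.symm), by
      rw [conj_pow, hg.2]; simp⟩
    obtain ⟨n, hn', e⟩ := hM.fus g hg.1 h (hT3 h5)
    exact ⟨n, hn', e ▸ h5⟩

end H27.R5
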