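/- R7: recognition of `Ω₇(q)` from a frame of seven involutions. -/
import Cfsg.Agent.H27.R7Asm
import Cfsg.Agent.H58.R7A
import Cfsg.Agent.H20.R7A6
import Cfsg.Agent.H81.R7M6
import Cfsg.Agent.H77.R7F3
import Cfsg.Agent.H10.R7B
import Cfsg.Agent.H20.R7In
import Cfsg.Agent.H21.R7Top

namespace H27.R7

universe u

theorem jobRec : JobRec.{u} :=
  jobRec_of H58.R7A.jobA5 H20.R7.jobA6 H81.R7M.jobM6 H77.R7F3.jobE H10.R7C.jobC6 H77.R7F3.jobF3
    H20.R7.jobIn H21.R7T.jobTop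

end H27.R7
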