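import Cfsg.Agent.H27.SzL

/-! Word certificates for the involution centralisers of `Suz`. -/

set_option maxRecDepth 100000
set_option Elab.async false

namespace H27.SZ

open H71 H81 H88

def cz0 : List (List ℕ) := [[],
  [12],
  [2],
  [8, 12],
  [9, 12],
  [10, 12],
  [11, 12],
  [12, 12],
  [1, 12],
  [10, 8, 12],
  [12, 8, 12],
  [1, 8, 12],
  [11, 9, 12],
  [12, 9, 12],
  [8, 10, 12],
  [11, 10, 12],
  [12, 10, 12],
  [7, 11, 12],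
  [8, 11, 12],
  [11, 11, 12],
  [12, 11, 12],
  [7, 10, 8, 12],
  [8, 10, 8, 12],
  [11, 10, 8, 12],
  [12, 10, 8, 12],
  [9, 12, 8, 12],
  [10, 12, 8, 12],
  [8, 11, 9, 12],
  [8, 12, 9, 12],
  [9, 12, 9, 12],
  [11, 12, 9, 12],
  [12, 8, 10, 12],
  [8, 12, 10, 12],
  [9, 12, 10, 12],
  [11, 12, 10, 12],
  [10, 8, 11, 12],
  [10, 11, 11, 12],
  [9, 12, 11, 12],
  [12, 12, 11, 12],
  [12, 7, 10, 8, 12],
  [8, 11, 10, 8, 12],
  [9, 11, 10, 8, 12],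
  [11, 11, 10, 8, 12],
  [12, 11, 10, 8, 12],
  [11, 12, 10, 8, 12],
  [12, 12, 10, 8, 12],
  [11, 9, 12, 8, 12],
  [12, 9, 12, 8, 12],
  [12, 8, 12, 9, 12],
  [12, 9, 12, 9, 12],
  [12, 8, 12, 10, 12],
  [9, 9, 12, 10, 12],
  [12, 9, 12, 10, 12],
  [9, 10, 8, 11, 12]]
theorem stz0 : stB 56 sg IV [1, 2, 7, 8, 9, 10, 11, 12] [[0]] [1] cz0 = true := by decide +kernel
def cz1 : List (List ℕ) := [[],
  [11],
  [4],
  [7, 11],
  [8, 11],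
  [9, 11],
  [10, 11],
  [11, 11],
  [8, 7, 11],
  [9, 7, 11],
  [10, 7, 11],
  [11, 7, 11],
  [9, 8, 11],
  [10, 8, 11],
  [9, 9, 11],
  [11, 9, 11],
  [9, 8, 7, 11],
  [10, 8, 7, 11],
  [9, 9, 7, 11],
  [11, 9, 7, 11]]
theorem stz1 : stB 56 sg IV [4, 7, 8, 9, 10, 11] [[1], [0]] [3] cz1 = true := by decide +kernel
def cz2 : List (List ℕ) := [[],
  [10],
  [3],
  [7, 10],
  [8, 10],
  [9, 10],
  [8, 7, 10],
  [9, 7, 10],
  [9, 8, 10],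
  [10, 8, 10],
  [9, 9, 10],
  [9, 8, 7, 10],
  [10, 8, 7, 10],
  [9, 9, 7, 10],
  [9, 9, 8, 10],
  [9, 9, 8, 7, 10]]
theorem stz2 : stB 56 sg IV [3, 7, 8, 9, 10] [[3], [1], [0]] [4] cz2 = true := by decide +kernel
def cz3 : List (List ℕ) := [[],
  [9],
  [7, 9],
  [8, 9],
  [9, 9],
  [8, 7, 9],
  [9, 7, 9],
  [9, 8, 9],
  [9, 8, 7, 9],
  [9, 9, 7, 9],
  [9, 9, 8, 9],
  [9, 9, 8, 7, 9]]
theorem stz3 : stB 56 sg IV [7, 8, 9] [[4], [3], [1], [0]] [5] cz3 = true := by decide +kernel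
def cz4 : List (List ℕ) := [[],
  [7],
  [8],
  [8, 7]]
theorem stz4 : stB 56 sg IV [7, 8] [[5], [4], [3], [1], [0]] [6] cz4 = true := by decide +kernel
theorem ndV0 : ndB 56 sg (prods [0, 1]) [] = true := by decide +kernel
theorem clV0 : clB 56 sg [[6], [5], [4], [3], [1], [0]] ([0, 1].map fun l => [l]) = true := by decide +kernel
def SA : List ℕ := [0, 1, 2, 3, 4, 5, 6, 7, 8, 9, 10, 11, 12]
def QL : List ℕ := [0, 1, 2, 3, 4, 5, 6]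
theorem clSA : clB 56 sg [[0]] (SA.map fun l => [l]) = true := by decide +kernel
def pfz : List (List ℕ × List ℕ × List ℕ) := [([0], [12, 7, 10, 8, 12, 10, 8, 7, 11, 9, 10, 7, 9, 7], [8, 12, 11, 9, 9, 7, 10, 9, 8, 9, 8, 0]),
  ([1], [12, 8, 12, 9, 12, 9, 9, 11, 10, 8, 7, 10, 9, 9, 7, 9, 8, 0, 1], [2, 9, 8, 7, 11, 9, 7]),
  ([2], [10, 12, 8, 12, 9, 8, 7, 11, 9, 9, 10, 9, 9, 0], [11, 12, 10, 8, 12, 8, 11, 10, 8, 7, 10, 9, 7, 9, 7, 0]),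
  ([3], [1], [12, 7, 10, 8, 12, 7, 11, 8, 9, 7, 1]),
  ([4], [2, 4, 0], [9, 10, 8, 11, 12, 11, 9, 11, 9, 9, 7, 10, 9, 8, 7, 9, 8, 0]),
  ([5], [2, 9, 9, 11, 9, 9, 7, 10, 8, 9, 7, 0], [8, 11, 10, 9, 9, 7, 0, 1]),
  ([6], [9, 9, 7, 9, 0], [10, 8, 11, 12, 10, 8, 11, 10, 8, 7, 10, 9, 9, 8, 7, 9, 8, 7]),
  ([7], [11, 11, 10, 8, 12, 10, 8, 7, 11, 9, 9, 7, 10, 9, 9, 8, 7, 9], [12, 10, 8, 12, 11, 9, 11, 9, 10, 9, 8]),
  ([8], [9, 9, 11, 8, 9, 7, 0, 1], [1, 12, 9, 9, 11, 9, 8, 7, 10, 7, 0]),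
  ([9], [8, 10, 12, 9, 9, 11, 10, 9, 9, 8, 9, 7, 0, 1], [1, 12, 9, 8, 7, 11, 10, 8, 7, 10, 7, 9, 8]),
  ([10], [12, 12, 11, 12, 11, 10, 8, 10, 9, 8, 9, 7, 0], [11, 11, 10, 8, 12, 9, 8, 7, 11, 7, 10, 9, 9, 7, 9, 7, 0, 1]),
  ([11], [8, 12, 10, 12, 11, 7, 11, 9, 7, 9, 8, 1], [12, 7, 10, 8, 12, 11, 9, 11, 9, 8, 7, 10, 9, 8, 7, 9, 0]),
  ([12], [12, 11, 12, 9, 11, 9, 9, 7, 10, 9, 9, 8, 9, 1], [12, 8, 12, 10, 12, 7, 10, 9, 8, 7, 9, 0, 1])]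
theorem pfzB : pfB 56 sg SA pfz = true := by decide +kernel
def nmQ : List (List ℕ × List (List ℕ)) := [([7], [[0], [1], [2, 0], [3], [4], [5], [6, 0]]),
  ([8], [[0], [1], [5, 4, 3, 2, 1], [3], [4], [5], [6, 1, 0]]),
  ([9], [[0], [1], [2], [3], [4], [5, 6, 4, 3], [5, 0]]),
  ([10], [[0], [1], [6, 5, 3, 2, 1], [3], [5, 6, 4, 3, 1], [6], [5, 0]]),
  ([11], [[0], [1], [3, 5, 2, 1], [6, 5, 4, 3], [4], [6], [5, 1]]),
  ([12], [[0], [4, 6, 2, 1], [3, 1], [5, 3, 2, 1], [4, 2, 0], [3, 0], [6, 2]])]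
theorem nmQB : nmB 56 sg QL nmQ = true := by decide +kernel
def X5 : List (List ℕ) := [[1], [3], [4], [5], [6]]
theorem kzQ : kzB 56 sg [0] X5 (QL.map fun l => [l]) = true := by decide +kernel
def trz : List (List ℕ × List ℕ) := [([1], [2]),
  ([3], [4]),
  ([4], [3]),
  ([5], [6, 5]),
  ([6], [5, 4, 3])]
theorem trzB : trB 56 sg [0] trz [[0]] = true := by decide +kernel
theorem trzO : allM (fun p => ovr QL p.2) trz = true := by decide +kernel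
def u128 : List (List ℕ × List ℕ × List ℕ) := [([], [], []),
  ([1], [], [1]),
  ([0], [], [0]),
  ([0, 1], [2], [1]),
  ([5, 4, 3], [10, 10, 10, 8, 8, 8, 12, 12, 12, 9, 9], [4, 3]),
  ([1, 5, 4, 3], [12, 12, 12], [4, 3]),
  ([0, 5, 4, 3], [10, 10, 10, 9, 9, 11, 11, 11, 9, 9], [4, 3]),
  ([0, 1, 5, 4, 3], [3, 12, 12, 12], [4, 3]),
  ([6, 5], [3, 11, 11, 11, 12, 12, 12, 8, 8, 8], [4, 3]),
  ([1, 6, 5], [11, 11, 11, 12, 12, 12], [4, 3]),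
  ([0, 6, 5], [11, 11, 11, 12, 12, 12, 8, 8, 8], [4, 3]),
  ([0, 1, 6, 5], [3, 11, 11, 11, 12, 12, 12], [4, 3]),
  ([5, 4, 3, 6, 5], [10, 10, 10, 8, 8, 8, 12, 12, 12], [4, 3]),
  ([1, 5, 4, 3, 6, 5], [11, 11, 11, 12, 12, 12, 9, 9], [4, 3]),
  ([0, 5, 4, 3, 6, 5], [10, 10, 10, 9, 9, 11, 11, 11], [4, 3]),
  ([0, 1, 5, 4, 3, 6, 5], [11, 11, 11, 9, 9, 10, 10, 10], [4, 3]),
  ([3], [12, 12, 12, 9, 9, 12, 12, 12, 9, 9, 12, 12, 12], [1]),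
  ([1, 3], [2, 12, 12, 12, 8, 8, 8, 10, 10, 10, 12, 12, 12], [1]),
  ([0, 3], [12, 12, 12, 10, 10, 10, 12, 12, 12, 9, 9, 12, 12, 12], [1]),
  ([0, 1, 3], [12, 12, 12, 8, 8, 8, 10, 10, 10, 12, 12, 12], [1]),
  ([5, 4, 3, 3], [3, 12, 12, 12, 10, 10, 10], [4, 3]),
  ([1, 5, 4, 3, 3], [3, 11, 11, 11, 9, 9, 11, 11, 11], [4, 3]),
  ([0, 5, 4, 3, 3], [12, 12, 12, 10, 10, 10], [4, 3]),
  ([0, 1, 5, 4, 3, 3], [11, 11, 11, 9, 9, 11, 11, 11], [4, 3]),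
  ([6, 5, 3], [11, 11, 11], [4, 3]),
  ([1, 6, 5, 3], [3, 11, 11, 11, 8, 8, 8], [4, 3]),
  ([0, 6, 5, 3], [3, 11, 11, 11], [4, 3]),
  ([0, 1, 6, 5, 3], [11, 11, 11, 8, 8, 8], [4, 3]),
  ([5, 4, 3, 6, 5, 3], [11, 11, 11, 9, 9], [4, 3]),
  ([1, 5, 4, 3, 6, 5, 3], [3, 11, 11, 11, 8, 8, 8, 9, 9], [4, 3]),
  ([0, 5, 4, 3, 6, 5, 3], [3, 11, 11, 11, 9, 9], [4, 3]),
  ([0, 1, 5, 4, 3, 6, 5, 3], [11, 11, 11, 8, 8, 8, 9, 9], [4, 3]),
  ([4], [12, 12, 12, 11, 11, 11, 12, 12, 12, 12, 12, 12], [1]),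
  ([1, 4], [12, 12, 12, 9, 9, 12, 12, 12, 8, 8, 8, 12, 12, 12], [1]),
  ([0, 4], [2, 12, 12, 12, 11, 11, 11, 12, 12, 12, 12, 12, 12], [1]),
  ([0, 1, 4], [12, 12, 12, 10, 10, 10, 12, 12, 12, 8, 8, 8, 12, 12, 12], [1]),
  ([5, 4, 3, 4], [10, 10, 10, 8, 8, 8, 9, 9, 9, 9], [4, 3]),
  ([1, 5, 4, 3, 4], [3, 12, 12, 12, 11, 11, 11], [4, 3]),
  ([0, 5, 4, 3, 4], [11, 11, 11, 9, 9, 10, 10, 10, 12, 12, 12], [4, 3]),
  ([0, 1, 5, 4, 3, 4], [12, 12, 12, 11, 11, 11], [4, 3]),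
  ([6, 5, 4], [10, 10, 10, 8, 8, 8], [4, 3]),
  ([1, 6, 5, 4], [3, 10, 10, 10], [4, 3]),
  ([0, 6, 5, 4], [3, 10, 10, 10, 8, 8, 8], [4, 3]),
  ([0, 1, 6, 5, 4], [10, 10, 10], [4, 3]),
  ([5, 4, 3, 6, 5, 4], [10, 10, 10, 8, 8, 8, 9, 9], [4, 3]),
  ([1, 5, 4, 3, 6, 5, 4], [3, 10, 10, 10, 9, 9], [4, 3]),
  ([0, 5, 4, 3, 6, 5, 4], [3, 10, 10, 10, 8, 8, 8, 9, 9], [4, 3]),
  ([0, 1, 5, 4, 3, 6, 5, 4], [10, 10, 10, 9, 9], [4, 3]),
  ([3, 4], [3], [4, 3]),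
  ([1, 3, 4], [3, 11, 11, 11, 11, 11, 11], [4, 3]),
  ([0, 3, 4], [], [4, 3]),
  ([0, 1, 3, 4], [11, 11, 11, 11, 11, 11], [4, 3]),
  ([5, 4, 3, 3, 4], [12, 12, 12, 10, 10, 10, 12, 12, 12, 9, 9], [1]),
  ([1, 5, 4, 3, 3, 4], [12, 12, 12, 9, 9, 12, 12, 12, 11, 11, 11], [1]),
  ([0, 5, 4, 3, 3, 4], [12, 12, 12, 9, 9, 12, 12, 12, 9, 9], [1]),
  ([0, 1, 5, 4, 3, 3, 4], [12, 12, 12, 10, 10, 10, 12, 12, 12, 11, 11, 11], [1]),
  ([6, 5, 3, 4], [12, 12, 12, 10, 10, 10, 12, 12, 12, 9, 9, 9, 9], [1]),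
  ([1, 6, 5, 3, 4], [12, 12, 12, 8, 8, 8, 10, 10, 10, 12, 12, 12, 11, 11, 11], [1]),
  ([0, 6, 5, 3, 4], [12, 12, 12, 8, 8, 8, 10, 10, 10, 12, 12, 12, 12, 12, 12], [1]),
  ([0, 1, 6, 5, 3, 4], [12, 12, 12, 8, 8, 8, 10, 10, 10, 11, 11, 11, 12, 12, 12], [1]),
  ([5, 4, 3, 6, 5, 3, 4], [12, 12, 12, 10, 10, 10, 12, 12, 12], [1]),
  ([1, 5, 4, 3, 6, 5, 3, 4], [12, 12, 12, 9, 9, 12, 12, 12, 8, 8, 8], [1]),
  ([0, 5, 4, 3, 6, 5, 3, 4], [12, 12, 12, 9, 9, 12, 12, 12], [1]),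
  ([0, 1, 5, 4, 3, 6, 5, 3, 4], [12, 12, 12, 10, 10, 10, 12, 12, 12, 8, 8, 8], [1]),
  ([2], [2, 12, 12, 12, 8, 8, 8, 10, 10, 10], [1]),
  ([1, 2], [10, 10, 10, 9, 9, 12, 12, 12, 8, 8, 8], [4, 3]),
  ([0, 2], [12, 12, 12, 8, 8, 8, 10, 10, 10], [1]),
  ([0, 1, 2], [10, 10, 10, 9, 9, 12, 12, 12, 11, 11, 11], [4, 3]),
  ([5, 4, 3, 2], [10, 10, 10, 9, 9, 12, 12, 12], [4, 3]),
  ([1, 5, 4, 3, 2], [2, 12, 12, 12, 8, 8, 8, 12, 12, 12], [1]),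
  ([0, 5, 4, 3, 2], [3, 10, 10, 10, 9, 9, 12, 12, 12], [4, 3]),
  ([0, 1, 5, 4, 3, 2], [12, 12, 12, 8, 8, 8, 12, 12, 12], [1]),
  ([6, 5, 2], [3, 12, 12, 12, 12, 12, 12], [4, 3]),
  ([1, 6, 5, 2], [12, 12, 12, 11, 11, 11, 12, 12, 12], [1]),
  ([0, 6, 5, 2], [12, 12, 12, 12, 12, 12], [4, 3]),
  ([0, 1, 6, 5, 2], [2, 12, 12, 12, 11, 11, 11, 12, 12, 12], [1]),
  ([5, 4, 3, 6, 5, 2], [12, 12, 12, 12, 12, 12, 8, 8, 8], [4, 3]),
  ([1, 5, 4, 3, 6, 5, 2], [12, 12, 12, 11, 11, 11, 12, 12, 12, 9, 9], [1]),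
  ([0, 5, 4, 3, 6, 5, 2], [12, 12, 12, 12, 12, 12, 9, 9], [4, 3]),
  ([0, 1, 5, 4, 3, 6, 5, 2], [12, 12, 12, 8, 8, 8, 12, 12, 12, 10, 10, 10], [1]),
  ([3, 2], [2, 12, 12, 12, 12, 12, 12], [1]),
  ([1, 3, 2], [3, 10, 10, 10, 12, 12, 12], [4, 3]),
  ([0, 3, 2], [12, 12, 12, 12, 12, 12], [1]),
  ([0, 1, 3, 2], [10, 10, 10, 12, 12, 12], [4, 3]),
  ([5, 4, 3, 3, 2], [10, 10, 10, 12, 12, 12, 8, 8, 8], [4, 3]),
  ([1, 5, 4, 3, 3, 2], [12, 12, 12, 10, 10, 10], [1]),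
  ([0, 5, 4, 3, 3, 2], [3, 10, 10, 10, 12, 12, 12, 8, 8, 8], [4, 3]),
  ([0, 1, 5, 4, 3, 3, 2], [12, 12, 12, 9, 9], [1]),
  ([6, 5, 3, 2], [11, 11, 11, 11, 11, 11, 12, 12, 12], [4, 3]),
  ([1, 6, 5, 3, 2], [2, 12, 12, 12, 8, 8, 8], [1]),
  ([0, 6, 5, 3, 2], [3, 11, 11, 11, 11, 11, 11, 12, 12, 12], [4, 3]),
  ([0, 1, 6, 5, 3, 2], [12, 12, 12, 8, 8, 8], [1]),
  ([5, 4, 3, 6, 5, 3, 2], [10, 10, 10, 12, 12, 12, 11, 11, 11], [4, 3]),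
  ([1, 5, 4, 3, 6, 5, 3, 2], [2, 12, 12, 12], [1]),
  ([0, 5, 4, 3, 6, 5, 3, 2], [3, 10, 10, 10, 12, 12, 12, 11, 11, 11], [4, 3]),
  ([0, 1, 5, 4, 3, 6, 5, 3, 2], [12, 12, 12], [1]),
  ([4, 2], [12, 12, 12, 8, 8, 8, 10, 10, 10, 11, 11, 11, 8, 8, 8], [1]),
  ([1, 4, 2], [10, 10, 10, 12, 12, 12, 8, 8, 8, 12, 12, 12], [4, 3]),
  ([0, 4, 2], [12, 12, 12, 8, 8, 8, 10, 10, 10, 11, 11, 11, 11, 11, 11], [1]),
  ([0, 1, 4, 2], [3, 10, 10, 10, 12, 12, 12, 8, 8, 8, 12, 12, 12], [4, 3]),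
  ([5, 4, 3, 4, 2], [12, 12, 12, 12, 12, 12, 11, 11, 11, 9, 9], [4, 3]),
  ([1, 5, 4, 3, 4, 2], [12, 12, 12, 8, 8, 8, 10, 10, 10, 11, 11, 11], [1]),
  ([0, 5, 4, 3, 4, 2], [3, 12, 12, 12, 12, 12, 12, 11, 11, 11, 9, 9], [4, 3]),
  ([0, 1, 5, 4, 3, 4, 2], [12, 12, 12, 11, 11, 11, 8, 8, 8, 10, 10, 10], [1]),
  ([6, 5, 4, 2], [12, 12, 12, 12, 12, 12, 9, 9, 12, 12, 12], [4, 3]),
  ([1, 6, 5, 4, 2], [12, 12, 12, 8, 8, 8, 10, 10, 10, 11, 11, 11, 9, 9], [1]),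
  ([0, 6, 5, 4, 2], [12, 12, 12, 12, 12, 12, 8, 8, 8, 12, 12, 12], [4, 3]),
  ([0, 1, 6, 5, 4, 2], [12, 12, 12, 11, 11, 11, 8, 8, 8, 10, 10, 10, 9, 9], [1]),
  ([5, 4, 3, 6, 5, 4, 2], [12, 12, 12, 12, 12, 12, 11, 11, 11], [4, 3]),
  ([1, 5, 4, 3, 6, 5, 4, 2], [2, 12, 12, 12, 11, 11, 11, 11, 11, 11, 10, 10, 10], [1]),
  ([0, 5, 4, 3, 6, 5, 4, 2], [3, 12, 12, 12, 12, 12, 12, 11, 11, 11], [4, 3]),
  ([0, 1, 5, 4, 3, 6, 5, 4, 2], [12, 12, 12, 11, 11, 11, 11, 11, 11, 10, 10, 10], [1]),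
  ([3, 4, 2], [3, 12, 12, 12, 10, 10, 10, 12, 12, 12], [4, 3]),
  ([1, 3, 4, 2], [12, 12, 12, 11, 11, 11], [1]),
  ([0, 3, 4, 2], [12, 12, 12, 10, 10, 10, 12, 12, 12], [4, 3]),
  ([0, 1, 3, 4, 2], [2, 12, 12, 12, 11, 11, 11], [1]),
  ([5, 4, 3, 3, 4, 2], [2, 12, 12, 12, 11, 11, 11, 8, 8, 8], [1]),
  ([1, 5, 4, 3, 3, 4, 2], [12, 12, 12, 10, 10, 10, 12, 12, 12, 8, 8, 8], [4, 3]),
  ([0, 5, 4, 3, 3, 4, 2], [12, 12, 12, 11, 11, 11, 8, 8, 8], [1]),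
  ([0, 1, 5, 4, 3, 3, 4, 2], [3, 12, 12, 12, 10, 10, 10, 12, 12, 12, 8, 8, 8], [4, 3]),
  ([6, 5, 3, 4, 2], [12, 12, 12, 10, 10, 10, 11, 11, 11], [1]),
  ([1, 6, 5, 3, 4, 2], [10, 10, 10, 9, 9, 11, 11, 11, 12, 12, 12], [4, 3]),
  ([0, 6, 5, 3, 4, 2], [12, 12, 12, 9, 9, 11, 11, 11], [1]),
  ([0, 1, 6, 5, 3, 4, 2], [10, 10, 10, 8, 8, 8, 12, 12, 12, 12, 12, 12], [4, 3]),
  ([5, 4, 3, 6, 5, 3, 4, 2], [2, 12, 12, 12, 11, 11, 11, 11, 11, 11], [1]),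
  ([1, 5, 4, 3, 6, 5, 3, 4, 2], [12, 12, 12, 12, 12, 12, 12, 12, 12], [4, 3]),
  ([0, 5, 4, 3, 6, 5, 3, 4, 2], [12, 12, 12, 11, 11, 11, 11, 11, 11], [1]),
  ([0, 1, 5, 4, 3, 6, 5, 3, 4, 2], [3, 12, 12, 12, 12, 12, 12, 12, 12, 12], [4, 3])]
theorem u128B : cjB 56 sg SA u128 = true := by decide +kernel
theorem u128W : u128.map Prod.fst = wgen (prods [0, 1]) trz [] := by decide +kernel
def f0 : List ℕ := [4, 3]
theorem u128R : ∀ e ∈ u128, e.2.2 = [] ∨ e.2.2 = [0] ∨ e.2.2 = [1] ∨ e.2.2 = f0 := by decide +kernel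
def cf : List ℕ × List ℕ × List ℕ := ([4, 3], [11, 11, 3], [3, 4, 1])
theorem cfB : cjB 56 sg SA [cf] = true := by decide +kernel
theorem cfE : eqS 56 sg (f0 ++ cf.2.2) [1] = true := by decide +kernel
theorem clS : clB 56 sg [[0]] [[13, 6, 13], [13, 5, 13], [13, 4, 13], [13, 3, 13], [13, 1, 13], [13, 0, 13]] = true := by decide +kernel
def a1 : List ℕ := [8, 10, 8]
def a2 : List ℕ := [12, 8, 12]
theorem o1 : eqS 56 sg (H80.KF.rep (13 :: a1) 10) [] = true := by decide +kernel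
theorem o1n : neS 56 sg (H80.KF.rep (13 :: 0 :: a1) 10) [] = true := by decide +kernel
theorem o2 : eqS 56 sg (H80.KF.rep (13 :: a2) 13) [] = true := by decide +kernel
theorem o2n : neS 56 sg (H80.KF.rep (13 :: 0 :: 1 :: a2) 13) [] = true := by decide +kernel
def g1 : List (List ℕ × List ℕ) := [([28], [12, 13, 11, 10, 12, 13, 12, 12, 10, 8, 12, 13, 9, 11, 10, 8, 12, 13, 1, 8, 12, 11, 11, 9, 9, 8, 7, 0]),
  ([29], [10, 12, 13, 12, 12, 2, 13, 12, 12, 2, 13, 12, 12, 2, 13, 11, 11, 12, 9, 8, 7, 11, 10, 8, 10, 9, 9, 8, 9, 7, 1]),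
  ([30], [8, 11, 12, 13, 12, 9, 12, 9, 12, 13, 9, 12, 11, 9, 8, 10, 8, 0]),
  ([31], [2, 13, 12, 13, 11, 11, 12, 2, 13, 11, 9, 12, 13, 12, 11, 12, 11, 11, 9, 9, 8, 10, 9, 9, 0, 1]),
  ([32], [13, 11, 12, 13, 12, 11, 10, 8, 12, 13, 8, 11, 12, 13, 12, 11, 12, 11, 9, 11, 3, 9, 7, 0, 1]),
  ([33], [12, 2, 13, 12, 13, 9, 12, 13, 12, 10, 8, 12, 13, 9, 10, 8, 11, 12, 9, 9, 7, 11, 10, 8, 10, 9, 9, 8, 9, 1]),
  ([34], [12, 12, 13, 11, 12, 10, 8, 12, 13, 1, 8, 12, 11, 9, 7, 11, 10, 8, 10, 7, 9, 8, 7, 0])]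
theorem g1B : gnB 56 sg (13 :: SA) g1 = true := by decide +kernel
def PL : List ℕ := [20, 21, 22, 23, 24, 25, 26, 27]
def AL : List ℕ := [14, 15, 20, 21, 22, 23]
def EL : List ℕ := [20, 21, 22, 23]
def TL : List ℕ := [14, 15, 20, 21, 22, 23, 24, 25]
def cb0 : List (List ℕ) := [[],
  [26],
  [27],
  [24, 26],
  [25, 26],
  [27, 26],
  [21, 27],
  [23, 27],
  [26, 27],
  [25, 24, 26],
  [27, 24, 26],
  [26, 25, 26],
  [27, 25, 26],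
  [21, 27, 26],
  [22, 27, 26],
  [23, 27, 26],
  [26, 27, 26],
  [23, 21, 27],
  [26, 21, 27],
  [26, 23, 27],
  [27, 23, 27],
  [21, 26, 27],
  [24, 26, 27],
  [25, 26, 27],
  [27, 26, 27],
  [26, 25, 24, 26],
  [21, 27, 24, 26],
  [23, 27, 24, 26],
  [26, 27, 24, 26],
  [24, 26, 25, 26],
  [25, 26, 25, 26],
  [27, 26, 25, 26],
  [21, 27, 25, 26],
  [23, 27, 25, 26],
  [26, 27, 25, 26],
  [22, 21, 27, 26],
  [23, 21, 27, 26],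
  [26, 21, 27, 26],
  [23, 22, 27, 26],
  [26, 22, 27, 26],
  [26, 23, 27, 26],
  [27, 23, 27, 26],
  [20, 26, 27, 26],
  [21, 26, 27, 26],
  [22, 26, 27, 26],
  [23, 26, 27, 26],
  [24, 26, 27, 26],
  [25, 26, 27, 26],
  [27, 26, 27, 26],
  [27, 23, 21, 27],
  [24, 26, 21, 27],
  [25, 26, 21, 27],
  [27, 26, 21, 27],
  [24, 26, 23, 27],
  [25, 26, 23, 27],
  [27, 26, 23, 27],
  [21, 27, 23, 27],
  [23, 27, 23, 27],
  [26, 27, 23, 27],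
  [24, 21, 26, 27],
  [25, 21, 26, 27],
  [27, 21, 26, 27],
  [25, 24, 26, 27],
  [27, 24, 26, 27],
  [26, 25, 26, 27],
  [20, 27, 26, 27],
  [21, 27, 26, 27],
  [22, 27, 26, 27],
  [23, 27, 26, 27],
  [25, 27, 26, 27],
  [24, 26, 25, 24, 26],
  [25, 26, 25, 24, 26],
  [27, 26, 25, 24, 26],
  [23, 21, 27, 24, 26],
  [27, 23, 27, 24, 26],
  [21, 26, 27, 24, 26],
  [24, 26, 27, 24, 26],
  [25, 24, 26, 25, 26],
  [27, 24, 26, 25, 26],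
  [27, 25, 26, 25, 26],
  [21, 27, 26, 25, 26],
  [22, 27, 26, 25, 26],
  [23, 27, 26, 25, 26],
  [26, 27, 26, 25, 26],
  [23, 21, 27, 25, 26],
  [26, 23, 27, 25, 26],
  [27, 23, 27, 25, 26],
  [21, 26, 27, 25, 26],
  [22, 26, 27, 25, 26],
  [25, 26, 27, 25, 26],
  [27, 26, 27, 25, 26],
  [23, 22, 21, 27, 26],
  [27, 23, 21, 27, 26],
  [22, 26, 21, 27, 26],
  [24, 26, 21, 27, 26],
  [25, 26, 21, 27, 26],
  [27, 26, 21, 27, 26],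
  [27, 23, 22, 27, 26],
  [24, 26, 22, 27, 26],
  [25, 26, 22, 27, 26],
  [27, 26, 22, 27, 26],
  [25, 26, 23, 27, 26],
  [21, 27, 23, 27, 26],
  [23, 27, 23, 27, 26],
  [26, 27, 23, 27, 26],
  [25, 20, 26, 27, 26],
  [25, 21, 26, 27, 26],
  [27, 21, 26, 27, 26],
  [24, 22, 26, 27, 26],
  [25, 22, 26, 27, 26],
  [24, 23, 26, 27, 26],
  [25, 23, 26, 27, 26],
  [27, 23, 26, 27, 26],
  [23, 24, 26, 27, 26],
  [25, 24, 26, 27, 26],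
  [26, 25, 26, 27, 26],
  [25, 27, 26, 27, 26],
  [21, 27, 23, 21, 27],
  [23, 27, 23, 21, 27],
  [26, 27, 23, 21, 27],
  [25, 24, 26, 21, 27],
  [26, 25, 26, 21, 27],
  [26, 25, 26, 23, 27],
  [27, 25, 26, 23, 27],
  [24, 27, 26, 23, 27],
  [26, 27, 26, 23, 27],
  [23, 21, 27, 23, 27],
  [26, 21, 27, 23, 27],
  [26, 23, 27, 23, 27],
  [21, 26, 27, 23, 27],
  [24, 26, 27, 23, 27],
  [25, 26, 27, 23, 27],
  [27, 26, 27, 23, 27],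
  [25, 24, 21, 26, 27],
  [26, 25, 21, 26, 27],
  [23, 27, 21, 26, 27],
  [26, 27, 21, 26, 27],
  [26, 25, 24, 26, 27],
  [26, 27, 24, 26, 27],
  [24, 26, 25, 26, 27],
  [25, 26, 25, 26, 27],
  [27, 26, 25, 26, 27],
  [23, 21, 27, 26, 27],
  [25, 21, 27, 26, 27],
  [23, 22, 27, 26, 27],
  [27, 23, 27, 26, 27],
  [21, 25, 27, 26, 27],
  [23, 25, 27, 26, 27],
  [26, 25, 27, 26, 27],
  [25, 24, 26, 25, 24, 26],
  [27, 24, 26, 25, 24, 26],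
  [26, 25, 26, 25, 24, 26],
  [27, 25, 26, 25, 24, 26],
  [21, 27, 26, 25, 24, 26],
  [22, 27, 26, 25, 24, 26],
  [23, 27, 26, 25, 24, 26],
  [26, 27, 26, 25, 24, 26],
  [27, 23, 21, 27, 24, 26],
  [26, 27, 23, 27, 24, 26],
  [25, 21, 26, 27, 24, 26],
  [23, 24, 26, 27, 24, 26],
  [26, 25, 24, 26, 25, 26],
  [21, 27, 24, 26, 25, 26],
  [23, 27, 24, 26, 25, 26],
  [26, 27, 24, 26, 25, 26],
  [26, 27, 25, 26, 25, 26],
  [22, 21, 27, 26, 25, 26],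
  [26, 21, 27, 26, 25, 26],
  [23, 22, 27, 26, 25, 26],
  [26, 22, 27, 26, 25, 26],
  [26, 23, 27, 26, 25, 26],
  [27, 23, 27, 26, 25, 26],
  [20, 26, 27, 26, 25, 26],
  [22, 26, 27, 26, 25, 26],
  [23, 26, 27, 26, 25, 26],
  [24, 26, 27, 26, 25, 26],
  [25, 26, 27, 26, 25, 26],
  [27, 26, 27, 26, 25, 26],
  [25, 26, 23, 27, 25, 26],
  [27, 26, 23, 27, 25, 26],
  [26, 27, 23, 27, 25, 26],
  [25, 21, 26, 27, 25, 26],
  [27, 21, 26, 27, 25, 26],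
  [25, 22, 26, 27, 25, 26],
  [27, 22, 26, 27, 25, 26],
  [26, 25, 26, 27, 25, 26],
  [27, 25, 26, 27, 25, 26],
  [20, 27, 26, 27, 25, 26],
  [21, 27, 26, 27, 25, 26],
  [22, 27, 26, 27, 25, 26],
  [23, 27, 26, 27, 25, 26],
  [24, 27, 26, 27, 25, 26],
  [25, 27, 26, 27, 25, 26],
  [27, 23, 22, 21, 27, 26],
  [21, 27, 23, 21, 27, 26],
  [26, 27, 23, 21, 27, 26],
  [25, 22, 26, 21, 27, 26],
  [27, 22, 26, 21, 27, 26],
  [26, 25, 26, 21, 27, 26],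
  [27, 25, 26, 21, 27, 26],
  [20, 27, 26, 21, 27, 26],
  [23, 27, 26, 21, 27, 26],
  [26, 27, 26, 21, 27, 26],
  [26, 27, 23, 22, 27, 26],
  [25, 24, 26, 22, 27, 26],
  [27, 24, 26, 22, 27, 26],
  [26, 25, 26, 22, 27, 26],
  [20, 27, 26, 22, 27, 26],
  [21, 27, 26, 22, 27, 26],
  [22, 27, 26, 22, 27, 26],
  [23, 27, 26, 22, 27, 26],
  [25, 27, 26, 22, 27, 26],
  [26, 27, 26, 22, 27, 26],
  [26, 25, 26, 23, 27, 26],
  [26, 21, 27, 23, 27, 26],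
  [23, 26, 27, 23, 27, 26],
  [25, 26, 27, 23, 27, 26],
  [27, 26, 27, 23, 27, 26],
  [26, 25, 20, 26, 27, 26],
  [26, 25, 21, 26, 27, 26],
  [26, 27, 21, 26, 27, 26],
  [26, 25, 22, 26, 27, 26],
  [25, 24, 23, 26, 27, 26],
  [27, 25, 23, 26, 27, 26],
  [25, 23, 24, 26, 27, 26],
  [26, 25, 24, 26, 27, 26],
  [21, 26, 25, 26, 27, 26],
  [26, 25, 27, 26, 27, 26],
  [23, 21, 27, 23, 21, 27],
  [26, 21, 27, 23, 21, 27],
  [26, 23, 27, 23, 21, 27],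
  [21, 26, 27, 23, 21, 27],
  [24, 26, 27, 23, 21, 27],
  [27, 26, 27, 23, 21, 27],
  [26, 25, 24, 26, 21, 27],
  [27, 26, 25, 26, 21, 27],
  [24, 26, 25, 26, 23, 27],
  [25, 26, 25, 26, 23, 27],
  [27, 26, 25, 26, 23, 27],
  [23, 27, 25, 26, 23, 27],
  [26, 27, 25, 26, 23, 27],
  [23, 24, 27, 26, 23, 27],
  [26, 24, 27, 26, 23, 27],
  [20, 26, 27, 26, 23, 27],
  [21, 26, 27, 26, 23, 27],
  [24, 26, 27, 26, 23, 27],
  [25, 26, 27, 26, 23, 27],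
  [27, 26, 27, 26, 23, 27],
  [27, 26, 21, 27, 23, 27],
  [27, 26, 23, 27, 23, 27],
  [24, 21, 26, 27, 23, 27],
  [25, 21, 26, 27, 23, 27],
  [27, 21, 26, 27, 23, 27],
  [27, 24, 26, 27, 23, 27],
  [26, 25, 26, 27, 23, 27],
  [27, 25, 26, 27, 23, 27],
  [20, 27, 26, 27, 23, 27],
  [21, 27, 26, 27, 23, 27],
  [22, 27, 26, 27, 23, 27],
  [23, 27, 26, 27, 23, 27],
  [25, 27, 26, 27, 23, 27],
  [26, 25, 24, 21, 26, 27],
  [27, 23, 27, 21, 26, 27],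
  [22, 26, 27, 21, 26, 27],
  [23, 26, 27, 21, 26, 27],
  [24, 26, 27, 21, 26, 27],
  [25, 26, 27, 21, 26, 27],
  [27, 26, 27, 21, 26, 27],
  [24, 26, 25, 24, 26, 27],
  [27, 26, 25, 24, 26, 27],
  [21, 26, 27, 24, 26, 27],
  [25, 26, 27, 24, 26, 27],
  [27, 26, 27, 24, 26, 27],
  [27, 24, 26, 25, 26, 27],
  [23, 27, 26, 25, 26, 27],
  [25, 27, 26, 25, 26, 27],
  [23, 27, 23, 27, 26, 27],
  [24, 27, 23, 27, 26, 27],
  [24, 26, 25, 27, 26, 27],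
  [21, 27, 24, 26, 25, 24, 26],
  [21, 27, 25, 26, 25, 24, 26],
  [23, 21, 27, 26, 25, 24, 26],
  [26, 21, 27, 26, 25, 24, 26],
  [20, 26, 27, 26, 25, 24, 26],
  [24, 26, 27, 26, 25, 24, 26],
  [24, 26, 27, 23, 27, 24, 26],
  [25, 26, 27, 23, 27, 24, 26],
  [27, 26, 27, 25, 26, 25, 26],
  [24, 26, 21, 27, 26, 25, 26],
  [25, 26, 21, 27, 26, 25, 26],
  [27, 23, 22, 27, 26, 25, 26],
  [24, 26, 22, 27, 26, 25, 26],
  [25, 26, 22, 27, 26, 25, 26],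
  [25, 26, 23, 27, 26, 25, 26],
  [25, 20, 26, 27, 26, 25, 26],
  [24, 22, 26, 27, 26, 25, 26],
  [25, 22, 26, 27, 26, 25, 26],
  [20, 27, 26, 27, 26, 25, 26],
  [24, 27, 26, 27, 26, 25, 26],
  [25, 27, 26, 27, 26, 25, 26],
  [27, 26, 27, 23, 27, 25, 26],
  [23, 27, 25, 26, 27, 25, 26],
  [23, 20, 27, 26, 27, 25, 26],
  [25, 21, 27, 26, 27, 25, 26],
  [23, 22, 27, 26, 27, 25, 26],
  [25, 23, 27, 26, 27, 25, 26],
  [21, 25, 27, 26, 27, 25, 26],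
  [26, 27, 22, 26, 21, 27, 26],
  [23, 27, 25, 26, 21, 27, 26],
  [25, 26, 27, 23, 22, 27, 26],
  [26, 25, 24, 26, 22, 27, 26],
  [23, 21, 27, 26, 22, 27, 26],
  [23, 22, 27, 26, 22, 27, 26],
  [24, 26, 23, 27, 23, 21, 27],
  [26, 25, 21, 26, 27, 23, 27]]
theorem stb0 : stB 56 sg IV [20, 21, 22, 23, 24, 25, 26, 27] [[14]] [20] cb0 = true := by decide +kernel
def cb1 : List (List ℕ) := [[],
  [17],
  [24],
  [25],
  [21, 17],
  [23, 17],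
  [25, 24],
  [23, 21, 17]]
theorem stb1 : stB 56 sg IV [17, 21, 23, 24, 25] [[20], [14]] [21] cb1 = true := by decide +kernel
def cb2 : List (List ℕ) := [[],
  [20],
  [21],
  [22],
  [23],
  [21, 20],
  [22, 20],
  [23, 20],
  [22, 21],
  [23, 21],
  [23, 22],
  [22, 21, 20],
  [23, 21, 20],
  [23, 22, 20],
  [23, 22, 21],
  [23, 22, 21, 20]]
theorem stb2 : stB 56 sg IV [20, 21, 22, 23] [[21], [20], [14]] [19] cb2 = true := by decide +kernel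
def cb3 : List (List ℕ) := [[],
  [14],
  [15],
  [20],
  [21],
  [22],
  [23],
  [15, 14],
  [20, 14],
  [21, 14],
  [22, 14],
  [23, 14],
  [20, 15],
  [21, 15],
  [22, 15],
  [23, 15],
  [21, 20],
  [22, 20],
  [23, 20],
  [22, 21],
  [23, 21],
  [23, 22],
  [20, 15, 14],
  [21, 15, 14],
  [22, 15, 14],
  [23, 15, 14],
  [21, 20, 14],
  [22, 20, 14],
  [23, 20, 14],
  [22, 21, 14],
  [23, 21, 14],
  [23, 22, 14],
  [21, 20, 15],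
  [22, 20, 15],
  [23, 20, 15],
  [22, 21, 15],
  [23, 21, 15],
  [23, 22, 15],
  [22, 21, 20],
  [23, 21, 20],
  [23, 22, 20],
  [23, 22, 21],
  [21, 20, 15, 14],
  [22, 20, 15, 14],
  [23, 20, 15, 14],
  [22, 21, 15, 14],
  [23, 21, 15, 14],
  [23, 22, 15, 14],
  [22, 21, 20, 14],
  [23, 21, 20, 14],
  [23, 22, 20, 14],
  [23, 22, 21, 14],
  [22, 21, 20, 15],
  [23, 21, 20, 15],
  [23, 22, 20, 15],
  [23, 22, 21, 15],
  [23, 22, 21, 20],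
  [22, 21, 20, 15, 14],
  [23, 21, 20, 15, 14],
  [23, 22, 20, 15, 14],
  [23, 22, 21, 15, 14],
  [23, 22, 21, 20, 14],
  [23, 22, 21, 20, 15],
  [23, 22, 21, 20, 15, 14]]
theorem stb3 : stB 56 sg IV [14, 15, 20, 21, 22, 23] [[21], [20], [14]] [16, 19] cb3 = true := by decide +kernel
def cb4 : List (List ℕ) := [[],
  [17]]
theorem stb4 : stB 56 sg IV [17] [[20], [14]] [15] cb4 = true := by decide +kernel
theorem ndV : ndB 56 sg (prods [14, 15]) [] = true := by decide +kernel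
theorem ndA : ndB 56 sg (prods AL) [] = true := by decide +kernel
theorem ndT : ndB 56 sg (prods TL) [] = true := by decide +kernel
theorem ndE : ndB 56 sg (prods EL) [] = true := by decide +kernel
theorem clP : clB 56 sg (PL.map fun l => [l]) ([14, 15, 16].map fun l => [l]) = true := by decide +kernel
theorem clV : clB 56 sg [[19], [21], [20], [14]] ([14, 15].map fun l => [l]) = true := by decide +kernel
theorem clA : clB 56 sg [[21], [20], [14]] (AL.map fun l => [l]) = true := by decide +kernel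
theorem clT : clB 56 sg [[15], [20], [14]] (TL.map fun l => [l]) = true := by decide +kernel
theorem clg : clB 56 sg [[16, 19], [20], [21], [22], [23]] [[18]] = true := by decide +kernel
theorem cls17 : clB 56 sg [[20], [14]] [[17]] = true := by decide +kernel
def cP : List (List ℕ × List ℕ × List ℕ) := [([20], [], [20]),
  ([20], [25, 26], [21]),
  ([20], [26, 25, 26, 25, 24, 26], [22]),
  ([20], [26, 25, 24, 26], [23]),
  ([20], [23, 27], [24]),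
  ([20], [27, 23, 21, 27], [25]),
  ([20], [24, 26, 23, 27], [26]),
  ([20], [21, 27, 25, 26], [27])]
theorem cPB : cjB 56 sg PL cP = true := by decide +kernel
def pfu : List (List ℕ × List ℕ × List ℕ) := [([20], [26, 24], [22, 21, 20])]
theorem pfuB : pfB 56 sg PL pfu = true := by decide +kernel
def nmP : List (List ℕ × List (List ℕ)) := [([17], [[20], [24], [22, 20], [25], [21], [23], [27], [26]])]
theorem nmPB : nmB 56 sg PL nmP = true := by decide +kernel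
def nmA : List (List ℕ × List (List ℕ)) := [([18], [[21, 20, 14], [23, 22, 21, 20, 15], [20], [21], [22], [23]]),
  ([16, 19], [[15], [15, 14], [22, 21, 20], [23], [23, 20], [23, 21]])]
theorem nmAB : nmB 56 sg AL nmA = true := by decide +kernel
theorem sqA : allM (fun w => eqS 56 sg (w ++ w) []) (prods AL) = true := by decide +kernel
theorem triT : allM (fun w => cmS 56 sg w [21] || cmS 56 sg w [24] || neS 56 sg (w ++ w) []) (prods TL) = true := by decide +kernel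
def u16 : List (List ℕ × List ℕ × List ℕ) := [([], [], []),
  ([23], [26, 24, 25, 26], [20]),
  ([22], [26, 24, 25, 26, 25, 26], [20]),
  ([22, 23], [26, 24, 25, 26, 24], [20]),
  ([21], [26, 25], [20]),
  ([21, 23], [26, 25, 26, 24], [20]),
  ([21, 22], [26, 24], [20]),
  ([21, 22, 23], [26, 25, 26, 24, 25], [20]),
  ([20], [], [20]),
  ([20, 23], [26, 24, 25, 26, 25], [20]),
  ([20, 22], [26, 25, 26, 24, 25, 26], [20]),
  ([20, 22, 23], [26, 24, 25, 26, 24, 25], [20]),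
  ([20, 21], [26, 24, 25], [20]),
  ([20, 21, 23], [26, 25, 26, 25], [20]),
  ([20, 21, 22], [26], [20]),
  ([20, 21, 22, 23], [26, 25, 26], [20])]
theorem u16B : cjB 56 sg PL u16 = true := by decide +kernel
theorem u16W : u16.map Prod.fst = prods EL := by decide +kernel
theorem u16R : ∀ e ∈ u16, e.2.2 = [] ∨ e.2.2 = [20] := by decide +kernel
def u48 : List (List ℕ × List ℕ × List ℕ) := [([15], [16, 16], [14]),
  ([15, 23], [18, 16, 16, 26], [14]),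
  ([15, 22], [16, 16, 18, 25, 18], [14]),
  ([15, 22, 23], [18, 16, 16, 18], [14]),
  ([15, 21], [18, 16, 16, 24], [14]),
  ([15, 21, 23], [16, 16, 18, 24], [14]),
  ([15, 21, 22], [18, 16, 16, 25], [14]),
  ([15, 21, 22, 23], [16, 16, 18, 24, 25], [14]),
  ([15, 20], [18, 16, 16, 25, 19, 19], [14]),
  ([15, 20, 23], [18, 16, 16, 25, 18], [14]),
  ([15, 20, 22], [18, 25, 18, 16, 16], [14]),
  ([15, 20, 22, 23], [18, 16, 16, 18, 25], [14]),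
  ([15, 20, 21], [18, 16, 16], [14]),
  ([15, 20, 21, 23], [16, 16, 18, 25], [14]),
  ([15, 20, 21, 22], [18, 16, 16, 24, 25], [14]),
  ([15, 20, 21, 22, 23], [16, 16, 18], [14]),
  ([14], [], [14]),
  ([14, 23], [18, 26], [14]),
  ([14, 22], [18, 24, 25, 18], [14]),
  ([14, 22, 23], [18, 19, 19, 18], [14]),
  ([14, 21], [18, 24], [14]),
  ([14, 21, 23], [18, 19, 19, 24], [14]),
  ([14, 21, 22], [18, 25], [14]),
  ([14, 21, 22, 23], [18, 19, 19, 24, 25], [14]),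
  ([14, 20], [18, 24, 18], [14]),
  ([14, 20, 23], [18, 26, 25], [14]),
  ([14, 20, 22], [18, 25, 18], [14]),
  ([14, 20, 22, 23], [18, 19, 19, 18, 25], [14]),
  ([14, 20, 21], [18], [14]),
  ([14, 20, 21, 23], [18, 19, 19, 25], [14]),
  ([14, 20, 21, 22], [18, 24, 25], [14]),
  ([14, 20, 21, 22, 23], [18, 19, 19], [14]),
  ([14, 15], [16, 16, 16, 16], [14]),
  ([14, 15, 23], [18, 16, 16, 16, 16, 26], [14]),
  ([14, 15, 22], [18, 16, 16, 16, 16, 26, 18], [14]),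
  ([14, 15, 22, 23], [16, 16, 16, 16, 18], [14]),
  ([14, 15, 21], [18, 16, 16, 16, 16, 24], [14]),
  ([14, 15, 21, 23], [16, 16, 18, 16, 16, 24], [14]),
  ([14, 15, 21, 22], [18, 16, 16, 16, 16, 25], [14]),
  ([14, 15, 21, 22, 23], [18, 16, 16, 16, 16, 24, 18], [14]),
  ([14, 15, 20], [18, 16, 16, 16, 16, 25, 19, 19], [14]),
  ([14, 15, 20, 23], [18, 16, 16, 16, 16, 26, 25], [14]),
  ([14, 15, 20, 22], [18, 25, 18, 16, 16, 16, 16], [14]),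
  ([14, 15, 20, 22, 23], [16, 16, 16, 16, 18, 25], [14]),
  ([14, 15, 20, 21], [18, 16, 16, 16, 16], [14]),
  ([14, 15, 20, 21, 23], [16, 16, 18, 16, 16, 25], [14]),
  ([14, 15, 20, 21, 22], [18, 16, 16, 16, 16, 24, 25], [14]),
  ([14, 15, 20, 21, 22, 23], [16, 16, 18, 16, 16], [14])]
theorem u48B : cjB 56 sg (List.range 56) u48 = true := by decide +kernel
theorem u48R : ∀ e ∈ u48, e.2.2 = [14] := by decide +kernel
theorem u64 : ∀ w ∈ prods AL, w ∈ prods EL ∨ w ∈ u48.map Prod.fst := by decide +kernel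
theorem u48O : ∀ w ∈ u48.map Prod.fst, ∀ l ∈ w, l ∈ AL := by decide +kernel
theorem nd48 : ndB 56 sg (u48.map Prod.fst) [] = true := by decide +kernel
def Ob : ℕ := nat_lit 0xa00000000000000000034000180018000000008c0001200800000010028000102810000000000000000002000080001000040004000000018020000010000000040c010008401400800280002140010088000000000c400001800000020000000c00000000080004010200000000200000001088008080000000060000002004a0000980000008000000a000008040a0000c0400010040000000804000000080000000001040002415000401000000200000048800000600000000000048020800000104000000010401c000000000001020000000000001080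
theorem setP : setB 1792 TS 56 Ob PL = true := by decide +kernel
theorem np48 : allM (npB TS 56 Ob 7) (u48.map Prod.fst) = true := by decide +kernel
theorem notP : ∀ w ∈ u48.map Prod.fst, evw v w ∉ gen v PL := fun w hw =>
  of_npB H80.KFSuz.hB tk (by norm_num) setP (of_allM np48 w hw)
def cu : List (List ℕ × List ℕ × List ℕ) := [([0], [26, 3, 53, 48, 36, 39, 42, 50, 31, 32], [20])]
theorem cuB : cjB 56 sg (List.range 56) cu = true := by decide +kernel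
def g2 : List (List ℕ × List ℕ) := [([28], [25, 24, 23, 26, 27, 18, 26, 22, 27, 26, 24, 18, 27, 24, 26, 27, 25, 22]),
  ([29], [22, 27, 18, 26, 27, 26, 18, 25, 22, 26, 27, 26, 24, 18, 14, 25, 26, 27, 20]),
  ([30], [26, 24, 18, 25, 26, 22, 27, 18, 25, 26, 27, 18, 15, 14, 25, 26, 25, 24, 23, 26]),
  ([31], [25, 24, 18, 24, 26, 21, 27, 18, 24, 26, 23, 27, 25, 18, 16, 15, 23, 27, 26, 27, 26, 25, 23]),
  ([32], [18, 26, 27, 25, 18, 16, 24, 26, 27, 26, 18, 25, 23, 26, 27, 18, 16, 14, 23, 24, 27, 26, 23, 27, 23, 22]),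
  ([33], [26, 25, 26, 21, 27, 18, 24, 26, 22, 27, 18, 23, 22, 27, 26, 27, 25, 23, 22]),
  ([34], [27, 26, 24, 18, 23, 27, 24, 26, 27, 18, 21, 27, 25, 26, 24, 18, 14, 25, 26, 21, 27, 23, 27, 23, 21])]
theorem g2B : gnB 56 sg (14 :: 15 :: 16 :: 18 :: PL) g2 = true := by decide +kernel
def tv : List (List ℕ × List ℕ) := [([], []),
  ([15], [14]),
  ([14], [14, 15]),
  ([14, 15], [15])]
theorem tvW : tv.map Prod.fst = prods [14, 15] := by decide +kernel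
theorem tvB : allM (fun e => band (ovr [14, 15] e.2) (eqS 56 sg (e.2 ++ [16]) (16 :: (e.1 ++ e.2)))) tv = true := by decide +kernel
def eps : List ℕ := [21, 20]
def eps1 : List ℕ := [23, 22, 21, 20]
theorem neK : allM (neS 56 sg (18 :: 15 :: 14 :: (eps1 ++ [18]))) (prods [14, 15]) = true := by decide +kernel
theorem r0 : eqS 56 sg [0, 0] [] = true := by decide +kernel
theorem r1 : eqS 56 sg [1, 1] [] = true := by decide +kernel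
theorem r2 : eqS 56 sg [13, 13] [] = true := by decide +kernel
theorem r3 : eqS 56 sg [13, 1] [1, 13] = true := by decide +kernel
theorem r4 : eqS 56 sg [0, 13] [13, 1, 0] = true := by decide +kernel
theorem r5 : eqS 56 sg [14, 14] [] = true := by decide +kernel
theorem r6 : eqS 56 sg [15, 15] [] = true := by decide +kernel
theorem r7 : eqS 56 sg [17, 17] [] = true := by decide +kernel
theorem r8 : eqS 56 sg [18, 18] [] = true := by decide +kernel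
theorem r9 : eqS 56 sg [20, 20] [] = true := by decide +kernel
theorem r10 : eqS 56 sg [19] [26, 24] = true := by decide +kernel
theorem r11 : eqS 56 sg [17, 15] [15, 14, 17] = true := by decide +kernel
theorem r12 : eqS 56 sg [17, 21] [24, 17] = true := by decide +kernel
theorem r13 : eqS 56 sg [16, 14] [15, 16] = true := by decide +kernel
theorem r14 : eqS 56 sg [16, 15] [15, 14, 16] = true := by decide +kernel
theorem r15 : eqS 56 sg [18, 14] [14, 21, 20, 18] = true := by decide +kernel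
theorem r16 : eqS 56 sg [18, 15] [15, 23, 22, 21, 20, 18] = true := by decide +kernel
theorem r17 : eqS 56 sg [21, 20, 21, 20] [] = true := by decide +kernel
theorem n0 : neS 56 sg [0] [] = true := by decide +kernel
theorem n1 : neS 56 sg [14] [] = true := by decide +kernel
theorem n2 : neS 56 sg [20] [] = true := by decide +kernel
theorem n3 : neS 56 sg [21, 20] [] = true := by decide +kernel
theorem n4 : neS 56 sg [18, 14] [14, 18] = true := by decide +kernel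
theorem n5 : neS 56 sg [1, 2] [2, 1] = true := by decide +kernel
theorem n6 : neS 56 sg [0, 1, 2] [2, 0, 1] = true := by decide +kernel

end H27.SZ
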