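import Cfsg.Agent.H37.FFW
import Cfsg.Agent.H25.STBase

/-! Fast word certificates: permutations as packed tables, signatures of words, centraliser
chains by orbits of conjugates. -/

set_option autoImplicit false

namespace H27.SZ

open Subgroup H71 H81 H88 H37.FFW H64.SG

/-- the entry of a packed table. -/
def ap (t p : ℕ) : ℕ := Nat.mod (Nat.shiftRight t (Nat.mul 11 p)) 2048

/-- the image of a point under a word. -/
def apW (TS w : List ℕ) (p : ℕ) : ℕ :=
  List.rec (motive := fun _ => ℕ) p (fun l _ r => ap (nthD TS 0 l) r) w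

/-- the images of the base. -/
def sgW (TS bs w : List ℕ) : ℕ :=
  List.rec (motive := fun _ => ℕ) 0 (fun b _ r => Nat.add (Nat.mul r 2048) (apW TS w b)) bs

theorem inR_iff {n : ℕ} {w : List ℕ} : inR n w = true ↔ ∀ l ∈ w, l < n := by
  induction w with
  | nil => simp [inR, allM]
  | cons a w ih =>
    have e : inR n (a :: w) = band (Nat.blt a n) (inR n w) := rfl
    rw [e, band_iff, ih, Nat.blt_eq, List.forall_mem_cons]

/-- The signature decides equality of words, `iv` gives inverses. -/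
structure Sig {G : Type*} [Group G] (v : ℕ → G) (n : ℕ) (sg : List ℕ → ℕ) : Prop where
  iff : ∀ {s t}, inR n s = true → inR n t = true → (evw v s = evw v t ↔ sg s = sg t)

section model
variable {G : Type*} [Group G] {ρ : G →* Equiv.Perm ℕ} {N n : ℕ} {v : ℕ → G} {TS bs : List ℕ}

/-- the tables are right. -/
def TOK (ρ : G →* Equiv.Perm ℕ) (N : ℕ) (v : ℕ → G) (TS : List ℕ) (n : ℕ) : Prop :=
  ∀ l < n, ∀ p < N, ρ (v l) p = ap (nthD TS 0 l) p

theorem apW_eq (hB : ρ.range ≤ supp N) (h : TOK ρ N v TS n) {w : List ℕ} (hw : inR n w = true)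
    {p : ℕ} (hp : p < N) : apW TS w p = ρ (evw v w) p := by
  induction w with
  | nil => simp [apW]
  | cons a w ih =>
    have e : apW TS (a :: w) p = ap (nthD TS 0 a) (apW TS w p) := rfl
    rw [inR_iff, List.forall_mem_cons, ← inR_iff] at hw
    rw [e, ih hw.2, evw_cons, map_mul, Equiv.Perm.mul_apply,
      h a hw.1 _ (lt_of_supp (hB ⟨_, rfl⟩) hp)]

theorem sig_of (hρ : Function.Injective ρ) (hB : ρ.range ≤ supp N) (hN : N ≤ 2048)
    (hb : IsBase N ρ.range bs) (h : TOK ρ N v TS n) : Sig v n (sgW TS bs) where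
  iff {s t} hs ht := by
    have key : ∀ L : List ℕ, (∀ b ∈ L, b < N) →
        (sgW TS L s = sgW TS L t ↔ ∀ b ∈ L, ρ (evw v s) b = ρ (evw v t) b) := by
      intro L hL
      induction L with
      | nil => simp [sgW]
      | cons b L ih =>
        have e : ∀ w, sgW TS (b :: L) w = sgW TS L w * 2048 + apW TS w b := fun _ => rfl
        have hb := hL b (by simp)
        have l1 := lt_of_supp (hB ⟨evw v s, rfl⟩) hb
        have l2 := lt_of_supp (hB ⟨evw v t, rfl⟩) hb
        rw [e, e, apW_eq hB h hs hb, apW_eq hB h ht hb, List.forall_mem_cons,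
          ← ih fun b hb => hL b (by simp [hb])]
        omega
    rw [key bs hb.1]
    refine ⟨fun e b _ => by rw [e], fun e => hρ ?_⟩
    have := hb.2 ((ρ (evw v t))⁻¹ * ρ (evw v s)) (mul_mem (inv_mem ⟨_, rfl⟩) ⟨_, rfl⟩) fun b hb => by
      rw [Equiv.Perm.mul_apply, e b hb]; simp
    exact (inv_mul_eq_one.1 this).symm

/-- tables of old letters. -/
noncomputable def chk0 (N : ℕ) (LS : List Lt) (ix TS : List ℕ) (i : ℕ) : Bool :=
  band (Nat.blt (nthD ix 0 i) LS.length)
    (allN (fun p => Nat.beq (look (nthD LS idL (nthD ix 0 i)).T p) (ap (nthD TS 0 i) p)) N)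

theorem tok0 {LS : List Lt} (hL : AOK N ρ.range LS) {ix : List ℕ}
    (h : ∀ i < n, chk0 N LS ix TS i = true) : TOK ρ N (fun i => vG ρ LS (nthD ix 0 i)) TS n := by
  intro l hl p hp
  obtain ⟨h1, h2⟩ := band_iff.1 (h l hl)
  have o := hL.nthD (Nat.blt_eq ▸ h1 :)
  have e : ρ (vG ρ LS (nthD ix 0 l)) = vL LS (nthD ix 0 l) := Function.invFun_eq o.2.1
  rw [e, ← Nat.eq_of_beq_eq_true (of_allN h2 p hp), o.2.2 p hp]; rfl

/-- tables of words. -/
def chk1 (N n : ℕ) (TS : List ℕ) (D : List (List ℕ)) (TS' : List ℕ) (i : ℕ) : Bool :=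
  band (inR n (nthD D [] i))
    (allN (fun p => Nat.beq (apW TS (nthD D [] i) p) (ap (nthD TS' 0 i) p)) N)

theorem tok1 (hB : ρ.range ≤ supp N) (h0 : TOK ρ N v TS n) {D : List (List ℕ)} {TS' : List ℕ}
    {n' : ℕ} (h : ∀ i < n', chk1 N n TS D TS' i = true) :
    TOK ρ N (fun i => evw v (nthD D [] i)) TS' n' := by
  intro l hl p hp
  obtain ⟨h1, h2⟩ := band_iff.1 (h l hl)
  rw [← Nat.eq_of_beq_eq_true (of_allN h2 p hp), apW_eq hB h0 h1 hp]

/-- the letters keep the bit set. -/
def setB (N : ℕ) (TS : List ℕ) (n O : ℕ) (S : List ℕ) : Bool :=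
  band (inR n S) (allM (fun l => allN (fun p =>
    Nat.beq (ap 0 0 + (O >>> ap (nthD TS 0 l) p) % 2) (ap 0 0 + (O >>> p) % 2)) N) S)

theorem of_setB (hB : ρ.range ≤ supp N) (h : TOK ρ N v TS n) {O : ℕ} {S : List ℕ}
    (e : setB N TS n O S = true) {g : G} (hg : g ∈ gen v S) (p : ℕ) :
    (O >>> ρ g p) % 2 = (O >>> p) % 2 := by
  obtain ⟨h1, h2⟩ := band_iff.1 e
  have : gen v S ≤ (setSt O).comap ρ := gen_le fun l hl => by
    intro y
    by_cases hy : y < N
    · have := Nat.eq_of_beq_eq_true (of_allN (of_allM h2 l hl) y hy)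
      rw [← h l (inR_iff.1 h1 l hl) y hy] at this
      rw [Nat.testBit_eq_decide_div_mod_eq, Nat.testBit_eq_decide_div_mod_eq,
        ← Nat.shiftRight_eq_div_pow, ← Nat.shiftRight_eq_div_pow, Nat.add_left_cancel this]
    · rw [hB ⟨v l, rfl⟩ y (not_lt.1 hy)]
  have e := this hg p
  rw [Nat.testBit_eq_decide_div_mod_eq, Nat.testBit_eq_decide_div_mod_eq,
    ← Nat.shiftRight_eq_div_pow, ← Nat.shiftRight_eq_div_pow, decide_eq_decide] at e
  omega

/-- the word moves `p` across the bit set. -/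
def npB (TS : List ℕ) (n O p : ℕ) (w : List ℕ) : Bool :=
  band (inR n w) (nq ((O >>> apW TS w p) % 2) ((O >>> p) % 2))

theorem of_npB (hB : ρ.range ≤ supp N) (h : TOK ρ N v TS n) {O p : ℕ} (hp : p < N) {S : List ℕ}
    (e : setB N TS n O S = true) {w : List ℕ} (e' : npB TS n O p w = true) : evw v w ∉ gen v S := by
  intro c
  obtain ⟨h1, h2⟩ := band_iff.1 e'
  rw [apW_eq hB h h1 hp, of_setB hB h e c] at h2
  simp [nq] at h2

end model

section cert
variable {G : Type*} [Group G] {v : ℕ → G} {n : ℕ} {sg : List ℕ → ℕ}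

/-- equal words. -/
def eqS (n : ℕ) (sg : List ℕ → ℕ) (s t : List ℕ) : Bool :=
  band (inR n s) (band (inR n t) (Nat.beq (sg s) (sg t)))

/-- different words. -/
def neS (n : ℕ) (sg : List ℕ → ℕ) (s t : List ℕ) : Bool :=
  band (inR n s) (band (inR n t) (nq (sg s) (sg t)))

theorem nq_ne {x y : ℕ} (h : nq x y = true) : x ≠ y := by
  rintro rfl
  simp [nq] at h

theorem Sig.eq (O : Sig v n sg) {s t : List ℕ} (h : eqS n sg s t = true) : evw v s = evw v t := by
  simp only [eqS, band_iff] at h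
  exact (O.iff h.1 h.2.1).2 (Nat.eq_of_beq_eq_true h.2.2)

theorem Sig.ne (O : Sig v n sg) {s t : List ℕ} (h : neS n sg s t = true) : evw v s ≠ evw v t := by
  simp only [neS, band_iff] at h
  exact fun c => nq_ne h.2.2 ((O.iff h.1 h.2.1).1 c)

/-- all relations hold. -/
def relS (n : ℕ) (sg : List ℕ → ℕ) (R : List (List ℕ × List ℕ)) : Bool :=
  allM (fun e => eqS n sg e.1 e.2) R

theorem Sig.rel (O : Sig v n sg) {R : List (List ℕ × List ℕ)} (h : relS n sg R = true) :
    ∀ e ∈ R, evw v e.1 = evw v e.2 := fun e he => O.eq (of_allM h e he)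

/-- commuting words. -/
def cmS (n : ℕ) (sg : List ℕ → ℕ) (s t : List ℕ) : Bool := eqS n sg (s ++ t) (t ++ s)

theorem Sig.cm (O : Sig v n sg) {s t : List ℕ} (h : cmS n sg s t = true) :
    evw v s * evw v t = evw v t * evw v s := by
  rw [← evw_append, O.eq h, evw_append]

/-- the inverse word. -/
def wi (IV : List (List ℕ)) (w : List ℕ) : List ℕ → List ℕ :=
  List.rec (motive := fun _ => List ℕ → List ℕ) (fun a => a) (fun l _ r a => r (nthD IV [] l ++ a)) w

/-- the table of inverses is right on `S`. -/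
def ivB (n : ℕ) (sg : List ℕ → ℕ) (IV : List (List ℕ)) (S : List ℕ) : Bool :=
  allM (fun l => eqS n sg (l :: nthD IV [] l) []) S

theorem Sig.wi (O : Sig v n sg) {IV : List (List ℕ)} {S : List ℕ} (h : ivB n sg IV S = true)
    {w : List ℕ} (hw : ∀ l ∈ w, l ∈ S) (a : List ℕ) :
    evw v (wi IV w a) = (evw v w)⁻¹ * evw v a := by
  induction w generalizing a with
  | nil => simp [SZ.wi]
  | cons l w ih =>
    have e : SZ.wi IV (l :: w) a = SZ.wi IV w (nthD IV [] l ++ a) := rfl
    have e2 := O.eq (of_allM h l (hw l (by simp)))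
    rw [evw_cons, evw_nil] at e2
    rw [e, ih fun l hl => hw l (by simp [hl]), evw_append, evw_cons, eq_inv_of_mul_eq_one_right e2,
      mul_inv_rev, mul_assoc]

/-- the words have different signatures, and differ from the list. -/
def ndB (n : ℕ) (sg : List ℕ → ℕ) (W : List (List ℕ)) : List ℕ → Bool :=
  List.rec (motive := fun _ => List ℕ → Bool) (fun _ => true)
    (fun w _ r a => band (inR n w) (frc (sg w) fun y => band (allM (nq y) a) (r (y :: a)))) W

theorem ndB_spec {W : List (List ℕ)} : ∀ {a : List ℕ}, ndB n sg W a = true →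
    (∀ w ∈ W, inR n w = true ∧ sg w ∉ a) ∧ (W.map sg).Nodup := by
  induction W with
  | nil => simp
  | cons w W ih =>
    intro a h
    have e : ndB n sg (w :: W) a =
      band (inR n w) (band (allM (nq (sg w)) a) (ndB n sg W (sg w :: a))) := rfl
    rw [e, band_iff, band_iff] at h
    obtain ⟨h1, h2⟩ := ih h.2.2
    refine ⟨List.forall_mem_cons.2 ⟨⟨h.1, fun c => nq_ne (of_allM h.2.1 _ c) rfl⟩,
      fun u hu => ⟨(h1 u hu).1, fun c => (h1 u hu).2 (by simp [c])⟩⟩, ?_⟩
    rw [List.map_cons, List.nodup_cons]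
    refine ⟨fun c => ?_, h2⟩
    obtain ⟨u, hu, e⟩ := List.mem_map.1 c
    exact (h1 u hu).2 (by simp [e])

theorem Sig.nd (O : Sig v n sg) {W : List (List ℕ)} (h : ndB n sg W [] = true) :
    (W.map (evw v)).Nodup := by
  obtain ⟨h1, h2⟩ := ndB_spec h
  have h3 := List.Nodup.of_map _ h2
  refine List.Nodup.map_on (fun x hx y hy e => ?_) h3
  exact List.inj_on_of_nodup_map h2 hx hy ((O.iff (h1 x hx).1 (h1 y hy).1).1 e)

/-- a subgroup with as many listed elements as its order allows. -/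
theorem enum [Finite G] {A : Subgroup G} {L : List G} (hL : L.Nodup) (h : ∀ y ∈ L, y ∈ A)
    (hc : Nat.card A ≤ L.length) : Nat.card A = L.length ∧ ∀ y ∈ A, y ∈ L := by
  classical
  have h1 : (L.toFinset : Set G) ⊆ A := fun y hy => h y (by simpa using hy)
  have h2 : (L.toFinset : Set G).ncard = L.length := by
    rw [Set.ncard_coe_finset, List.toFinset_card_of_nodup hL]
  have h3 : (A : Set G).ncard = Nat.card A := rfl
  have h4 := Set.eq_of_subset_of_ncard_le h1 (by omega)
  refine ⟨by rw [← h3, ← h4, h2], fun y hy => ?_⟩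
  have : y ∈ (L.toFinset : Set G) := h4 ▸ hy
  simpa using this

theorem len_le [Finite G] {A : Subgroup G} {L : List G} (hL : L.Nodup) (h : ∀ y ∈ L, y ∈ A) :
    L.length ≤ Nat.card A := by
  classical
  have h1 : (L.toFinset : Set G) ⊆ A := fun y hy => h y (by simpa using hy)
  have := Set.ncard_le_ncard h1
  rwa [Set.ncard_coe_finset, List.toFinset_card_of_nodup hL] at this

theorem orb_le [Finite G] (H : Subgroup G) (x : G) {L : List G} (hL : L.Nodup)
    (h : ∀ y ∈ L, ∃ c ∈ H, y = c * x * c⁻¹) : L.length * Nat.card ↥(H ⊓ Cz x) ≤ Nat.card H := by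
  classical
  have e : Nat.card ↥(H ⊓ Cz x) = Nat.card ((Cz x).subgroupOf H) := by
    rw [← inf_subgroupOf_right, inf_comm]
    exact Nat.card_congr (subgroupOfEquivOfLe inf_le_right).toEquiv.symm
  rw [e, card_eq_card_quotient_mul_card_subgroup ((Cz x).subgroupOf H)]
  refine Nat.mul_le_mul_right _ ?_
  choose c hc hy using h
  let f : {y // y ∈ L.toFinset} → H ⧸ (Cz x).subgroupOf H := fun y =>
    QuotientGroup.mk ⟨c y.1 (List.mem_toFinset.1 y.2), hc _ _⟩
  have hf : Function.Injective f := fun a b e => by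
    have := mem_centralizer_singleton_iff.1 (mem_subgroupOf.1 (QuotientGroup.eq.1 e))
    apply Subtype.ext
    rw [hy a.1 (List.mem_toFinset.1 a.2), hy b.1 (List.mem_toFinset.1 b.2)]
    simp only [coe_mul, coe_inv] at this
    generalize c a.1 _ = p at this ⊢
    generalize c b.1 _ = q at this ⊢
    calc p * x * p⁻¹ = p * (x * (p⁻¹ * q)) * q⁻¹ := by group
      _ = q * x * q⁻¹ := by rw [← this]; group
  have := Nat.card_le_card_of_injective f hf
  rwa [Nat.card_eq_fintype_card, Fintype.card_coe, List.toFinset_card_of_nodup hL] at this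

/-- the centraliser of a list of words. -/
def CL (v : ℕ → G) (xs : List (List ℕ)) : Subgroup G := ⨅ x ∈ xs, Cz (evw v x)

theorem mem_CL {xs : List (List ℕ)} {g : G} :
    g ∈ CL v xs ↔ ∀ x ∈ xs, g * evw v x = evw v x * g := by
  simp only [CL, mem_iInf, mem_centralizer_singleton_iff]

theorem CL_cons (x : List ℕ) (xs : List (List ℕ)) : CL v (x :: xs) = CL v xs ⊓ Cz (evw v x) := by
  ext g
  rw [mem_inf, mem_CL, mem_CL, List.forall_mem_cons, mem_centralizer_singleton_iff, and_comm]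

theorem CL_one (x : List ℕ) : CL v [x] = Cz (evw v x) := by
  ext g
  simp [mem_CL, mem_centralizer_singleton_iff]

/-- all letters of the word are in `S`. -/
noncomputable def ovr (S w : List ℕ) : Bool := allM (fun l => H74.memL l S) w

theorem of_ovr {S w : List ℕ} (h : ovr S w = true) : ∀ l ∈ w, l ∈ S := fun l hl =>
  H74.of_memL (of_allM h l hl)

theorem mem_ovr {A : Subgroup G} {S w : List ℕ} (hS : ∀ l ∈ S, v l ∈ A) (h : ovr S w = true) :
    evw v w ∈ A := evw_mem fun l hl => hS l (of_ovr h l hl)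

/-- the words commute with the list. -/
def clB (n : ℕ) (sg : List ℕ → ℕ) (xs ws : List (List ℕ)) : Bool :=
  allM (fun w => allM (cmS n sg w) xs) ws

theorem Sig.cl (O : Sig v n sg) {xs ws : List (List ℕ)} (h : clB n sg xs ws = true) :
    ∀ w ∈ ws, evw v w ∈ CL v xs := fun w hw =>
  mem_CL.2 fun x hx => O.cm (of_allM (of_allM h w hw) x hx)

theorem Sig.cl1 (O : Sig v n sg) {xs : List (List ℕ)} {S : List ℕ}
    (h : clB n sg xs (S.map fun l => [l]) = true) : ∀ l ∈ S, v l ∈ CL v xs := fun l hl => by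
  simpa using O.cl h [l] (List.mem_map.2 ⟨l, hl, rfl⟩)

/-- one step of a centraliser chain. -/
noncomputable def stB (n : ℕ) (sg : List ℕ → ℕ) (IV : List (List ℕ)) (S : List ℕ) (xs : List (List ℕ))
    (x : List ℕ) (cs : List (List ℕ)) : Bool :=
  band (ivB n sg IV S) (band (clB n sg xs (S.map fun l => [l])) (band (allM (ovr S) cs)
    (ndB n sg (cs.map fun c => c ++ (x ++ wi IV c [])) [])))

theorem Sig.st [Finite G] (O : Sig v n sg) {IV : List (List ℕ)} {S : List ℕ}
    {xs : List (List ℕ)} {x : List ℕ} {cs : List (List ℕ)} (h : stB n sg IV S xs x cs = true)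
    {k : ℕ} (hk : cs.length = k) {H : Subgroup G} (hS : ∀ l ∈ S, v l ∈ H) :
    k * Nat.card ↥(H ⊓ CL v (x :: xs)) ≤ Nat.card ↥(H ⊓ CL v xs) := by
  simp only [stB, band_iff] at h
  obtain ⟨h1, h2, h3, h4⟩ := h
  have := orb_le (H ⊓ CL v xs) (evw v x) (O.nd h4) fun y hy => by
    simp only [List.map_map, List.mem_map, Function.comp] at hy
    obtain ⟨c, hc, rfl⟩ := hy
    refine ⟨evw v c, mem_ovr (fun l hl => ⟨hS l hl, O.cl1 h2 l hl⟩) (of_allM h3 c hc), ?_⟩
    rw [evw_append, evw_append, O.wi h1 (of_ovr (of_allM h3 c hc)), evw_nil, mul_one, mul_assoc]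
  rwa [List.length_map, List.length_map, hk, inf_assoc, ← CL_cons] at this

/-- each word is conjugate to one of the roots by a word over `S`. -/
noncomputable def cjB (n : ℕ) (sg : List ℕ → ℕ) (S : List ℕ) (T : List (List ℕ × List ℕ × List ℕ)) : Bool :=
  allM (fun e => band (ovr S e.2.1) (eqS n sg (e.2.1 ++ e.1) (e.2.2 ++ e.2.1))) T

theorem Sig.cj (O : Sig v n sg) {S : List ℕ} {T : List (List ℕ × List ℕ × List ℕ)}
    (h : cjB n sg S T = true) {H : Subgroup G} (hS : ∀ l ∈ S, v l ∈ H) :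
    ∀ e ∈ T, ∃ c ∈ H, c * evw v e.1 * c⁻¹ = evw v e.2.2 := fun e he => by
  obtain ⟨h1, h2⟩ := band_iff.1 (of_allM h e he)
  have := O.eq h2
  rw [evw_append, evw_append] at this
  exact ⟨_, mem_ovr hS h1, by rw [this, mul_inv_cancel_right]⟩

/-- `l * x = w * l` with `w` over `P`. -/
noncomputable def nmB (n : ℕ) (sg : List ℕ → ℕ) (P : List ℕ) (T : List (List ℕ × List (List ℕ))) : Bool :=
  allM (fun e => band (Nat.beq e.2.length P.length) (allM (fun q => band (ovr P q.2)
    (eqS n sg (e.1 ++ [q.1]) (q.2 ++ e.1))) (P.zip e.2))) T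

theorem Sig.nm [Finite G] (O : Sig v n sg) {P : List ℕ} {T : List (List ℕ × List (List ℕ))}
    (h : nmB n sg P T = true) : ∀ e ∈ T, evw v e.1 ∈ Ns (gen v P) := fun e he => by
  obtain ⟨h1, h2⟩ := band_iff.1 (of_allM h e he)
  have h1 := Nat.eq_of_beq_eq_true h1
  refine mem_normalizer_fintype fun y hy => ?_
  have : gen v P ≤ (gen v P).comap (MulAut.conj (evw v e.1)).toMonoidHom := gen_le fun x hx => by
    obtain ⟨i, hi, rfl⟩ := List.getElem_of_mem hx
    have hq : (P[i], e.2[i]'(by omega)) ∈ P.zip e.2 :=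
      List.mem_iff_getElem.2 ⟨i, by simp; omega, by simp⟩
    obtain ⟨h3, h4⟩ := band_iff.1 (of_allM h2 _ hq)
    have h5 := O.eq h4
    rw [evw_append, evw_append, evw_cons, evw_nil, mul_one] at h5
    show evw v e.1 * v P[i] * (evw v e.1)⁻¹ ∈ gen v P
    rw [h5, mul_inv_cancel_right]
    exact mem_ovr (fun l hl => mem_gen _ hl) h3
  exact this hy

/-- `l = [c, w]` with `c`, `w` over `S`. -/
noncomputable def pfB (n : ℕ) (sg : List ℕ → ℕ) (S : List ℕ)
    (T : List (List ℕ × List ℕ × List ℕ)) : Bool :=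
  allM (fun e => band (ovr S e.2.1) (band (ovr S e.2.2)
    (eqS n sg (e.1 ++ (e.2.2 ++ e.2.1)) (e.2.1 ++ e.2.2)))) T

theorem Sig.pf (O : Sig v n sg) {S : List ℕ} {T : List (List ℕ × List ℕ × List ℕ)}
    (h : pfB n sg S T = true) {H : Subgroup G} (hS : ∀ l ∈ S, v l ∈ H) :
    ∀ e ∈ T, evw v e.1 ∈ ⁅H, H⁆ := fun e he => by
  have h0 := of_allM h e he
  simp only [band_iff] at h0
  have h1 := O.eq h0.2.2
  rw [evw_append, evw_append, evw_append, ← mul_assoc] at h1
  have := commutator_mem_commutator (mem_ovr hS h0.1) (mem_ovr hS h0.2.1)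
  rwa [commutatorElement_def, ← h1, mul_inv_cancel_right, mul_inv_cancel_right] at this

/-- the first words are words over `S`. -/
noncomputable def gnB (n : ℕ) (sg : List ℕ → ℕ) (S : List ℕ) (T : List (List ℕ × List ℕ)) : Bool :=
  allM (fun e => band (ovr S e.2) (eqS n sg e.1 e.2)) T

theorem Sig.gn (O : Sig v n sg) {S : List ℕ} {T : List (List ℕ × List ℕ)}
    (h : gnB n sg S T = true) {H : Subgroup G} (hS : ∀ l ∈ S, v l ∈ H) :
    ∀ e ∈ T, evw v e.1 ∈ H := fun e he => by
  obtain ⟨h1, h2⟩ := band_iff.1 (of_allM h e he)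
  rw [O.eq h2]; exact mem_ovr hS h1

/-- the elements of `C(z)` fixing the words modulo `z`. -/
def Kz (v : ℕ → G) (z : G) (hz : z * z = 1) (xs : List (List ℕ)) : Subgroup G where
  carrier := {y | y * z = z * y ∧ ∀ x ∈ xs, y * evw v x = evw v x * y ∨ y * evw v x = evw v x * z * y}
  one_mem' := ⟨by simp, fun _ _ => Or.inl (by simp)⟩
  mul_mem' := by
    rintro a b ⟨a1, a2⟩ ⟨b1, b2⟩
    refine ⟨by rw [mul_assoc, b1, ← mul_assoc, a1, mul_assoc], fun x hx => ?_⟩
    have hz' : z * (z * a) = a := by rw [← mul_assoc, hz, one_mul]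
    rcases a2 x hx with p | p <;> rcases b2 x hx with q | q <;> rw [mul_assoc, q]
    · left; rw [← mul_assoc, p, mul_assoc]
    · right; rw [← mul_assoc, ← mul_assoc, p, mul_assoc _ a z, a1]; simp only [mul_assoc]
    · right; rw [← mul_assoc, p, mul_assoc]
    · left; rw [← mul_assoc, ← mul_assoc, p, mul_assoc _ a z, a1, mul_assoc _ z, hz', mul_assoc]
  inv_mem' := by
    rintro a ⟨a1, a2⟩
    have c : a⁻¹ * z = z * a⁻¹ := by
      rw [inv_mul_eq_iff_eq_mul, ← mul_assoc, a1, mul_inv_cancel_right]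
    refine ⟨c, fun x hx => (a2 x hx).imp (fun p => ?_) fun p => ?_⟩
    · rw [inv_mul_eq_iff_eq_mul, ← mul_assoc, p, mul_inv_cancel_right]
    · rw [inv_mul_eq_iff_eq_mul, ← mul_assoc, ← mul_assoc, p, mul_assoc _ a z, a1, mul_assoc _ z,
        ← mul_assoc z z, hz, one_mul, mul_inv_cancel_right]

/-- membership in `Kz`. -/
def kzB (n : ℕ) (sg : List ℕ → ℕ) (z : List ℕ) (xs ws : List (List ℕ)) : Bool :=
  allM (fun w => band (cmS n sg w z) (allM (fun x => cmS n sg w x ||
    eqS n sg (w ++ x) (x ++ (z ++ w))) xs)) ws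

theorem Sig.kz (O : Sig v n sg) {z : List ℕ} (hz : evw v z * evw v z = 1) {xs ws : List (List ℕ)}
    (h : kzB n sg z xs ws = true) : ∀ w ∈ ws, evw v w ∈ Kz v (evw v z) hz xs := fun w hw => by
  obtain ⟨h1, h2⟩ := band_iff.1 (of_allM h w hw)
  refine ⟨O.cm h1, fun x hx => ?_⟩
  have := of_allM h2 x hx
  rw [Bool.or_eq_true] at this
  refine this.imp O.cm fun e => ?_
  have := O.eq e
  rwa [evw_append, evw_append, evw_append, ← mul_assoc] at this

/-- the products of the correcting words. -/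
def wgen (V : List (List ℕ)) : List (List ℕ × List ℕ) → List ℕ → List (List ℕ)
  | [], a => V.map (· ++ a)
  | p :: T, a => wgen V T a ++ wgen V T (p.2 ++ a)

/-- `f` centralises the earlier words and moves `x` to `x z`. -/
def trB (n : ℕ) (sg : List ℕ → ℕ) (z : List ℕ) (T : List (List ℕ × List ℕ)) :
    List (List ℕ) → Bool :=
  List.rec (motive := fun _ => List (List ℕ) → Bool) (fun _ => true)
    (fun p _ r d => band (clB n sg d [p.2]) (band (eqS n sg (p.2 ++ p.1) (p.1 ++ (z ++ p.2)))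
      (r (p.1 :: d)))) T

theorem Sig.tr (O : Sig v n sg) {z : List ℕ} (hz : evw v z * evw v z = 1) {xs V : List (List ℕ)}
    (T : List (List ℕ × List ℕ)) : ∀ {d : List (List ℕ)} (a : List ℕ) {y : G},
      trB n sg z T d = true → (∀ p ∈ T, p.1 ∈ xs ∧ evw v p.2 ∈ Kz v (evw v z) hz xs) →
      (∀ g ∈ CL v ((T.map Prod.fst).reverse ++ d), ∃ w ∈ V, g⁻¹ = evw v w) →
      evw v a * y ∈ Kz v (evw v z) hz xs → evw v a * y ∈ CL v d →
      ∃ w ∈ wgen V T a, y⁻¹ = evw v w := by
  induction T with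
  | nil =>
    intro d a y _ _ h _ h2
    obtain ⟨w, hw, e⟩ := h _ h2
    exact ⟨w ++ a, List.mem_map.2 ⟨w, hw, rfl⟩, by rw [evw_append, ← e]; group⟩
  | cons p T ih =>
    intro d a y c hT h h1 h2
    have e : trB n sg z (p :: T) d = band (clB n sg d [p.2]) (band (eqS n sg (p.2 ++ p.1)
      (p.1 ++ (z ++ p.2))) (trB n sg z T (p.1 :: d))) := rfl
    rw [e, band_iff, band_iff] at c
    have hT' := fun q hq => hT q (List.mem_cons_of_mem _ hq)
    have h' : ∀ g ∈ CL v ((T.map Prod.fst).reverse ++ p.1 :: d), ∃ w ∈ V, g⁻¹ = evw v w := by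
      simpa using h
    obtain ⟨p1, p2⟩ := hT p (by simp)
    rcases h1.2 _ p1 with q | q
    · obtain ⟨w, hw, e⟩ := ih a c.2.2 hT' h' h1 (by
        rw [CL_cons]; exact ⟨h2, mem_centralizer_singleton_iff.2 q⟩)
      exact ⟨w, List.mem_append_left _ hw, e⟩
    · have f := O.eq c.2.1
      rw [evw_append, evw_append, evw_append] at f
      obtain ⟨w, hw, e⟩ := ih (y := y) (p.2 ++ a) c.2.2 hT' h'
        (by rw [evw_append, mul_assoc]; exact mul_mem p2 h1) (by
        rw [CL_cons, evw_append, mul_assoc]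
        refine ⟨mul_mem (O.cl c.1 _ (by simp)) h2, mem_centralizer_singleton_iff.2 ?_⟩
        have g := p2.1
        generalize evw v a * y = u at q ⊢
        calc _ = evw v p.2 * evw v p.1 * evw v z * u := by rw [mul_assoc, q]; group
          _ = evw v p.1 * (evw v z * (evw v p.2 * evw v z)) * u := by rw [f]; group
          _ = _ := by rw [g, ← mul_assoc (evw v z), hz, one_mul, mul_assoc])
      exact ⟨w, List.mem_append_right _ hw, e⟩

/-- all products of sublists. -/
def prods : List ℕ → List (List ℕ)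
  | [] => [[]]
  | l :: S => prods S ++ (prods S).map (l :: ·)

theorem prods_ovr {S : List ℕ} : ∀ w ∈ prods S, ∀ l ∈ w, l ∈ S := by
  induction S with
  | nil => simp [prods]
  | cons a S ih =>
    intro w hw l hl
    rcases List.mem_append.1 hw with h | h
    · exact List.mem_cons_of_mem _ (ih w h l hl)
    · obtain ⟨u, hu, rfl⟩ := List.mem_map.1 h
      exact (List.mem_cons.1 hl).elim (fun e => by simp [e]) fun e =>
        List.mem_cons_of_mem _ (ih u hu l e)

/-- a subgroup is the set of the products of the letters. -/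
theorem Sig.enum [Finite G] (O : Sig v n sg) {S : List ℕ} (h : ndB n sg (prods S) [] = true)
    {k : ℕ} (hk : (prods S).length = k) {A : Subgroup G} (hS : ∀ l ∈ S, v l ∈ A)
    (hc : Nat.card A ≤ k) : Nat.card A = k ∧ ∀ y ∈ A, ∃ w ∈ prods S, y = evw v w := by
  have := SZ.enum (A := A) (O.nd h) (fun y hy => by
    obtain ⟨w, hw, rfl⟩ := List.mem_map.1 hy
    exact evw_mem fun l hl => hS l (prods_ovr w hw l hl)) (by rw [List.length_map]; omega)
  rw [List.length_map, hk] at this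
  refine ⟨this.1, fun y hy => ?_⟩
  obtain ⟨w, hw, e⟩ := List.mem_map.1 (this.2 y hy)
  exact ⟨w, hw, e.symm⟩

end cert

section grp
variable {G : Type*} [Group G]

theorem le_of_card [Finite G] {H C : Subgroup G} (h : Nat.card C ≤ Nat.card ↥(H ⊓ C)) : C ≤ H :=
  (eq_of_le_of_card_ge inf_le_right h).ge.trans inf_le_left

/-- `ρ⁻¹ β(ρ)` centralises what `ρ` moves inside the fixed points. -/
theorem rigid {β : MulAut G} {ρ x : G} (h1 : x ∈ fx β) (h2 : ρ * x * ρ⁻¹ ∈ fx β) :
    ρ⁻¹ * β ρ * x = x * (ρ⁻¹ * β ρ) := by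
  have e1 : β x = x := h1
  have e2 : β (ρ * x * ρ⁻¹) = ρ * x * ρ⁻¹ := h2
  rw [map_mul, map_mul, map_inv, e1] at e2
  calc ρ⁻¹ * β ρ * x = ρ⁻¹ * (β ρ * x * (β ρ)⁻¹) * β ρ := by group
    _ = x * (ρ⁻¹ * β ρ) := by rw [e2]; group

theorem comm_le {M H : Subgroup G} {S : Set G} (hH : H ≤ closure ((M : Set G) ∪ S))
    (hS : ∀ s ∈ S, s ∈ Ns M) (hc : ∀ s ∈ S, ∀ t ∈ S, s * t * s⁻¹ * t⁻¹ ∈ M) : ⁅H, H⁆ ≤ M := by
  have hN : closure ((M : Set G) ∪ S) ≤ Ns M :=
    (closure_le _).2 fun x hx => hx.elim (fun h => le_normalizer h) (hS x)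
  have cj : ∀ g ∈ closure ((M : Set G) ∪ S), ∀ m ∈ M, g * m * g⁻¹ ∈ M := fun g hg m hm =>
    (mem_normalizer_iff.1 (hN hg) m).1 hm
  have one : ∀ x ∈ closure ((M : Set G) ∪ S), (∀ t ∈ (M : Set G) ∪ S, x * t * x⁻¹ * t⁻¹ ∈ M) →
      ∀ y ∈ closure ((M : Set G) ∪ S), x * y * x⁻¹ * y⁻¹ ∈ M := fun x _ h y hy => by
    induction hy using closure_induction with
    | mem t ht => exact h t ht
    | one => simp
    | mul a b ha _ iha ihb =>
      have := M.mul_mem iha (cj a ha _ ihb)
      convert this using 1; group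
    | inv a ha iha =>
      have := cj a⁻¹ (inv_mem ha) _ (M.inv_mem iha)
      convert this using 1; group
  have sw : ∀ {x y : G}, x * y * x⁻¹ * y⁻¹ ∈ M → y * x * y⁻¹ * x⁻¹ ∈ M := fun h => by
    convert M.inv_mem h using 1; group
  refine commutator_le.2 fun x hx y hy => ?_
  rw [commutatorElement_def]
  refine one x (hH hx) (fun t ht => sw (one t (subset_closure ht) (fun s hs => ?_) x (hH hx))) y (hH hy)
  rcases ht with ht | ht
  · have := M.mul_mem ht (cj s (subset_closure hs) _ (M.inv_mem ht))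
    convert this using 1; group
  rcases hs with hs | hs
  · exact M.mul_mem (cj t (subset_closure (Or.inr ht)) _ hs) (M.inv_mem hs)
  · exact hc t ht s hs

theorem le_or_le {Y A B : Subgroup G} (h : ∀ y ∈ Y, y ∈ A ∨ y ∈ B) : Y ≤ A ∨ Y ≤ B := by
  by_contra c
  push Not at c
  obtain ⟨a, ha, ha'⟩ := SetLike.not_le_iff_exists.1 c.1
  obtain ⟨b, hb, hb'⟩ := SetLike.not_le_iff_exists.1 c.2
  rcases h _ (Y.mul_mem ha hb) with e | e
  · exact ha' ((A.mul_mem_cancel_right ((h b hb).resolve_right hb')).1 e)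
  · exact hb' ((B.mul_mem_cancel_left ((h a ha).resolve_left ha')).1 e)

end grp

end H27.SZ
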