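import Cfsg.Agent.H27.SzC

/-! `Suz`: the centraliser of the `2`-central involution `z = v 0`. -/

set_option autoImplicit false

namespace H27.SZ

open Subgroup H71 H81 H88 H64.SG H25.ST

local notation "X" => Cfsg.Spor.Suz

theorem zz : v 0 * v 0 = 1 := by simpa using O.eq r0
theorem ee : v 1 * v 1 = 1 := by simpa using O.eq r1
theorem ss : v 13 * v 13 = 1 := by simpa using O.eq r2
theorem se : v 13 * v 1 = v 1 * v 13 := by simpa using O.eq r3
theorem zs : v 0 * v 13 = v 13 * (v 1 * v 0) := by simpa using O.eq r4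
theorem z_ne : v 0 ≠ 1 := by simpa using O.ne n0

theorem SA_z : ∀ l ∈ SA, v l ∈ Cz (v 0) := fun l hl => by
  simpa [CL_one] using O.cl1 clSA l hl

theorem ze : v 0 * v 1 = v 1 * v 0 :=
  (mem_centralizer_singleton_iff.1 (SA_z 1 (by decide))).symm

/-- `C(z, e₁, e₃, …, e₆)`. -/
noncomputable abbrev V0 : Subgroup X := CL v [[6], [5], [4], [3], [1], [0]]

theorem chainZ {H : Subgroup X} (h : ∀ l ∈ SA, v l ∈ H) :
    829440 * Nat.card ↥(H ⊓ V0) ≤ Nat.card ↥(H ⊓ Cz (v 0)) := by
  have a0 := O.st stz0 (k := 54) rfl fun l hl => h l (by revert l; decide)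
  have a1 := O.st stz1 (k := 20) rfl fun l hl => h l (by revert l; decide)
  have a2 := O.st stz2 (k := 16) rfl fun l hl => h l (by revert l; decide)
  have a3 := O.st stz3 (k := 12) rfl fun l hl => h l (by revert l; decide)
  have a4 := O.st stz4 (k := 4) rfl fun l hl => h l (by revert l; decide)
  rw [CL_one, evw_cons, evw_nil, mul_one] at a0
  unfold V0
  omega

theorem V0_spec : Nat.card V0 = 4 ∧ ∀ y ∈ V0, ∃ w ∈ prods [0, 1], y = evw v w := by
  refine O.enum ndV0 (k := 4) rfl (O.cl1 clV0) ?_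
  have := chainZ (H := ⊤) fun _ _ => trivial
  rw [top_inf_eq, top_inf_eq, card_z] at this
  omega

theorem V0_mem {y : X} (h : y ∈ V0) : y = 1 ∨ y = v 1 ∨ y = v 0 ∨ y = v 0 * v 1 := by
  simpa [prods] using V0_spec.2 y h

/-- `C(z)` is generated by the letters `SA`. -/
theorem Cz_le {H : Subgroup X} (h : ∀ l ∈ SA, v l ∈ H) : Cz (v 0) ≤ H := by
  have h1 := chainZ h
  have h2 : V0 ≤ H := fun y hy => by
    obtain ⟨w, hw, rfl⟩ := V0_spec.2 y hy
    exact evw_mem fun l hl => h l ((by decide : ∀ l ∈ [0, 1], l ∈ SA) l (prods_ovr w hw l hl))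
  rw [inf_eq_right.2 h2, V0_spec.1] at h1
  exact le_of_card (by rw [card_z]; omega)

theorem pf_z : Cz (v 0) ≤ ⁅Cz (v 0), Cz (v 0)⁆ := Cz_le fun l hl => by
  have : ∃ e ∈ pfz, e.1 = [l] := by revert l; decide
  obtain ⟨e, he, e1⟩ := this
  simpa [e1] using O.pf pfzB SA_z e he

theorem Py_z : Py (v 0) = Cz (v 0) := Pf_eq_self pf_z

theorem top_z {H : Subgroup X} (h : Cz (v 0) ≤ H) (hs : v 13 ∈ H) : H = ⊤ := top fun l hl => by
  have : ∃ e ∈ g1, e.1 = [l] := by revert l; decide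
  obtain ⟨e, he, e1⟩ := this
  simpa [e1] using O.gn g1B (H := H) (List.forall_mem_cons.2 ⟨hs, fun l hl => h (SA_z l hl)⟩) e he

theorem I_z : I (v 0) := by
  refine ⟨⟨zz, z_ne⟩, ?_⟩
  have := (Cz (v 0)).card_mul_index
  rw [card_z, H71.Suz.card] at this
  rw [show (Cz (v 0)).index = 135135 by omega]
  decide

theorem mem_V0 {y : X} (h : ∀ l ∈ [6, 5, 4, 3, 1, 0], y * v l = v l * y) : y ∈ V0 :=
  mem_CL.2 fun x hx => by
    have : ∃ l ∈ [6, 5, 4, 3, 1, 0], x = [l] := by revert x; decide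
    obtain ⟨l, hl, rfl⟩ := this
    simpa using h l hl

theorem Z_z {y : X} (h : y ∈ Cs (Cz (v 0))) : y = 1 ∨ y = v 0 := by
  have c : ∀ l ∈ SA, y * v l = v l * y := fun l hl => (h _ (SA_z l hl)).symm
  have c2 := c 2 (by decide)
  rcases V0_mem (mem_V0 fun l hl => c l (by revert l; decide)) with e | e | e | e
  · exact Or.inl e
  · exact absurd (by simpa [e] using c2) (O.ne n5)
  · exact Or.inr e
  · exact absurd (by simpa [e, mul_assoc] using c2) (O.ne n6)

theorem Vy_z : Vy (v 0) = zpowers (v 0) := by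
  rw [Vy, Py_z]
  refine le_antisymm (fun y hy => ?_) (zpowers_le.2 ⟨fun g hg => ?_, mem_centralizer_singleton_iff.2 rfl⟩)
  · rcases Z_z hy.1 with rfl | rfl
    exacts [one_mem _, mem_zpowers _]
  · exact mem_centralizer_singleton_iff.1 hg

theorem card_Vz : Nat.card (Vy (v 0)) = 2 := by
  rw [Vy_z, Nat.card_zpowers]
  exact orderOf_eq_prime (by rw [pow_two, zz]) z_ne

theorem aut_eq {G : Type*} [Group G] {β : MulAut G} (h : fx β = ⊤) : β = 1 :=
  MulEquiv.ext fun x => (show x ∈ fx β from h ▸ mem_top x)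

/-- Automorphisms centralising `C(z)`. -/
theorem cz (β : MulAut X) (h : Cz (v 0) ≤ fx β) : β = 1 ∨ β = MulAut.conj (v 0) := by
  have si : (v 13)⁻¹ = v 13 := inv_eq_of_mul_eq_one_right ss
  have hc : (v 13)⁻¹ * β (v 13) ∈ V0 := mem_V0 fun l hl => rigid (h (SA_z l (by revert l; decide))) (h (by
    have := O.cl clS [13, l, 13] (by revert l; decide)
    simpa [CL_one, si, mul_assoc] using this))
  have wa : ∀ {a : List ℕ} {n : ℕ}, ovr SA a = true → eqS 56 sg (H80.KF.rep (13 :: a) n) [] = true →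
      (β (v 13) * evw v a) ^ n = 1 := fun {a n} h1 h2 => by
    have e := O.eq h2
    have e2 : β (evw v a) = evw v a := h (mem_ovr SA_z h1)
    rw [H80.KF.evw_rep, evw_cons, evw_nil] at e
    rw [← e2, ← map_mul, ← map_pow, e, map_one]
  rcases V0_mem hc with e | e | e | e <;> rw [inv_mul_eq_iff_eq_mul] at e
  · exact Or.inl (aut_eq (top_z h (e.trans (mul_one _))))
  · refine Or.inr (inv_mul_eq_one.1 (aut_eq (top_z (fun y hy => ?_) ?_))).symm
    · have e1 : β y = y := h hy
      have e2 := mem_centralizer_singleton_iff.1 hy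
      show (v 0)⁻¹ * β y * v 0 = y
      rw [e1, mul_assoc, e2, inv_mul_cancel_left]
    · show (v 0)⁻¹ * β (v 13) * v 0 = v 13
      rw [e, mul_assoc, mul_assoc, ← zs, inv_mul_cancel_left]
  · have := wa (a := a1) (by decide +kernel) o1
    exact absurd (by rw [H80.KF.evw_rep]; simpa [e, mul_assoc] using this) (O.ne o1n)
  · have := wa (a := a2) (by decide +kernel) o2
    exact absurd (by rw [H80.KF.evw_rep]; simpa [e, mul_assoc] using this) (O.ne o2n)

/-- `Q = O₂(C(z))`. -/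
noncomputable abbrev Q : Subgroup X := gen v QL

theorem zz' : evw v [0] * evw v [0] = 1 := by simpa using zz

/-- the elements of `C(z)` fixing five generators of `Q` modulo `z`. -/
noncomputable abbrev K5 : Subgroup X := Kz v (evw v [0]) zz' X5

theorem Q_le : Q ≤ K5 := gen_le fun l hl => by
  have := O.kz zz' kzQ [l] (List.mem_map.2 ⟨l, hl, rfl⟩)
  rwa [show evw v [l] = v l from mul_one _] at this

theorem Cz_le_NQ : Cz (v 0) ≤ Ns Q := Cz_le fun l hl => by
  have : l ∈ QL ∨ ∃ e ∈ nmQ, e.1 = [l] := by revert l; decide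
  rcases this with h | ⟨e, he, e1⟩
  · exact le_normalizer (mem_gen _ h)
  · simpa [e1] using O.nm nmQB e he

theorem K5_spec {y : X} (h : y ∈ K5) : ∃ e ∈ u128, y⁻¹ = evw v e.1 := by
  have := O.tr zz' (xs := X5) (V := prods [0, 1]) trz (d := [[0]]) [] (y := y) trzB
    (fun p hp => ⟨by revert p; decide, Q_le (mem_ovr (fun l hl => mem_gen _ hl) (of_allM trzO p hp))⟩)
    (fun g hg => V0_spec.2 _ (inv_mem hg)) (by rwa [evw_nil, one_mul]) (by
      simpa [CL_one, mem_centralizer_singleton_iff] using h.1)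
  rw [← u128W] at this
  simpa using this

/-- A non-central normal subgroup of `C(z)` contains `e`. -/
theorem e_mem {Y : Subgroup X} (h1 : Y ≤ Cz (v 0)) (h2 : Cz (v 0) ≤ Ns Y)
    (h3 : ¬ Y ≤ Cs (Cz (v 0))) : v 1 ∈ Y := by
  have cj : ∀ c ∈ Cz (v 0), ∀ y ∈ Y, c * y * c⁻¹ ∈ Y := fun c hc y hy =>
    (mem_normalizer_iff.1 (h2 hc) y).1 hy
  have zi : (v 0)⁻¹ = v 0 := inv_eq_of_mul_eq_one_right zz
  have key : ∀ y ∈ Y, y ∈ K5 → y = 1 ∨ y = v 0 ∨ v 1 ∈ Y := fun y hy hk => by
    obtain ⟨e, he, e1⟩ := K5_spec hk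
    obtain ⟨c, hc, e2⟩ := O.cj u128B SA_z e he
    have hm := cj c hc _ (inv_mem hy)
    rw [← e1] at e2
    rcases u128R e he with r | r | r | r <;> rw [r] at e2
    · left; simpa using e2
    · right; left
      have c0 := mem_centralizer_singleton_iff.1 hc
      rw [evw_cons, evw_nil, mul_one, mul_inv_eq_iff_eq_mul, ← c0, mul_right_inj] at e2
      rw [← inv_inv y, e2, zi]
    · right; right; simpa [e2] using hm
    · right; right
      rw [e2] at hm
      obtain ⟨d, hd, e3⟩ := O.cj cfB SA_z cf (by simp)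
      have e4 := O.eq cfE
      rw [evw_append, ← e3, evw_cons, evw_nil, mul_one] at e4
      exact e4 ▸ mul_mem hm (cj d hd _ hm)
  by_contra hn
  refine h3 fun y hy => ?_
  have hk : y ∈ K5 := by
    refine ⟨by simpa using mem_centralizer_singleton_iff.1 (h1 hy), fun x hx => ?_⟩
    have hz : evw v x ∈ Cz (v 0) := mem_ovr SA_z (by revert x; decide +kernel)
    have hq : evw v x ∈ Q := mem_ovr (fun l hl => mem_gen _ hl) (by
      clear hz; revert x; decide +kernel)
    have m1 : y * (evw v x * y⁻¹ * (evw v x)⁻¹) ∈ Y := mul_mem hy (cj _ hz _ (inv_mem hy))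
    have m2 : y * (evw v x * y⁻¹ * (evw v x)⁻¹) ∈ Q := by
      have := mul_mem ((mem_normalizer_iff.1 (Cz_le_NQ (h1 hy)) _).1 hq) (inv_mem hq)
      simpa only [mul_assoc] using this
    have c0 := mem_centralizer_singleton_iff.1 hz
    rcases key _ m1 (Q_le m2) with e | e | e
    · left
      calc y * evw v x = y * (evw v x * y⁻¹ * (evw v x)⁻¹) * evw v x * y := by group
        _ = _ := by rw [e, one_mul]
    · right
      calc y * evw v x = y * (evw v x * y⁻¹ * (evw v x)⁻¹) * evw v x * y := by group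
        _ = _ := by rw [e, ← c0]; simp
    · exact absurd e hn
  rcases key y hy hk with rfl | rfl | e
  · exact one_mem _
  · exact fun g hg => mem_centralizer_singleton_iff.1 hg
  · exact absurd e hn

theorem e_ne : v 1 ≠ 1 := fun c => O.ne n5 (by simp [c])

theorem pv_z : PV (v 0) where
  ne := by
    rw [Py_z]
    exact fun c => z_ne (mem_bot.1 (c ▸ mem_centralizer_singleton_iff.2 rfl))
  cv β _ h := (cz β (Py_z ▸ h)).elim (fun e => e ▸ inn_one) fun e => e ▸ inn_conj _
  card := Or.inl card_Vz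
  mv := ⟨1, one_mem _, fun y hy hn => absurd (Vy_z ▸ hy) hn⟩
  g0 Y h1 h2 h3 B h4 h5 := by
    rw [Py_z] at h1 h3
    exact top_z h4 (h5 _ (e_mem h1 h2 h3) ⟨ee, e_ne⟩ (mem_centralizer_singleton_iff.2 se))
  q8 h := by rw [card_Vz] at h; omega

end H27.SZ
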