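import Cfsg.Agent.H86.TP.Spec
import Cfsg.Agent.S0215

/-! Tower NF (S1308), chapter TE part 1: the socle of a Sylow subgroup is central modulo the core. -/

set_option autoImplicit false

namespace H27.TpZS

open Cfsg Subgroup MulAction H14 H98 H1.Gold H31.S2 H14.GC H14.FE H14.NF H86.TP

universe u

theorem jZS : H86.TP.JobZS.{u} := by
  intro G _ _ Q R E hR hE hsc hN e he g hg
  by_cases e1 : e = 1
  · rw [e1, mul_one, mul_inv_cancel]; exact one_mem _
  have he' := mem_OZ.1 (hE ▸ he)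
  have iso : ∀ g ∈ Q, g * e * g⁻¹ ∈ R → g * e * g⁻¹ = e := by
    intro g hg hr
    have h1 := mem_OZ.1 (hE ▸ hsc e he g hg hr)
    have s1 : IsSyl 2 R (Q ⊓ cen1 (g * e * g⁻¹)) :=
      hR.of_le (le_inf hR.le fun x hx => mem_centralizer_singleton_iff.2 (h1.2.2 x hx)) inf_le_left
    have s2 : IsSyl 2 (cj g R) (Q ⊓ cen1 (g * e * g⁻¹)) := by
      refine (hR.cj_of_mem hg).of_le (le_inf (hR.cj_of_mem hg).le fun x hx => ?_) inf_le_left
      rw [mem_centralizer_singleton_iff]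
      have := he'.2.2 _ (mem_cj.1 hx)
      calc x * (g * e * g⁻¹) = g * (g⁻¹ * x * g * e) * g⁻¹ := by group
        _ = g * (e * (g⁻¹ * x * g)) * g⁻¹ := by rw [this]
        _ = g * e * g⁻¹ * x := by group
    obtain ⟨c, hc, ec⟩ := s2.exists_cj_eq s1
    rw [cj_cj] at ec
    have h2 := mem_centralizer_iff.1 (hN ⟨mul_mem hc.1 hg, cj_eq_self_iff.1 ec⟩) e he
    have h3 := mem_centralizer_singleton_iff.1 hc.2
    calc g * e * g⁻¹ = c * (g * e * g⁻¹) * c⁻¹ := by rw [h3]; group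
      _ = c * g * e * (c * g)⁻¹ := by group
      _ = e := by rw [← h2]; group
  obtain ⟨P, hP⟩ := hR.exists_sylow
  have eQ : e ∈ Q := hR.le he'.1
  have mP : ∀ x : Q, x ∈ P ↔ (x : G) ∈ R := fun x => by
    rw [← mem_subgroupOf, ← hP]; rfl
  obtain ⟨N, hn, ho, hc⟩ := Cfsg.Agent.S0215.result P ⟨e, eQ⟩
    (by
      rw [← orderOf_injective Q.subtype Q.subtype_injective]
      exact orderOf_eq_prime (by rw [pow_two]; exact he'.2.1) e1)
    ((mP _).2 he'.1) fun x hx => Subtype.ext (iso x x.2 ((mP _).1 hx))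
  have hle : N.map Q.subtype ≤ opp 2 Q := by
    refine le_opp (map_subtype_le N) ?_ ?_
    · have := map_le_normalizer_map Q.subtype (H := ⊤) (A := N)
        (by rw [normalizer_eq_top])
      rwa [← MonoidHom.range_eq_map, range_subtype] at this
    · rw [card_map_of_injective Q.subtype_injective]
      exact (Nat.coprime_two_right).2 ho
  have h4 : e * g * e⁻¹ * g⁻¹ ∈ opp 2 Q := hle ⟨_, hc ⟨g, hg⟩, rfl⟩
  have h5 : g * e * g⁻¹ = e * (e * g * e⁻¹ * g⁻¹) := by
    rw [inv_eq_of_mul_eq_one_right he'.2.1, ← mul_assoc, ← mul_assoc, ← mul_assoc, he'.2.1, one_mul]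
  rw [h5]
  exact mul_mem_sup he h4

end H27.TpZS
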