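import Cfsg.Agent.H57.U2CSpec

/-! # S3275, chapter U2F: transport of the data along conjugation. -/

set_option autoImplicit false

namespace H27.U2TP

open Subgroup Cfsg H98 H48.DP H57.U2C
open scoped commutatorElement

universe u

variable {G : Type u} [Group G]

theorem ex {g x : G} {H : Subgroup G} (h : x ∈ cj g H) : ∃ y ∈ H, x = g * y * g⁻¹ :=
  ⟨g⁻¹ * x * g, mem_cj.1 h, by group⟩

theorem cj_zp (g z : G) : cj g (zpowers z) = zpowers (g * z * g⁻¹) := by
  simp [MonoidHom.map_zpowers]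

theorem cj_c1 (g z : G) : cj g (C1 z) = C1 (g * z * g⁻¹) := by
  ext x
  rw [mem_cj, mem_centralizer_singleton_iff, mem_centralizer_singleton_iff]
  constructor
  · intro h
    calc x * (g * z * g⁻¹) = g * (g⁻¹ * x * g * z) * g⁻¹ := by group
      _ = g * (z * (g⁻¹ * x * g)) * g⁻¹ := by rw [h]
      _ = g * z * g⁻¹ * x := by group
  · intro h
    calc g⁻¹ * x * g * z = g⁻¹ * (x * (g * z * g⁻¹)) * g := by group
      _ = g⁻¹ * (g * z * g⁻¹ * x) * g := by rw [h]
      _ = z * (g⁻¹ * x * g) := by group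

theorem cj_stab (g : G) (C N : Subgroup G) : stab (cj g C) (cj g N) = cj g (stab C N) := by
  ext x
  rw [mem_cj]
  change (x ∈ normalizer _ ∧ ∀ c ∈ cj g C, ⁅c, x⁆ ∈ cj g N) ↔
    (g⁻¹ * x * g ∈ normalizer _ ∧ ∀ c ∈ C, ⁅c, g⁻¹ * x * g⁆ ∈ N)
  rw [← cj_normalizer, mem_cj]
  refine and_congr Iff.rfl ⟨fun h c hc => ?_, fun h c hc => ?_⟩
  · have := mem_cj.1 (h _ (conj_mem_cj (g := g) hc))
    convert this using 1
    simp only [commutatorElement_def]; group
  · have := h _ (mem_cj.1 hc)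
    rw [mem_cj]
    convert this using 1
    simp only [commutatorElement_def]; group

theorem st_cj (g : G) (U : Subgroup G) (z : G) :
    St (cj g U) (g * z * g⁻¹) = cj g (St U z) := by
  rw [St, ← cj_zp, cj_stab]

theorem ea_cj {p : ℕ} (g : G) {U : Subgroup G} (h : IsElementaryAbelian p U) :
    IsElementaryAbelian p (cj g U) := by
  refine ⟨⟨⟨fun a b => Subtype.ext ?_⟩⟩, fun a ha => ?_⟩
  · obtain ⟨x, hx, ex'⟩ := ex a.2
    obtain ⟨y, hy, ey⟩ := ex b.2
    have := congrArg Subtype.val (h.1.is_comm.comm ⟨x, hx⟩ ⟨y, hy⟩)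
    simp only [coe_mul] at this ⊢
    rw [ex', ey]
    calc g * x * g⁻¹ * (g * y * g⁻¹) = g * (x * y) * g⁻¹ := by group
      _ = g * (y * x) * g⁻¹ := by rw [this]
      _ = _ := by group
  · obtain ⟨x, hx, rfl⟩ := ex ha
    rw [conj_pow, h.2 x hx]; group

theorem gd_cj (g : G) {F : Subgroup G} {u : G} (h : Gd F u) : Gd (cj g F) (g * u * g⁻¹) := by
  obtain ⟨E, h1, h2, h3, h4⟩ := h
  exact ⟨cj g E, cj_mono g h1, ea_cj g h2, by rwa [card_cj], by
    rw [← cj_c1]; exact cj_mono g h4⟩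

theorem gd_of {g : G} {F : Subgroup G} {u : G} (h : Gd (cj g F) (g * u * g⁻¹)) : Gd F u := by
  have := gd_cj g⁻¹ h
  rw [cj_inv_cj] at this
  convert this using 1
  group

theorem md_cj (g : G) {K F U : Subgroup G} {z : G} (h : Md K F U z) :
    Md (cj g K) (cj g F) (cj g U) (g * z * g⁻¹) where
  ea := ea_cj g h.ea
  zU := conj_mem_cj h.zU
  KU := by rw [No, ← cj_normalizer]; exact cj_mono g h.KU
  Kz := by rw [← cj_c1]; exact cj_mono g h.Kz
  FK := cj_mono g h.FK
  F3 := isPGroup_cj g h.F3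
  e27 := by
    obtain ⟨B, h1, h2, h3⟩ := h.e27
    exact ⟨cj g B, cj_mono g h1, ea_cj g h2, by rwa [card_cj]⟩
  nF := by
    intro k0 hk0 f0 hf0
    obtain ⟨k, hk, rfl⟩ := ex hk0
    obtain ⟨f, hf, rfl⟩ := ex hf0
    obtain ⟨f', hf', e⟩ := h.nF k hk f hf
    refine ⟨_, conj_mem_cj (g := g) hf', ?_⟩
    rw [st_cj]
    convert conj_mem_cj (g := g) e using 1
    group
  fd := by
    intro t0 ht0 h2 hc
    obtain ⟨t, ht, rfl⟩ := ex ht0
    rw [st_cj] at hc ⊢
    refine conj_mem_cj (h.fd t ht ?_ fun f hf => ?_)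
    · have := isPGroup_cj g⁻¹ h2
      rwa [← cj_zp, cj_inv_cj] at this
    · have := mem_cj.1 (hc _ (conj_mem_cj (g := g) hf))
      convert this using 1
      simp only [commutatorElement_def]; group

theorem gdc (g : G) {M F U : Subgroup G} (h : ∀ u ∈ U, u ≠ 1 → Gd F u → C1 u ≤ M) :
    ∀ u ∈ cj g U, u ≠ 1 → Gd (cj g F) u → C1 u ≤ cj g M := by
  intro u0 hu0 h1 hg
  obtain ⟨u, hu, rfl⟩ := ex hu0
  rw [← cj_c1]
  exact cj_mono g (h u hu (by rintro rfl; exact h1 (by group)) (gd_of hg))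

theorem tp : TP.{u} := by
  intro G _ M Q K F U z g
  refine ⟨fun h => ?_, fun h => ?_, st_cj g U z⟩
  · refine { (by simpa using md_cj g h.toMd : Md (cj g K) (cj g F) (cj g U) 1) with
      KM := cj_mono g h.KM
      KQ := by rw [No, ← cj_normalizer]; exact cj_mono g h.KQ
      QV := by rw [Ce, ← cj_centralizer]; exact cj_mono g h.QV
      gd := gdc g h.gd
      big := ?_ }
    rw [Ce, ← cj_centralizer, cj_le_cj_iff]
    exact h.big
  · exact { md_cj g h.toMd with
      KM := cj_mono g h.KM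
      z1 := fun e => h.z1 (by simpa using e)
      cz := by rw [← cj_c1]; exact cj_mono g h.cz
      gd := gdc g h.gd }

end H27.U2TP
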