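import Cfsg.Agent.H27.XPB1

/-! XP tower, job B0: the dichotomy. -/

set_option autoImplicit false
set_option linter.unusedSectionVars false

namespace H27.XP
open Cfsg H92 H93 Subgroup H92.Es H92.P5 H87.F3 H87.XP
open scoped commutatorElement

universe u

variable {Ω : Type u} [Group Ω] {S Q Z E G X : Subgroup Ω} {a b c d e g s v w x y : Ω} {p : ℕ}
variable [hp : Fact p.Prime] [Finite Ω]

namespace B0
variable (h : B0 p S Q Z E G a v)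
include h

theorem no_g (inj : ∀ g ∈ Q, ⁅g, v⁆ ∈ Z → g ∈ E) (gQ : g ∈ Q) (gC : g ∈ Ct (E ⊓ Q :))
    (gN : g ∈ Nm E) : g ∈ E := by
  by_contra ng
  have gS : g ∈ S ⊓ Nm E := ⟨h.lQ gQ, gN⟩
  have gG := h.le gS
  have cM : ⁅g, v⁆ ∈ E ⊓ Q := ⟨comm_mem_of_Nm gN h.vE, com_symm (h.com_Q h.vS gQ)⟩
  have cZ : ⁅g, v⁆ ∉ Z := fun r => ng (inj g gQ r)
  have t : g ∈ Tv E (zpowers ⁅g, v⁆) := h.sM.tv_of (mem_Tv_of_Ct gC (Ct_le_Nm _ (Ct_anti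
    (zpowers_le.2 cM) gC))) (h.nmE (zpowers_le.2 cM.1)) h.vE h.vM (mem_zpowers _)
  generalize ⁅g, v⁆ = c at cM cZ t
  have o : ∀ b ∈ G, cj b Z ≤ E ⊓ Q → b ∈ Nm Z := fun b hb r =>
    h.se b hb g gS ng (Ct_le_Nm _ (Ct_anti r gC))
  have t' := conj_mem_Tv a t
  rw [h.cjE h.ha, cj_zpowers] at t'
  have gC' := conj_mem_Ct_cj a gC
  have cM' := conj_mem_cj a cM
  have sM' := h.sM.cj a
  rw [h.cjE h.ha] at sM'
  have g'G := mul_mem (mul_mem h.ha gG) (inv_mem h.ha)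
  have n1 : c ∉ cj a (E ⊓ Q) := fun r => by
    have m := Nm_of_Tv t (zpowers_le.2 r) sM'.le
    have := o _ (mul_mem (mul_mem (inv_mem h.ha) gG) h.ha) (by
      rw [cj_mul, cj_mul, cj_le_iff_le_cj, inv_inv]
      exact (cj_mono g (cj_mono a h.zM)).trans (cj_eq_of_Nm m).le)
    exact h.na (h.se a h.ha g gS ng (by rw [← cj_Nm]; exact mem_cj.2 this))
  have n2 : ¬ Z ≤ cj a (E ⊓ Q) := fun r =>
    h.na (inv_mem_iff.1 (o _ (inv_mem h.ha) (le_cj_iff_cj_le.1 r)))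
  have n3 : a * c * a⁻¹ ∉ E ⊓ Q := fun r => by
    have m := Nm_of_Tv t' (zpowers_le.2 r) inf_le_left
    have := o _ g'G ((cj_mono _ h.zM).trans (cj_eq_of_Nm m).le)
    exact h.na (inv_mem_iff.1 (h.se _ (inv_mem h.ha) g gS ng (by
      rw [← cj_Nm]; exact mem_cj_inv.2 this)))
  have c'E := sM'.le cM'
  have s0 := sp_zp (y := c) (fun r => cZ (r ▸ one_mem Z)) (h.pE cM.1)
  have s1 := sp_zp (y := a * c * a⁻¹) (fun r => n3 (r ▸ one_mem _)) (h.pE c'E)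
  have VE : zpowers c ⊔ zpowers (a * c * a⁻¹) ≤ E := sup_le (zpowers_le.2 cM.1) (zpowers_le.2 c'E)
  have pV := (h.pg.to_le h.lE).to_le VE
  have ne : ¬ zpowers (a * c * a⁻¹) ≤ zpowers c := fun r =>
    n3 ((zpowers_le.2 cM) (r (mem_zpowers _)))
  have v0 := (two_min s0 s1 ne ((zpowers_le.2 c'E).trans (h.nmE (zpowers_le.2 cM.1))) pV).1
  have v1 := (two_min s1 s0 (fun r => n1 ((zpowers_le.2 cM') (r (mem_zpowers _))))
    ((zpowers_le.2 cM.1).trans (h.nmE (zpowers_le.2 c'E))) (sup_comm (zpowers c) _ ▸ pV)).1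
  rw [sup_comm] at v1
  obtain ⟨τ, hτ, w, -⟩ := torus (k := -1) (l := -1) s0 s1 v0 v1 ne (Tv_anti VE _ t)
    (tv_bot.2 (Ct_anti (zpowers_le.2 cM) gC))
    (fun r => ng (h.cc ⟨gS.1, h.sM.ct_of gC c'E n3
      (com_ct (tv_bot.1 r) (mem_sup_right (mem_zpowers _)))⟩))
    (Tv_anti VE _ t') (tv_bot.2 (Ct_anti (zpowers_le.2 cM') gC'))
    (fun r => ng (h.cc ⟨gS.1, by
      have := conj_mem_Ct_of_Nm (inv_mem (h.nm h.ha)) (sM'.ct_of gC' cM.1 n1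
        (com_ct (tv_bot.1 r) (mem_sup_left (mem_zpowers _))))
      simpa [mul_assoc] using this⟩)) (by simp)
  have τ1 : τ ∈ G ⊓ Ct (E ⊓ Q ⊓ cj a (E ⊓ Q) :) := (closure_le _).2 (by
    rintro _ (rfl | rfl)
    · exact ⟨gG, Ct_anti inf_le_left gC⟩
    · exact ⟨g'G, Ct_anti inf_le_right gC'⟩) hτ
  have sA := sM'.inf (K := E ⊓ Q) inf_le_left fun r => n1 (r cM)
  have τM : τ ∈ Nm (E ⊓ Q) := by
    rw [sA.sup cM fun r => n1 r.2]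
    exact mem_Nm_sup (Ct_le_Nm _ τ1.2) (W.nm bot_le w)
  have τZ := o τ τ1.1 ((cj_mono τ h.zM).trans (cj_eq_of_Nm τM).le)
  obtain ⟨z, hz, nz⟩ := SetLike.not_le_iff_exists.1 n2
  obtain ⟨i, hi⟩ := sA.dec cM (fun r => n1 r.2) (h.zM hz)
  have e1 := conj_eq_of_Ct τ1.2 hi
  have e2 := inv_mul_eq_one.1 (mem_bot.1 (w _ (zpow_mem (mem_zpowers c) i)))
  refine cZ (mem_of_zpow (k := 2 * i) (h.pE cM.1 ▸ one_mem Z) ?_ ?_)
  · convert mul_mem hz (inv_mem (conj_mem_of_Nm τZ hz)) using 1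
    calc _ = c ^ i * ((c ^ i)⁻¹ * z) * ((c ^ i) ^ (-1 : ℤ) * ((c ^ i)⁻¹ * z))⁻¹ := by group
      _ = c ^ i * ((c ^ i)⁻¹ * z) * (τ * c ^ i * τ⁻¹ * (τ * ((c ^ i)⁻¹ * z) * τ⁻¹))⁻¹ := by
        rw [e1, e2]
      _ = _ := by group
  · push_cast
    refine mul_ne_zero (by exact_mod_cast two_ne h.odd) fun r => nz ?_
    obtain ⟨j, rfl⟩ := (ZMod.intCast_zmod_eq_zero_iff_dvd i p).1 r
    rw [zpow_mul, zpow_natCast, h.pE cM.1, _root_.one_zpow, inv_one, one_mul] at hi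
    exact hi.2

theorem nE (inj : ∀ g ∈ Q, ⁅g, v⁆ ∈ Z → g ∈ E) : S ≤ Nm E := by
  have vC : v ∈ Ct (E ⊓ Q :) := Ct_anti inf_le_left (h.ab h.vE)
  have k : S ⊓ Ct (E ⊓ Q :) ≤ E := by
    by_contra r
    obtain ⟨x, hx, nx⟩ := SetLike.exists_of_lt (lt_Nm (h.pg.to_le inf_le_left) (lt_of_le_not_ge
      (le_inf h.lE (h.ab.trans (Ct_anti inf_le_left))) r))
    obtain ⟨i, hi⟩ := h.sp.dec h.vS h.nv hx.1.1
    exact nx ((E.mul_mem_cancel_left (inv_mem (zpow_mem h.vE i))).1 (h.no_g inj hi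
      (mul_mem (inv_mem (zpow_mem vC i)) hx.1.2)
      (mul_mem (inv_mem (zpow_mem (le_Nm E h.vE) i)) hx.2)))
  refine h.sp.le_of (fun q hq => h.nmE' (h.nM hq) (k ⟨h.lQ (com_symm (h.com_Q h.vS hq)),
    mem_Ct'.2 fun d hd => ?_⟩)) h.vS h.nv (le_Nm E h.vE)
  exact (commutatorElement_eq_one_iff_commute.1 (h.com_com h.vS hq hd.2 (h.mD hd).2.2)).symm

end B0

omit hp in
theorem jobB0 : JobB0.{u} := fun Ω _ _ p _ S Q Z E G a v h0 ha ev nv => by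
  have h : B0 p S Q Z E G a v := ⟨h0, ha, ev, nv⟩
  by_cases r : Q ⊓ Cm v Z ≤ E
  · have inj : ∀ g ∈ Q, ⁅g, v⁆ ∈ Z → g ∈ E := fun g hg e => r ⟨hg, h.nZ (h.lQ hg), e⟩
    exact Or.inr ⟨h0, ha, ev, nv, el_bot h.ab fun _ => h.pE, h.nE inj, inj⟩
  · obtain ⟨c, hc, nc⟩ := SetLike.not_le_iff_exists.1 r
    have m := h.mZ hc nc
    exact Or.inl ⟨by rw [← le_antisymm m h.zM]; exact h.sM.sup h.vE h.vM,
      h0.toXS, h.vS, nv, h.pv, fun y hy => m ⟨h.cq hy, hy.1⟩⟩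

end H27.XP
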