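import Cfsg.Agent.H87.XPT
import Cfsg.Agent.H9.Coord

/-! XP tower, job B0, part 1: `E` is elementary abelian; the case `D ≠ M`. -/

set_option autoImplicit false
set_option linter.unusedSectionVars false

namespace H27.XP
open Cfsg H92 H93 Subgroup H92.Es H92.P5 H87.F3 H87.XP
open scoped commutatorElement

universe u

variable {Ω : Type u} [Group Ω] {S Q Z E G X : Subgroup Ω} {a b c d e g s v w x y : Ω} {p : ℕ}

/-- the hypothesis of job B0 -/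
structure B0 (p : ℕ) (S Q Z E G : Subgroup Ω) (a v : Ω) : Prop extends LX p S Q Z E G where
  ha : a ∈ G
  ev : cj a Z = zpowers v
  nv : v ∉ Q

variable [hp : Fact p.Prime] [Finite Ω]

theorem sp_zp (h1 : y ≠ 1) (h2 : y ^ p = 1) : Sp p (zpowers y) ⊥ := by
  have c : Nat.card (zpowers y) = p := by rw [Nat.card_zpowers, orderOf_eq_prime h2 h1]
  exact sp_bot (IsPGroup.of_card (c.trans (pow_one p).symm)) c

namespace B0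
variable (h : B0 p S Q Z E G a v)
include h

theorem cjE (hb : b ∈ G) : cj b E = E := cj_eq_of_Nm (h.nm hb)
theorem zE' (hb : b ∈ G) : cj b Z ≤ E := (cj_mono b h.zE).trans (h.cjE hb).le
theorem vZ : v ∈ cj a Z := h.ev ▸ mem_zpowers v
theorem vE : v ∈ E := h.zE' h.ha h.vZ
theorem vS : v ∈ S := h.lE h.vE
theorem sZ' (b : Ω) : Sp p (cj b Z) ⊥ := by simpa using h.sZ.cj b
theorem sM : Sp p E (E ⊓ Q) := h.sp.inf h.lE h.nQ
theorem vM : v ∉ E ⊓ Q := fun e => h.nv e.2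
theorem zM : Z ≤ E ⊓ Q := le_inf h.zE h.lZ
theorem nZ' : ¬ cj a Z ≤ Z := fun e => h.nv (h.lZ (e h.vZ))
theorem na : a ∉ Nm Z := fun e => h.nZ' (cj_eq_of_Nm e).le
theorem nM : Q ≤ Nm (E ⊓ Q) := h.nm_mid h.zM inf_le_right

theorem ctv : E ≤ Ct (zpowers v) := by
  rw [← h.ev, ← cj_Ct, ← h.cjE h.ha]; exact cj_mono a (h.lE.trans h.cen)

theorem disj : Z ⊓ cj a Z = ⊥ :=
  (h.sZ' a).eq_of' bot_le inf_le_right fun e => h.nZ' (e.trans inf_le_left)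

theorem ab : E ≤ Ct E := by
  have nz := h.lE.trans h.nZ
  have t : E ≤ Tv E Z := h.sM.cyc nz (h.sM.le_of (fun _ m => Tv_anti inf_le_right Z (h.tv m.2)) h.vE
    h.vM (mem_Tv_of_Ct (le_Ct_comm.1 (inf_le_left.trans h.ctv) (mem_zpowers v)) (nz h.vE)))
  have t' : E ≤ Tv E (cj a Z) := by
    have := cj_mono a t
    rwa [cj_Tv, h.cjE h.ha] at this
  exact fun x hx => tv_bot.1 (h.disj ▸ mem_Tv_inf (t hx) (t' hx))

theorem comm (hx : x ∈ E) (hy : y ∈ E) : Commute x y := mem_Ct'.1 (h.ab hy) x hx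

theorem nmE (hX : X ≤ E) : E ≤ Nm X := h.ab.trans ((Ct_anti hX).trans (Ct_le_Nm X))

theorem pv : v ^ p = 1 := mem_bot.1 ((h.sZ' a).pow h.vZ)

theorem pE (hy : y ∈ E) : y ^ p = 1 := by
  have k : ∀ y ∈ E, y ^ p ∈ Z := fun y hy => by
    obtain ⟨k, m⟩ := h.sM.dec h.vE h.vM hy
    have := h.pw _ m.2
    rwa [(h.comm (inv_mem (zpow_mem h.vE k)) hy).mul_pow, inv_pow, ← zpow_natCast (v ^ k),
      ← zpow_mul, mul_comm k, zpow_mul, zpow_natCast, h.pv, _root_.one_zpow, inv_one, one_mul] at this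
  refine mem_bot.1 (h.disj.le ⟨k y hy, mem_cj.2 ?_⟩)
  have := k _ (conj_mem_of_Nm' (h.nm h.ha) hy)
  rwa [← inv_inv a, inv_inv a⁻¹, conj_pow, inv_inv] at this

theorem nmE' (h1 : g ∈ Nm (E ⊓ Q)) (h2 : ⁅g, v⁆ ∈ E) : g ∈ Nm E := mem_Nm_of_le (by
  rw [h.sM.sup h.vE h.vM, cj_sup, cj_eq_of_Nm h1, cj_zpowers, ← h.sM.sup h.vE h.vM]
  refine sup_le inf_le_left (zpowers_le.2 ?_)
  simpa [commutatorElement_def] using mul_mem h2 h.vE)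

theorem cq : Q ⊓ Ct (zpowers v) ≤ E := fun c hc => by
  by_contra n
  exact h.na (h.se a h.ha c ⟨h.lQ hc.1, h.nmE' (h.nM hc.1) (ct_zp.1 hc.2 ▸ one_mem E)⟩ n
    (h.ev ▸ Ct_le_Nm _ hc.2))

theorem mD : E ⊓ Q ≤ Q ⊓ Cm v Z := fun _ m =>
  ⟨m.2, h.nZ (h.lQ m.2), ct_zp.1 (h.ctv m.1) ▸ one_mem Z⟩

theorem cardD : Nat.card (Q ⊓ Cm v Z :) ≤ p * Nat.card (E ⊓ Q :) :=
  (h.card_ct (w := v) ((inf_le_left : Q ⊓ Cm v Z ≤ Q).trans h.lQ) fun _ hg => hg.2.2).trans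
    (Nat.mul_le_mul_left _ (card_le_of_le fun _ m => ⟨h.cq ⟨m.1.1, m.2⟩, m.1.1⟩))

theorem se' (hb : b ∈ G) (he : e ∈ G) (hx : x ∈ S ⊓ Nm E) (nx : x ∉ E)
    (r : b * x * b⁻¹ ∈ Nm (cj e Z)) : cj b Z = cj e Z := by
  have := h.se (b⁻¹ * e) (mul_mem (inv_mem hb) he) x hx nx (by
    rw [cj_mul, ← cj_Nm]; exact mem_cj_inv.2 r)
  rw [← cj_mul_of_Nm this, mul_inv_cancel_left]

theorem star (hc : c ∈ Q ⊓ Cm v Z) (nc : c ∉ E) (hw : w ∈ Q) (m : ⁅w, v⁆ ∈ E) : ⁅w, v⁆ ∈ Z := by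
  have nz := h.lE.trans h.nZ
  have t : c ∈ Tv E Z := h.sM.tv_of (Tv_anti inf_le_right Z (h.tv hc.1)) nz h.vE h.vM hc.2.2
  have cN : c ∈ S ⊓ Nm E := ⟨h.lQ hc.1, Nm_of_Tv t h.zE le_rfl⟩
  have tb : ∀ b ∈ G, b * c * b⁻¹ ∈ Tv E (cj b Z) := fun b hb => by
    have := conj_mem_Tv b t
    rwa [h.cjE hb] at this
  have UE : Z ⊔ cj a Z ≤ E := sup_le h.zE (h.zE' h.ha)
  have pU := (h.pg.to_le h.lE).to_le UE
  have nZ'' : ¬ Z ≤ cj a Z := fun e => h.nZ' (Sp.eq_of_le' h.sZ (h.sZ' a) e).ge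
  have s1 := (two_min h.sZ (h.sZ' a) h.nZ' ((h.zE' h.ha).trans nz) pU).1
  have s2 := (two_min (h.sZ' a) h.sZ nZ'' (h.zE.trans (h.nmE (h.zE' h.ha))) (sup_comm Z _ ▸ pU)).1
  rw [sup_comm] at s2
  have ln : ∀ y ∈ Z ⊔ cj a Z, y ≠ 1 → ∃ e ∈ G, cj e Z = zpowers y := fun y hy y1 => by
    have sy := sp_zp y1 (h.pE (UE hy))
    by_cases r : zpowers y ≤ cj a Z
    · exact ⟨a, h.ha, (Sp.eq_of_le' sy (h.sZ' a) r).symm⟩
    obtain ⟨i, e⟩ := lines s2 (h.sZ' a) (le_tv_bot (UE.trans (h.ab.trans (Ct_anti UE))))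
      (Tv_anti UE _ (tb a h.ha)) (tv_bot.2 (conj_mem_Ct_cj a (h.cen cN.1))) (fun r => h.nZ' (by
        simpa using (h.se' h.ha (one_mem G) cN nc (by
          simpa using Ct_le_Nm Z (Ct_anti le_sup_left (tv_bot.1 r)))).le))
      h.sZ sy le_sup_left (zpowers_le.2 hy) nZ'' r
    exact ⟨_, pow_mem (mul_mem (mul_mem h.ha (h.le cN)) (inv_mem h.ha)) i, e⟩
  have all : ∀ b ∈ G, cj b Z ≤ Z ⊔ cj a Z := fun b hb => by
    have := card_le_cm (w := b * c * b⁻¹) (h.sZ' b) (le_tv_bot (UE.trans (h.ab.trans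
      (Ct_anti (h.zE' hb))))) fun g hg => com_symm (com_of_tv (tb b hb) (UE hg))
    obtain ⟨y, hy, y1⟩ : ∃ y ∈ (Z ⊔ cj a Z) ⊓ Cm (b * c * b⁻¹) ⊥, y ∉ (⊥ : Subgroup Ω) :=
      SetLike.not_le_iff_exists.1 fun r => by
        rw [le_bot_iff.1 r, card_bot, s1.card, h.cZ] at this
        exact absurd (Nat.le_of_mul_le_mul_left this hp.out.pos) hp.out.one_lt.not_ge
    obtain ⟨e, he, e'⟩ := ln y hy.1 (mt mem_bot.2 y1)
    rw [h.se' hb he cN nc (e' ▸ Ct_le_Nm _ (ct_zp.2 (mem_bot.1 (com_symm hy.2.2)))), e']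
    exact zpowers_le.2 hy.1
  have wG := h.le ⟨h.lQ hw, h.nmE' (h.nM hw) m⟩
  have wU : w ∈ Nm (Z ⊔ cj a Z) := mem_Nm_of_le (by
    rw [cj_sup, ← cj_mul]; exact sup_le (all w wG) (all _ (mul_mem wG h.ha)))
  exact (s1.eq_of' (K := (Z ⊔ cj a Z) ⊓ Q) (le_inf le_sup_left h.lZ) inf_le_left fun e =>
    h.nv (e (mem_sup_right h.vZ)).2).le ⟨comm_mem_of_Nm wU (mem_sup_right h.vZ),
      com_symm (h.com_Q h.vS hw)⟩

theorem exI : ∃ I : Subgroup Ω, Z ≤ I ∧ I ≤ Q ∧ S ≤ Nm I ∧ (∀ w ∈ Q, ⁅w, v⁆ ∈ I) ∧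
    ∀ y ∈ I, ∃ w ∈ Q, y⁻¹ * ⁅w, v⁆ ∈ Z := by
  obtain ⟨n, π, c, -⟩ := H9.exists_coord p (Q := Q) (B := Z) (fun _ a _ b => h.com a b) h.pw
  have m : ∀ {w}, w ∈ Q → ⁅w, v⁆ ∈ Q := fun hw => com_symm (h.com_Q h.vS hw)
  have ad : ∀ w ∈ Q, ∀ w' ∈ Q, π ⁅w * w', v⁆ = π ⁅w', v⁆ + π ⁅w, v⁆ := fun w hw w' hw' => by
    rw [com_mul, c.add _ (conj_mem_of_Nm (le_Nm Q hw) (m hw')) _ (m hw), c.conj hw (m hw')]
  let I : Subgroup Ω := ⟨⟨⟨{y | y ∈ Q ∧ ∃ w ∈ Q, π y = π ⁅w, v⁆}, by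
    rintro x y ⟨hx, w, hw, e⟩ ⟨hy, w', hw', e'⟩
    exact ⟨mul_mem hx hy, _, mul_mem hw' hw, by rw [ad _ hw' _ hw, c.add _ hx _ hy, e, e']⟩⟩,
    one_mem _, 1, one_mem _, by simp⟩, by
    rintro x ⟨hx, w, hw, e⟩
    refine ⟨inv_mem hx, _, inv_mem hw, ?_⟩
    have := ad _ (inv_mem hw) _ hw
    rw [inv_mul_cancel, commutatorElement_one_left, c.one] at this
    rw [c.inv hx, e, neg_eq_of_add_eq_zero_right this.symm]⟩
  have zI : Z ≤ I := fun z hz => ⟨h.lZ hz, 1, one_mem _, by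
    rw [commutatorElement_one_left, c.one, c.ker z (h.lZ hz)]; exact hz⟩
  have cI : ∀ w ∈ Q, ⁅w, v⁆ ∈ I := fun w hw => ⟨m hw, w, hw, rfl⟩
  refine ⟨I, zI, fun _ a => a.1, h.nm_of zI (fun _ a => a.1) h.vS h.nv (mem_Nm_of_conj fun y hy => ?_),
    cI, fun y ⟨hy, w, hw, e⟩ => ⟨w, hw, (c.eq_iff hy (m hw)).1 e⟩⟩
  simpa [commutatorElement_def] using mul_mem (com_symm (cI y hy.1)) hy

theorem mZ (hc : c ∈ Q ⊓ Cm v Z) (nc : c ∉ E) : E ⊓ Q ≤ Z := by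
  obtain ⟨I, zI, iQ, nI, cI, dI⟩ := h.exI
  have abM : E ⊓ Q ≤ Ct (E ⊓ Q :) := inf_le_left.trans (h.ab.trans (Ct_anti inf_le_left))
  have sD : Sp p (Q ⊓ Cm v Z) (E ⊓ Q) := sp_of_le (h.pg.to_le (inf_le_left.trans h.lQ))
    (lt_of_le_not_ge h.mD fun r => nc (r hc).1) h.cardD
  have iM : I ⊓ (E ⊓ Q) ≤ Z := fun y hy => by
    obtain ⟨w, hw, e⟩ := dI y hy.1
    have := h.star hc nc hw ((E.mul_mem_cancel_left (inv_mem hy.2.1)).1 (h.zE e))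
    exact inv_mem_iff.1 ((Z.mul_mem_cancel_right this).1 e)
  have iD : I ≤ Ct (Q ⊓ Cm v Z :) := fun y hy => by
    obtain ⟨w, hw, e⟩ := dI y hy
    have c1 : ⁅w, v⁆ ∈ Ct (Q ⊓ Cm v Z :) := mem_Ct'.2 fun d hd =>
      (commutatorElement_eq_one_iff_commute.1 (h.com_com h.vS hw hd.1 hd.2.2)).symm
    exact inv_mem_iff.1 ((mul_mem_cancel_right c1).1
      (le_Ct_comm.1 ((inf_le_left.trans h.lQ).trans h.cen) e))
  obtain ⟨C, c1, c2, c3, -⟩ := exists_step h.pg (iQ.trans h.lQ) zI nI h.nZ fun r =>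
    h.not_ab inf_le_right abM ((card_le_of_le (le_inf le_rfl fun w hw =>
      ⟨h.nZ (h.lQ hw), r (cI w hw)⟩ : Q ≤ Q ⊓ Cm v Z)).trans h.cardD)
  obtain ⟨s, hs, ns⟩ := c1.ex
  have sI := c2 hs
  have sD' : s ∈ Q ⊓ Cm v Z := ⟨iQ sI, h.nZ (h.lQ (iQ sI)), com_symm (com_of_tv (c3 h.vS) hs)⟩
  have sM : s ∉ E ⊓ Q := fun r => ns (iM ⟨sI, r⟩)
  have abD := sD.cyc' (sD.le_of abM sD' sM (Ct_anti h.mD (iD sI)))
  have c4 := (sD.inf (K := I ⊓ (Q ⊓ Cm v Z)) inf_le_right fun r => sM (r ⟨sI, sD'⟩)).card.le.trans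
    (Nat.mul_le_mul_left p ((card_le_of_le ((inf_le_inf_right _ inf_le_left).trans iM)).trans h.cZ.le))
  have c5 := h.up (v := v) zI iQ nI
  rw [inf_eq_left.2 fun w hw => ⟨nI (h.lQ hw), cI w hw⟩] at c5
  have c6 := card_sup_mul (iD.trans (Ct_le_Nm _))
  have c7 := h.card_le_sq inf_le_left (sup_le iQ inf_le_left)
    (le_Ct_comm.1 (sup_le iD abD)) (Nat.le_of_mul_le_mul_right (c := p) (by nlinarith) hp.out.pos)
  rw [sD.card, sq] at c7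
  exact (eq_of_le_of_card_ge h.zM (h.cZ ▸ Nat.le_of_mul_le_mul_left c7 hp.out.pos)).ge

end B0

end H27.XP
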