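import Cfsg.Agent.H27.XPW1
import Cfsg.Agent.H9.MaxClass
import Cfsg.Agent.H19.Regular2

/-! XP tower, job B1W: weights and maximal class. -/

set_option autoImplicit false
set_option linter.unusedSectionVars false

namespace H27.XP
open Cfsg H92 H93 Subgroup H92.Es H92.P5 H87.F3 H87.XP
open scoped commutatorElement

universe u

variable {Ω : Type u} [Group Ω] {S Q Z X : Subgroup Ω} {d g s v x y : Ω} {p i j m : ℕ} {k l μ : ℤ}
variable [hp : Fact p.Prime] [Finite Ω] (h : PL p S Q Z v)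
include h

theorem weights (c : Nat.card Q = p ^ (m + 2)) (a : Lv Q v (m + 1) x) (hg : g ∈ Nm S)
    (e : (k * l : ZMod p) = 1) (w0 : ∀ y ∈ Z, W g y ⊥ k) (w : W g v Z l) :
    W g x (ch Q v (m + 1)) l ∧ (l : ZMod p) ^ (m + 3) = 1 := by
  have sp := ch_sp h c (i := m + 1) (by omega)
  obtain ⟨μ, w'⟩ := sp.wt (ch_nm' h hg _) a.1 a.2
  have μ0 := w'.ne (ch_nm' h hg _) a.2 (sp.pow a.1)
  have l0 : (l : ZMod p) ≠ 0 := right_ne_zero_of_mul_eq_one e
  have a0 : Lv Q v (0 + (m + 1)) x := by rwa [zero_add]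
  have a1 : Lv Q v (1 + m) x := by rwa [add_comm]
  have b0 := a0.iter h
  have b1 := a1.iter h
  have u0 := a0.wt_iter h c (by omega) w (by rwa [zero_add])
  have u1 := a1.wt_iter h c (by omega) w (by rwa [add_comm])
  have m0 := b0.1
  rw [zero_add, ch_one h] at m0
  have e0 := u0.uniq (w0 _ m0) b0.2 (h.sZ.pow m0)
  generalize (fun t => ⁅v, t⁆)^[m] x = d at *
  obtain ⟨k1, k2⟩ := ct_d h c b1
  have m1 := h.com a.1.1 b1.1.1
  have u2 : W g ⁅x, d⁆ ⊥ _ := W.comm w' u1 a.1.1 b1.1 (ch_sp h c (i := 1) (by omega)).le (nm_bot _)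
    (nm_bot _) (le_tv_bot (k1.ge.trans inf_le_right))
    (le_tv_bot (by rw [ch_one h]; exact le_Ct_comm.1 (h.lQ.trans h.cen)))
    (mem_bot.2 (h.com_Z (h.lQ a.1.1) m1)) (mem_bot.2 (h.com_Z (h.lQ b1.1.1) m1))
  have e1 := u2.uniq (w0 _ m1) (fun r => a.2 (k1.le ⟨a.1.1, k2 x (h.lQ a.1.1) (mem_bot.1 r)⟩))
    (h.sZ.pow m1)
  push_cast at e0 e1
  have e2 : (μ : ZMod p) = l := mul_right_cancel₀ (mul_ne_zero (pow_ne_zero m l0) μ0) (by
    linear_combination e1 - e0)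
  refine ⟨w'.of_eq (sp.pow a.1) e2, ?_⟩
  rw [e2] at e0
  linear_combination l * e0 + e

theorem le_p (c : Nat.card Q = p ^ (m + 2)) (a : Lv Q v (m + 1) x) : m < p := by
  by_contra r
  obtain ⟨n, rfl⟩ := Nat.exists_eq_add_of_le (not_lt.1 r)
  have a1 : Lv Q v (1 + n + p) x := by rwa [show 1 + n + p = p + n + 1 by omega]
  refine (a1.iter h).2 ?_
  rw [add_comm 1 n]
  exact (ch_succ h n).1 (iter_p h a.1.1)

theorem card_ctv : Nat.card (centralizer ({⟨v, h.hv⟩} : Set S)) = p ^ 2 := by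
  have m : v ∈ S ⊓ Ct (zpowers v) := ⟨h.hv, ct_zp.2 (commutatorElement_self v)⟩
  have s := h.sp.inf (K := S ⊓ Ct (zpowers v)) inf_le_left fun e => h.nv (e m)
  have e : S ⊓ Ct (zpowers v) ⊓ Q = Z := le_antisymm (fun _ a => h.cq ⟨a.2, a.1.2⟩) fun _ a =>
    ⟨⟨h.lS a, mem_Ct_comm (h.cen h.hv) a⟩, h.lZ a⟩
  have c := s.card
  rw [e, h.cZ, ← sq] at c
  rw [← c, ← card_map_of_injective S.subtype_injective]
  congr 2
  ext y
  simp only [mem_map, mem_centralizer_singleton_iff, mem_inf, ct_zp,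
    commutatorElement_eq_one_iff_mul_comm]
  exact ⟨fun ⟨t, a, b⟩ => b ▸ ⟨t.2, congrArg Subtype.val a⟩, fun a => ⟨⟨y, a.1⟩, Subtype.ext a.2, rfl⟩⟩

theorem exp_Q (c : Nat.card Q = p ^ (m + 2)) (a : Lv Q v (m + 1) x) (m0 : m ≠ 0) (p3 : p ≠ 3)
    (hg : g ∈ Nm S) (e : (k * (2 : ℤ) : ZMod p) = 1) (w0 : ∀ y ∈ Z, W g y ⊥ k) (w : W g v Z 2) :
    ∀ y ∈ Q, y ^ p = 1 := by
  obtain ⟨U, hU⟩ := h.exists_om
  have zU : Z ≤ U := fun z hz => (hU z).2 ⟨h.lZ hz, h.pZ hz⟩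
  have uQ : U ≤ Q := fun z hz => ((hU z).1 hz).1
  have nU : S ≤ Nm U := fun s hs => mem_Nm_of_conj fun z hz => (hU _).2
    ⟨conj_mem_of_Nm (h.nQ hs) (uQ hz), by rw [h.pi_cj hs (uQ hz), ((hU z).1 hz).2]⟩
  have b := a.down h
  have bU : ⁅v, x⁆ ∈ U := (hU _).2 ⟨b.1.1, h.pi_com h.hv a.1.1⟩
  obtain ⟨n, rfl⟩ := Nat.exists_eq_succ_of_ne_zero m0
  have l1 : ch Q v (n + 1 + 1) ≤ U := (ch_sp h c (by omega)).le_of
    ((h.chain zU uQ nU (ch_succ h n).1 (ch_le _) (ch_nm h _)).resolve_left fun r => b.2 (r bU))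
    b.1 b.2 bU
  have w' := (weights h c a hg e w0 w).1
  have sp := ch_sp h c (i := n + 1 + 1) (by omega)
  have xp : x ^ p = 1 := by
    by_contra r
    have m := h.pw x a.1.1
    have u : W g (x ^ p) ⊥ 2 := by
      have := h.pi_mul (Q.zpow_mem a.1.1 2) (uQ (l1 w'))
      rw [mul_inv_cancel_left, ((hU _).1 (l1 w')).2, mul_one, conj_pow] at this
      rw [W, this, ← zpow_natCast, ← zpow_natCast, ← zpow_mul, ← zpow_mul, mul_comm, inv_mul_cancel]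
      exact one_mem _
    have e1 := u.uniq (w0 _ m) (fun t => r (mem_bot.1 t)) (h.sZ.pow m)
    rw [← e1] at e
    push_cast at e
    exact p3 (eq_three (by linear_combination e))
  intro y hy
  exact ((hU y).1 (sp.le_of l1 a.1 a.2 ((hU x).2 ⟨a.1.1, xp⟩) ((ch_top h c).ge hy))).2

omit h hp in
theorem jobB1W : JobB1W.{u} := fun Ω _ _ p hp S Q Z v h H => by
  obtain ⟨n, c⟩ := card_pow h.pg h.lQ
  have n5 : 5 ≤ n := (Nat.pow_le_pow_iff_right hp.out.one_lt).1 (c ▸ h.big)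
  obtain ⟨m, rfl⟩ : ∃ m, n = m + 2 := ⟨n - 2, by omega⟩
  obtain ⟨x, a⟩ : ∃ x, Lv Q v (m + 1) x := (ch_sp h c (by omega)).ex
  have dv : p - 1 ∣ m + 3 := by
    rw [← ZMod.card p]
    refine (FiniteField.forall_pow_eq_one_iff (ZMod p) _).1 fun t => Units.ext ?_
    obtain ⟨l, e⟩ := ZMod.intCast_surjective (t : ZMod p)
    obtain ⟨k, e'⟩ := exists_inv (e ▸ t.ne_zero)
    obtain ⟨g, hg, w0, w⟩ := H k l (mul_comm (k : ZMod p) l ▸ e')
    rw [Units.val_pow_eq_pow_val, ← e]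
    exact (weights h c a hg (mul_comm (k : ZMod p) l ▸ e') w0 w).2
  have lt := le_p h c a
  have p2 := hp.out.two_le
  have e : m + 3 = p - 1 := by
    obtain ⟨t, e⟩ := dv
    have p4 : p ≠ 4 := fun r => absurd (r ▸ hp.out) (by norm_num)
    rcases t with _ | _ | t
    · omega
    · omega
    · rw [show (p - 1) * (t + 1 + 1) = (p - 1) * t + 2 * (p - 1) by ring] at e
      omega
  have p7 : 7 ≤ p := by omega
  have cS : Nat.card S = p ^ (m + 1 + 2) := h.sp.card_up c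
  have cl := H9.nilpotencyClass_eq_of_card_centralizer _ S cS _ (card_ctv h)
  obtain ⟨k, e'⟩ := exists_inv (two_ne h.odd)
  obtain ⟨g, hg, w0, w⟩ := H k 2 (mul_comm (k : ZMod p) _ ▸ e')
  have ex := exp_Q h c a (by omega) (by omega) hg (mul_comm (k : ZMod p) _ ▸ e') w0 w
  have := h.pg.isNilpotent
  have R : H19.RegAt p 1 S := H19.regAt_one_of_class_lt
    (Subgroup.lowerCentralSeries_eq_bot_iff_nilpotencyClass_le.2 (by omega))
  have exS : ∀ y ∈ S, y ^ p = 1 := fun y hy => by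
    obtain ⟨t, ht, rfl⟩ := h.sp.le_of (K := (R.omega h.pg 1).map S.subtype) (fun q hq =>
      ⟨⟨q, h.lQ hq⟩, Subtype.ext (by simpa using ex q hq), rfl⟩) h.hv h.nv
      ⟨⟨v, h.hv⟩, Subtype.ext (by simpa using h.pv), rfl⟩ hy
    simpa using congrArg Subtype.val ((R.mem_omega h.pg).1 ht)
  refine ⟨p7, by rw [cS, ← e], exS, by omega, fun r => ?_⟩
  obtain rfl : m = 3 := by omega
  obtain ⟨d, b⟩ : ∃ d, Lv Q v 1 d := (ch_sp h c (by omega)).ex
  obtain ⟨k1, k2⟩ := ct_d h c b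
  obtain ⟨y, hy, ny⟩ : ∃ y ∈ S ⊓ Ct (zpowers d), y ∉ Q := SetLike.not_le_iff_exists.1 fun l => by
    have t := ch_tv h c (i := 1) (by omega)
    rw [ch_one h] at t
    have := (h.card_ct le_rfl fun s hs => com_of_tv (t hs) b.1).trans (Nat.mul_le_mul_left _
      (card_le_of_le fun s hs => k1.le ⟨l hs, k2 s hs.1 (ct_zp.1 hs.2)⟩))
    rw [cS, ch_card h c _ (by omega), ← pow_succ'] at this
    exact absurd ((Nat.pow_le_pow_iff_right hp.out.one_lt).1 this) (by norm_num)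
  have b3 := ((a.down' h hy.1 ny).down' h hy.1 ny).down' h hy.1 ny
  exact ⟨y, x, h.toXS, c, ex, hy.1, ny, exS y hy.1, a.1.1, fun r => b3.2 ((ch_one h).ge r),
    com_ct (k2 y hy.1 (ct_zp.1 hy.2)) b3.1⟩

end H27.XP
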