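import Cfsg.Agent.H87.XPT
import Cfsg.Agent.H9.Coord

/-! XP tower, job B1W, part 1: the chain of normal subgroups and the weights. -/

set_option autoImplicit false
set_option linter.unusedSectionVars false

namespace H27.XP
open Cfsg H92 H93 Subgroup H92.Es H92.P5 H87.F3 H87.XP
open scoped commutatorElement

universe u

variable {Ω : Type u} [Group Ω] {S Q Z X : Subgroup Ω} {d g s v x y : Ω} {p i j m : ℕ} {k l μ : ℤ}

/-- the ascending chain -/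
def ch (Q : Subgroup Ω) (v : Ω) : ℕ → Subgroup Ω
  | 0 => ⊥
  | i + 1 => Q ⊓ Cm v (ch Q v i)

/-- `y` lies on level `i` -/
def Lv (Q : Subgroup Ω) (v : Ω) (i : ℕ) (y : Ω) : Prop := y ∈ ch Q v (i + 1) ∧ y ∉ ch Q v i

variable [hp : Fact p.Prime] [Finite Ω] (h : PL p S Q Z v)
include h

theorem ch_one : ch Q v 1 = Z := le_antisymm
  (fun _ hy => h.cq ⟨hy.1, ct_zp.2 (mem_bot.1 hy.2.2)⟩) fun _ hy =>
    ⟨h.lZ hy, nm_bot _, com_symm (mem_bot.2 (h.com_Z h.hv hy))⟩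

theorem ch_succ (i : ℕ) : Z ≤ ch Q v (i + 1) ∧ S ≤ Nm (ch Q v (i + 1)) := by
  induction i with
  | zero => rw [zero_add, ch_one h]; exact ⟨le_rfl, h.nZ⟩
  | succ i ih =>
    exact ⟨ih.1.trans (h.le_cm inf_le_left ih.2), h.nm_cm ih.2 ih.1 inf_le_left⟩

theorem ch_nm (i : ℕ) : S ≤ Nm (ch Q v i) := by
  rcases i with _ | i
  · exact fun g _ => nm_bot g
  · exact (ch_succ h i).2

omit h in
theorem ch_le (i : ℕ) : ch Q v i ≤ Q := by
  rcases i with _ | i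
  · exact bot_le
  · exact inf_le_left

theorem mem_ch (hy : y ∈ Q) : y ∈ ch Q v (i + 1) ↔ ⁅v, y⁆ ∈ ch Q v i :=
  ⟨fun e => com_symm e.2.2, fun e => ⟨hy, ch_nm h i (h.lQ hy), com_symm e⟩⟩

theorem mem_ch' (hs : s ∈ S) (ns : s ∉ Q) (hy : y ∈ Q) :
    y ∈ ch Q v (i + 2) ↔ ⁅s, y⁆ ∈ ch Q v (i + 1) := by
  rw [mem_ch h hy]
  exact ⟨fun e => com_symm (h.cm_all (ch_succ h i).1 (ch_nm h _) h.hv h.nv hy (com_symm e) hs),
    fun e => com_symm (h.cm_all (ch_succ h i).1 (ch_nm h _) hs ns hy (com_symm e) h.hv)⟩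

theorem ch_sp' (r : ¬ Q ≤ ch Q v i) : Sp p (ch Q v (i + 1)) (ch Q v i) := by
  rcases i with _ | i
  · rw [zero_add, ch_one h]; exact h.sZ
  · exact (h.next (ch_succ h i).1 (ch_nm h _) le_rfl (ch_le _) h.nQ r).1

theorem ch_card (c : Nat.card Q = p ^ m) (i : ℕ) (e : i ≤ m) : Nat.card (ch Q v i) = p ^ i := by
  induction i with
  | zero => simp [ch]
  | succ i ih => exact (ch_sp' h (not_le_of_card c (ih (by omega)) e)).card_up (ih (by omega))

theorem ch_sp (c : Nat.card Q = p ^ m) (e : i < m) : Sp p (ch Q v (i + 1)) (ch Q v i) :=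
  ch_sp' h (not_le_of_card c (ch_card h c i e.le) e)

theorem ch_top (c : Nat.card Q = p ^ m) : ch Q v m = Q :=
  eq_of_le_of_card_ge (ch_le m) (by rw [ch_card h c m le_rfl, c])

theorem ch_tv (c : Nat.card Q = p ^ m) (e : i < m) : S ≤ Tv (ch Q v (i + 1)) (ch Q v i) :=
  fun _ hs => (ch_sp h c e).tv h.pg ((ch_le _).trans h.lQ) hs (ch_nm h _ hs) (ch_nm h _ hs)

theorem ch_nm' (hg : g ∈ Nm S) (i : ℕ) : g ∈ Nm (ch Q v i) := by
  rcases i with _ | i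
  · exact nm_bot g
  refine mem_Nm_of_le (h.le_of_card ?_ ?_ ?_ (ch_succ h i).1 (ch_le _) (ch_nm h _) (card_cj _ _).le)
  · exact cj_eq_of_Nm (h.nm_Z hg) ▸ cj_mono g (ch_succ h i).1
  · exact (cj_mono g (ch_le _)).trans (cj_eq_of_Nm (h.nm_Q hg)).le
  · rw [← cj_Nm]; exact cj_eq_of_Nm hg ▸ cj_mono g (ch_nm h _)

theorem Lv.down (a : Lv Q v (i + 1) y) : Lv Q v i ⁅v, y⁆ :=
  ⟨(mem_ch h a.1.1).1 a.1, fun e => a.2 ((mem_ch h a.1.1).2 e)⟩

theorem Lv.down' (hs : s ∈ S) (ns : s ∉ Q) (a : Lv Q v (i + 2) y) : Lv Q v (i + 1) ⁅s, y⁆ :=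
  ⟨(mem_ch' h hs ns a.1.1).1 a.1, fun e => a.2 ((mem_ch' h hs ns a.1.1).2 e)⟩

theorem Lv.iter (a : Lv Q v (i + j) y) : Lv Q v i ((fun t => ⁅v, t⁆)^[j] y) := by
  induction j generalizing y with
  | zero => exact a
  | succ j ih => exact ih (a.down h)

theorem Lv.wt (c : Nat.card Q = p ^ m) (e : i + 1 < m) (a : Lv Q v (i + 1) y) (w : W g v Z l)
    (w' : W g y (ch Q v (i + 1)) μ) : W g ⁅v, y⁆ (ch Q v i) (l * μ) := by
  have t := ch_tv h c (Nat.lt_of_succ_lt e)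
  have b := (a.down h).1
  have yS := h.lQ a.1.1
  refine W.comm w w' h.hv a.1 (ch_sp h c e).le (ch_nm h i h.hv) (ch_nm h i yS) (fun z hz => ?_)
    (tv_symm ((ch_le _).trans (h.lQ.trans (ch_nm h i))) t) (com_of_tv (t h.hv) b)
    (com_of_tv (t yS) b)
  exact mem_Tv_of_Ct (le_Ct_comm.1 (((ch_le _).trans h.lQ).trans h.cen) hz) (ch_nm h i (h.lS hz))

theorem Lv.wt_iter (c : Nat.card Q = p ^ m) (e : i + j < m) (a : Lv Q v (i + j) y) (w : W g v Z l)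
    (w' : W g y (ch Q v (i + j)) μ) : W g ((fun t => ⁅v, t⁆)^[j] y) (ch Q v i) (l ^ j * μ) := by
  induction j generalizing y μ with
  | zero => simpa using w'
  | succ j ih =>
    rw [pow_succ, mul_assoc]
    exact ih (by omega) (a.down h) (a.wt h c e w w')

theorem iter_p (hy : y ∈ Q) : (fun t => ⁅v, t⁆)^[p] y ∈ Z := by
  obtain ⟨n, π, c, -⟩ := H9.exists_coord p (Q := Q) (B := Z) (fun _ a _ b => h.com a b) h.pw
  have nv := h.nQ h.hv
  obtain ⟨L, hL⟩ := c.exists_lin (p := p) (f := fun t => v * t * v⁻¹) (fun a _ b _ => by group)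
    (fun _ a => conj_mem_of_Nm nv a) fun _ _ a => conj_mem_of_Nm (h.nZ h.hv) a
  have e1 : ∀ n, ∀ y ∈ Q, (L ^ n) (π y) = π (v ^ n * y * (v ^ n)⁻¹) := fun n => by
    induction n with
    | zero => intro y _; simp
    | succ n ih =>
      intro y hy
      rw [pow_succ, Module.End.mul_apply, hL y hy, ih _ (conj_mem_of_Nm nv hy), pow_succ]
      congr 1; group
  have e2 : ∀ n, ∀ y ∈ Q, (fun t => ⁅v, t⁆)^[n] y ∈ Q ∧
      ((L - 1) ^ n) (π y) = π ((fun t => ⁅v, t⁆)^[n] y) := fun n => by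
    induction n with
    | zero => intro y hy; exact ⟨hy, rfl⟩
    | succ n ih =>
      intro y hy
      have := ih _ (h.com_Q h.hv hy)
      refine ⟨this.1, ?_⟩
      rw [pow_succ, Module.End.mul_apply, LinearMap.sub_apply, hL y hy, Module.End.one_apply,
        sub_eq_add_neg (π _), ← c.inv hy, ← c.add _ (conj_mem_of_Nm nv hy) _ (inv_mem hy)]
      exact this.2
  obtain ⟨r, e⟩ := (Commute.one_right (L - 1)).exists_add_pow_prime_eq hp.out
  have z : ((p : ℕ) : Module.End (ZMod p) (Fin n → ZMod p)) = 0 := by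
    rw [← map_natCast (algebraMap (ZMod p) _), ZMod.natCast_self, map_zero]
  rw [z, zero_mul, zero_mul, zero_mul, add_zero, sub_add_cancel, one_pow] at e
  have := e1 p y hy
  rw [e, h.pv, LinearMap.add_apply, (e2 p y hy).2, one_mul, inv_one, mul_one, Module.End.one_apply,
    add_eq_right] at this
  exact (c.ker _ (e2 p y hy).1).1 this

theorem ct_d (c : Nat.card Q = p ^ (m + 2)) (a : Lv Q v 1 d) :
    Q ⊓ Ct (ch Q v 2) = ch Q v (m + 1) ∧ ∀ s ∈ S, ⁅s, d⁆ = 1 → s ∈ Ct (ch Q v 2) := by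
  have s2 := ch_sp h c (i := 1) (by omega)
  have k : ∀ s ∈ S, ⁅s, d⁆ = 1 → s ∈ Ct (ch Q v 2) := fun s hs e =>
    s2.ct_of (by rw [ch_one h]; exact h.cen hs) a.1 a.2 e
  refine ⟨?_, k⟩
  have z : Z ≤ Q ⊓ Ct (ch Q v 2) := le_inf h.lZ (le_Ct_comm.1 (((ch_le _).trans h.lQ).trans h.cen))
  have n : S ≤ Nm (Q ⊓ Ct (ch Q v 2)) := fun _ hs => mem_Nm_inf (h.nQ hs) (mem_Nm_Ct (ch_nm h _ hs))
  have sp := ch_sp h c (i := m + 1) (by omega)
  rw [ch_top h c] at sp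
  refine sp.eq_of' (h.le_of_card (ch_succ h m).1 (ch_le _) (ch_nm h _) z inf_le_left n ?_)
    inf_le_left fun e => a.2 ?_
  · refine Nat.le_of_mul_le_mul_left (sp.card.ge.trans ((h.card_ct' le_rfl a.1.1).trans
      (Nat.mul_le_mul_left _ (card_le_of_le fun s hs => ?_)))) hp.out.pos
    exact ⟨hs.1, k s (h.lQ hs.1) (ct_zp.1 hs.2)⟩
  · rw [ch_one h]
    exact h.ctr ⟨a.1.1, le_Ct_comm.1 (e.trans inf_le_right) a.1⟩

end H27.XP
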